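import Groth.Agent.H20.FibreDimSet
import Groth.Agent.Lib.FibreDim.Chart
import Mathlib.AlgebraicGeometry.Pullbacks

/-!
# The local fibre dimension is invariant under base change
-/

universe u

open CategoryTheory Limits AlgebraicGeometry TensorProduct
open Groth.Agent.Lib.FibreDim

namespace Groth.Agent.H2.FibreDimPullback

theorem fibreDimAt_eq_fdim {X Y : Scheme.{u}} {R A : Type u} [CommRing R] [CommRing A] [Algebra R A]
    [Algebra.FiniteType R A] (f : X ⟶ Y) (v : Spec (CommRingCat.of R) ⟶ Y) [IsOpenImmersion v]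
    (w : Spec (CommRingCat.of A) ⟶ X) [IsOpenImmersion w]
    (hw : Spec.map (CommRingCat.ofHom (algebraMap R A)) ≫ v = w ≫ f) (P : PrimeSpectrum A) :
    FlatMor.fibreDimAt f (w.base P) = (H20.FibreDimBC.fdim R A P.asIdeal : WithBot ℕ∞) :=
  (Chart.fibreDimAt_eq_dimAt f v w hw P).trans rfl

/-- The local fibre dimension does not change under base change. -/
theorem fibreDimAt_of_isPullback {X Y X' Y' : Scheme.{u}} {f : X ⟶ Y} {f' : X' ⟶ Y'} {a : X' ⟶ X}
    {b : Y' ⟶ Y} [LocallyOfFiniteType f] (h : IsPullback a f' f b) (x : X') :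
    FlatMor.fibreDimAt f' x = FlatMor.fibreDimAt f (a x) := by
  obtain ⟨R, A, _, _, _, _, v, w, _, _, P, hw, hP, -⟩ := Chart.exists_chart f (a x) ⊤ trivial
  have hx : f' x ∈ b ⁻¹ᵁ v.opensRange := by
    refine ⟨PrimeSpectrum.comap (algebraMap R A) P, ?_⟩
    show v _ = b (f' x)
    rw [← Scheme.Hom.comp_apply _ b, ← h.w, Scheme.Hom.comp_apply, ← hP]
    exact (Chart.apply_eq f v w hw P).symm
  obtain ⟨W, hW, hxW, hWle⟩ := exists_isAffineOpen_mem_and_subset hx
  let R' := Γ(Y', W)
  have hr : Set.range (hW.fromSpec ≫ b) ⊆ Set.range v := by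
    rintro _ ⟨z, rfl⟩
    have : hW.fromSpec z ∈ W := hW.range_fromSpec.le ⟨z, rfl⟩
    exact hWle this
  let j : Spec R' ⟶ Spec (CommRingCat.of R) := IsOpenImmersion.lift v (hW.fromSpec ≫ b) hr
  obtain ⟨ψ, hψ⟩ := Spec.map_surjective j
  letI : Algebra R R' := ψ.hom.toAlgebra
  have hj : Spec.map (CommRingCat.ofHom (algebraMap R R')) ≫ v = hW.fromSpec ≫ b := by
    rw [show Spec.map (CommRingCat.ofHom (algebraMap R R')) = j from hψ]
    exact IsOpenImmersion.lift_fac _ _ _
  let φA := Spec.map (CommRingCat.ofHom (algebraMap R A))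
  let φR := Spec.map (CommRingCat.ofHom (algebraMap R R'))
  let e := pullbackSpecIso R R' A
  haveI := hW.isOpenImmersion_fromSpec
  let m : pullback φR φA ⟶ pullback b f := pullback.map φR φA b f hW.fromSpec w v hj hw
  haveI : IsOpenImmersion m := inferInstanceAs (IsOpenImmersion (pullback.map _ _ _ _ _ _ _ _ _))
  let w' : Spec (CommRingCat.of (R' ⊗[R] A)) ⟶ X' := e.inv ≫ m ≫ h.flip.isoPullback.inv
  have hw' : Spec.map (CommRingCat.ofHom (algebraMap R' (R' ⊗[R] A))) ≫ hW.fromSpec = w' ≫ f' := by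
    simp only [w', Category.assoc, h.flip.isoPullback_inv_fst, m, pullback.lift_fst, e, φR, φA,
      pullback.map, pullbackSpecIso_inv_fst'_assoc]
  have hwa : w' ≫ a = Spec.map (CommRingCat.ofHom
      (Algebra.TensorProduct.includeRight (R := R) (A := R') (B := A)).toRingHom) ≫ w := by
    simp only [w', Category.assoc, h.flip.isoPullback_inv_snd, m, pullback.lift_snd, e, φR, φA,
      pullback.map, pullbackSpecIso_inv_snd_assoc]
    rfl
  -- the point
  obtain ⟨t, ht⟩ : ∃ t, hW.fromSpec t = f' x :=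
    ⟨_, hW.fromSpec_primeIdealOf ⟨f' x, hxW⟩⟩
  have hmem : (h.flip.isoPullback.hom x) ∈ Set.range m := by
    rw [Scheme.Pullback.range_map]
    constructor
    · refine ⟨t, ?_⟩
      rw [← Scheme.Hom.comp_apply, h.flip.isoPullback_hom_fst, ht]
    · refine ⟨P, ?_⟩
      rw [← Scheme.Hom.comp_apply, h.flip.isoPullback_hom_snd, ← hP]
  obtain ⟨z, hz⟩ := hmem
  let P' : PrimeSpectrum (R' ⊗[R] A) := e.hom z
  have hP' : w'.base P' = x := by
    show (e.inv ≫ m ≫ h.flip.isoPullback.inv) (e.hom z) = x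
    rw [← Scheme.Hom.comp_apply, Iso.hom_inv_id_assoc, Scheme.Hom.comp_apply, hz,
      ← Scheme.Hom.comp_apply, Iso.hom_inv_id]
    rfl
  have hcomap : PrimeSpectrum.comap
      (Algebra.TensorProduct.includeRight (R := R) (A := R') (B := A)).toRingHom P' = P := by
    refine w.isOpenEmbedding.injective ?_
    rw [hP, ← hP']
    exact (congr($hwa P')).symm
  rw [← hP', fibreDimAt_eq_fdim f' hW.fromSpec w' hw' P', H20.FibreDimBC.fdim_baseChange,
    hP', ← hP, fibreDimAt_eq_fdim f v w hw P]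
  congr 2
  · exact congrArg PrimeSpectrum.asIdeal hcomap

end Groth.Agent.H2.FibreDimPullback
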