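import Groth.Prelude.Def_AdFn

/-!
# Elements of the completion are approximated by elements of the function field
-/

universe u

open AdFn

namespace Groth.Agent.H2

variable {k K : Type u} [Field k] [Field K] [Algebra k K]

/-- `K_v = K + O_v`. -/
theorem exists_sub_mem_Ov (v : FunFld.Place k K) (a : Kv v) : ∃ x : K, a - toKv v x ∈ Ov v := by
  have ho : IsOpen {z : Kv v | a - z ∈ Ov v} := (isOpen_Ov v).preimage (by fun_prop)
  obtain ⟨w, hw⟩ := (UniformSpace.Completion.denseRange_coe (α := WithVal v.1)).exists_mem_open ho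
    ⟨a, by simp⟩
  exact ⟨w.ofVal, by rw [toKv_apply]; exact hw⟩

theorem toKv_mem_Ov_iff_mem (v : FunFld.Place k K) (x : K) :
    toKv v x ∈ Ov v ↔ x ∈ SInt ({v} : Set (FunFld.Place k K))ᶜ := by
  rw [toKv_mem_Ov, mem_SInt]
  exact ⟨fun h w hw => by obtain rfl : w = v := not_not.mp hw; exact h, fun h => h v (by simp)⟩

end Groth.Agent.H2
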