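import Mathlib.RingTheory.PowerSeries.Substitution
import Mathlib.RingTheory.PowerSeries.Trunc
import Mathlib.Algebra.MvPolynomial.Coeff
import Mathlib.Data.Nat.Choose.Lucas
import Mathlib.Data.Nat.Factorial.NatCast
import Mathlib.Algebra.CharP.Lemmas
import Mathlib.Algebra.CharP.Algebra
import Mathlib.Tactic.LinearCombination
import Mathlib.Tactic.FinCases
import Mathlib.Tactic.FieldSimp

/-!
# Characters of the additive group: coefficient description
-/

namespace Groth.Agent.H2.Chars

open Finset
open scoped Nat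

universe u v w

variable {p : ℕ}

/-- truncated exponential -/
noncomputable def texp (p : ℕ) {B : Type*} [CommRing B] (u : B) : B :=
  ∑ j ∈ range p, Ring.inverse (j ! : B) * u ^ j

lemma inverse_map {A B : Type*} [CommRing A] [CommRing B] (f : A →+* B) {x : A} (hx : IsUnit x) :
    f (Ring.inverse x) = Ring.inverse (f x) := by
  obtain ⟨w, rfl⟩ := hx
  simpa using (Ring.inverse_unit (Units.map (f : A →* B) w)).symm

lemma texp_map {A B : Type*} [CommRing A] [CommRing B] (f : A →+* B)
    (hA : ∀ j < p, IsUnit (j ! : A)) (u : A) : f (texp p u) = texp p (f u) := by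
  simp only [texp, map_sum, map_mul, map_pow]
  refine sum_congr rfl fun j hj => ?_
  rw [inverse_map f (hA j (mem_range.1 hj)), map_natCast]

lemma texp_zero {B : Type*} [CommRing B] (hp : 0 < p) : texp p (0 : B) = 1 := by
  obtain ⟨q, rfl⟩ := Nat.exists_eq_succ_of_ne_zero hp.ne'
  simp [texp, sum_range_succ']

lemma texp_add {B : Type*} [CommRing B] (hB : ∀ j < p, IsUnit (j ! : B)) (u v : B)
    (huv : ∀ i < p, ∀ j < p, p ≤ i + j → u ^ i * v ^ j = 0) :
    texp p (u + v) = texp p u * texp p v := by
  have h1 : texp p (u + v) = ∑ x ∈ (range p ×ˢ range p).filter (fun x => x.1 + x.2 < p),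
      (Ring.inverse (x.1 ! : B) * u ^ x.1) * (Ring.inverse (x.2 ! : B) * v ^ x.2) := by
    rw [← sum_fiberwise_of_maps_to (s := (range p ×ˢ range p).filter (fun x => x.1 + x.2 < p))
      (t := range p) (g := fun x => x.1 + x.2) (fun x hx => mem_range.2 (mem_filter.1 hx).2)]
    refine sum_congr rfl fun k hk => ?_
    have hk' := mem_range.1 hk
    have hset : ((range p ×ˢ range p).filter (fun x => x.1 + x.2 < p)).filter
        (fun x => x.1 + x.2 = k) = antidiagonal k := by
      ext ⟨i, j⟩
      simp only [mem_filter, mem_product, mem_range, mem_antidiagonal]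
      omega
    rw [hset, (Commute.all u v).add_pow', mul_sum]
    refine sum_congr rfl fun x hx => ?_
    rw [nsmul_eq_mul, Nat.castChoose_eq (hB k hk') hx]
    have := Ring.inverse_mul_cancel (k ! : B) (hB k hk')
    linear_combination (Ring.inverse (x.1 ! : B) * u ^ x.1) * (Ring.inverse (x.2 ! : B) * v ^ x.2) * this
  rw [h1, texp, texp, sum_mul_sum, ← sum_product']
  refine sum_subset (filter_subset _ _) fun x hx hx' => ?_
  simp only [mem_filter, hx, true_and, not_lt] at hx'
  rw [mem_product, mem_range, mem_range] at hx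
  linear_combination (Ring.inverse (x.1 ! : B) * Ring.inverse (x.2 ! : B)) * huv _ hx.1 _ hx.2 hx'

/-- The product of truncated exponentials. -/
noncomputable def expProd {A : Type*} [CommRing A] (p : ℕ) (a : ℕ → A) (m : ℕ) : Polynomial A :=
  ∏ n ∈ range m, ∑ j ∈ range p,
    Polynomial.C (Ring.inverse (j ! : A) * a n ^ j) * Polynomial.X ^ (j * p ^ n)

section CharP

variable {A : Type u} [CommRing A] [hp : Fact p.Prime] [CharP A p]

lemma isUnit_fact (B : Type*) [CommRing B] [Algebra A B] {j : ℕ} (hj : j < p) :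
    IsUnit (j ! : B) := by
  have : IsUnit (j ! : A) := (IsUnit.natCast_factorial_iff_of_charP p).2 hj
  simpa using this.map (algebraMap A B)

lemma natCast_p_eq_zero (B : Type*) [CommRing B] [Algebra A B] : (p : B) = 0 := by
  rw [← map_natCast (algebraMap A B), CharP.cast_eq_zero, map_zero]

lemma add_pow_p_pow {B : Type*} [CommRing B] [Algebra A B] (x y : B) (n : ℕ) :
    (x + y) ^ p ^ n = x ^ p ^ n + y ^ p ^ n := by
  obtain ⟨r, hr⟩ := exists_add_pow_prime_pow_eq hp.out x y n
  rw [hr, natCast_p_eq_zero (A := A) B]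
  ring

lemma aeval_expProd {B : Type*} [CommRing B] [Algebra A B] (a : ℕ → A) (m : ℕ) (w : B) :
    Polynomial.aeval w (expProd p a m) =
      ∏ n ∈ range m, texp p (algebraMap A B (a n) * w ^ p ^ n) := by
  simp only [expProd, map_prod, map_sum, texp]
  refine prod_congr rfl fun n _ => sum_congr rfl fun j hj => ?_
  rw [map_mul, Polynomial.aeval_C, map_mul, map_pow, map_pow, Polynomial.aeval_X,
    inverse_map _ (isUnit_fact (A := A) A (mem_range.1 hj)), map_natCast, mul_pow, ← pow_mul]
  ring_nf

lemma aeval_expProd_add {B : Type*} [CommRing B] [Algebra A B] (a : ℕ → A) (m : ℕ)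
    (ha : ∀ n < m, a n ^ p = 0) (x y : B) :
    Polynomial.aeval (x + y) (expProd p a m) =
      Polynomial.aeval x (expProd p a m) * Polynomial.aeval y (expProd p a m) := by
  rw [aeval_expProd, aeval_expProd, aeval_expProd, ← prod_mul_distrib]
  refine prod_congr rfl fun n hn => ?_
  rw [add_pow_p_pow (A := A), mul_add]
  refine texp_add (fun j hj => isUnit_fact (A := A) B hj) _ _ fun i _ j _ hij => ?_
  rw [mul_pow, mul_pow, mul_mul_mul_comm, ← pow_add, ← map_pow,
    pow_eq_zero_of_le hij (ha n (mem_range.1 hn)), map_zero, zero_mul]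

lemma eval_zero_expProd (a : ℕ → A) (m : ℕ) : (expProd p a m).eval 0 = 1 := by
  rw [← Polynomial.coe_aeval_eq_eval, aeval_expProd]
  refine prod_eq_one fun n _ => ?_
  rw [zero_pow (pow_ne_zero _ hp.out.ne_zero), mul_zero, texp_zero hp.out.pos]

/-- Lucas, in the form we need. -/
lemma choose_split (m n k : ℕ) :
    (n.choose k : A) = (n / p ^ m).choose (k / p ^ m) * (n % p ^ m).choose (k % p ^ m) := by
  have hq : 0 < p ^ m := pow_pos hp.out.pos m
  have h1 := Choose.choose_modEq_choose_mul_prod_range_choose (p := p) (n := n) (k := k) m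
  have h2 := Choose.choose_modEq_prod_range_choose (p := p) (Nat.mod_lt n hq) (Nat.mod_lt k hq)
  have digit : ∀ x i : ℕ, i < m → x % p ^ m / p ^ i % p = x / p ^ i % p := by
    intro x i hi
    rw [← Nat.mod_mul_right_div_self, ← Nat.mod_mul_right_div_self, ← pow_succ,
      Nat.mod_mod_of_dvd _ (pow_dvd_pow p hi)]
  have h3 := (CharP.intCast_eq_intCast A p).2 h1
  have h4 := (CharP.intCast_eq_intCast A p).2 h2
  push_cast at h3 h4
  rw [h3, h4]
  congr 1
  refine prod_congr rfl fun i hi => ?_
  rw [digit n i (mem_range.1 hi), digit k i (mem_range.1 hi)]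

/-- Core: coefficients satisfying the functional equation below `p ^ M`. -/
theorem core (c : ℕ → A) (M : ℕ) (hc0 : c 0 = 1)
    (h : ∀ i j, i < p ^ M → j < p ^ M → ((i + j).choose i : A) * c (i + j) = c i * c j) :
    (∀ n < M, c (p ^ n) ^ p = 0) ∧ ∀ m ≤ M, ∀ k,
      (expProd p (fun n => c (p ^ n)) m).coeff k = if k < p ^ m then c k else 0 := by
  have hpp := hp.out
  have hmult : ∀ m < M, ∀ r < p, (r ! : A) * c (r * p ^ m) = c (p ^ m) ^ r := by
    intro m hm r
    induction r with
    | zero => intro; simp [hc0]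
    | succ r ih =>
      intro hr
      have hq : 0 < p ^ m := pow_pos hpp.pos m
      have hlt : p * p ^ m ≤ p ^ M := by rw [← pow_succ']; exact pow_le_pow_right₀ hpp.one_lt.le hm
      have h1 : r * p ^ m < p ^ M :=
        lt_of_lt_of_le (mul_lt_mul_of_pos_right (by omega) hq) hlt
      have h2 : p ^ m < p ^ M := Nat.pow_lt_pow_right hpp.one_lt hm
      have h3 := h _ _ h1 h2
      have h4 : (((r * p ^ m + p ^ m).choose (r * p ^ m) : ℕ) : A) = ((r + 1 : ℕ) : A) := by
        rw [choose_split (p := p) m, show r * p ^ m + p ^ m = (r + 1) * p ^ m by ring,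
          Nat.mul_div_cancel _ hq, Nat.mul_div_cancel _ hq, Nat.mul_mod_left, Nat.mul_mod_left]
        simp
      rw [h4, show r * p ^ m + p ^ m = (r + 1) * p ^ m by ring] at h3
      rw [pow_succ, ← ih (by omega), Nat.factorial_succ]
      push_cast at h3 ⊢
      linear_combination (r ! : A) * h3
  have hap : ∀ n < M, c (p ^ n) ^ p = 0 := by
    intro n hn
    have hq : 0 < p ^ n := pow_pos hpp.pos n
    have hlt : p * p ^ n ≤ p ^ M := by rw [← pow_succ']; exact pow_le_pow_right₀ hpp.one_lt.le hn
    have h1 : (p - 1) * p ^ n < p ^ M :=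
      lt_of_lt_of_le (mul_lt_mul_of_pos_right (by have := hpp.pos; omega) hq) hlt
    have h3 := h _ _ h1 (Nat.pow_lt_pow_right hpp.one_lt hn)
    have h4 : ((((p - 1) * p ^ n + p ^ n).choose ((p - 1) * p ^ n) : ℕ) : A) = 0 := by
      rw [choose_split (p := p) n,
        show (p - 1) * p ^ n + p ^ n = p * p ^ n by
          rw [Nat.sub_one_mul, Nat.sub_add_cancel (Nat.le_mul_of_pos_left _ hpp.pos)],
        Nat.mul_div_cancel _ hq, Nat.mul_div_cancel _ hq, Nat.mul_mod_left, Nat.mul_mod_left,
        Nat.choose_symm_of_eq_add (show p = p - 1 + 1 by have := hpp.pos; omega)]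
      simp
    rw [h4, zero_mul] at h3
    have h5 := hmult n hn (p - 1) (by have := hpp.pos; omega)
    conv_lhs => rw [show p = p - 1 + 1 by have := hpp.pos; omega]
    rw [pow_succ, show p - 1 + 1 = p by have := hpp.pos; omega, ← h5, mul_assoc, ← h3, mul_zero]
  refine ⟨hap, fun m => ?_⟩
  induction m with
  | zero =>
    intro _ k
    simp only [expProd, range_zero, prod_empty, Polynomial.coeff_one, pow_zero, Nat.lt_one_iff]
    split_ifs with hk <;> simp [hk, hc0]
  | succ m ih =>
    intro hm k
    have hq : 0 < p ^ m := pow_pos hpp.pos m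
    simp only [expProd] at ih ⊢
    rw [prod_range_succ, mul_sum, Polynomial.finsetSum_coeff]
    simp_rw [← mul_assoc, Polynomial.coeff_mul_X_pow', Polynomial.coeff_mul_C]
    have key : ∀ r ∈ range p, ∀ (_ : r * p ^ m ≤ k) (_ : k - r * p ^ m < p ^ m), r = k / p ^ m := by
      intro r _ h1 h2
      refine (Nat.div_eq_of_lt_le h1 ?_).symm
      rw [add_mul, one_mul]; omega
    by_cases hk : k < p ^ (m + 1)
    · have hr : k / p ^ m < p := by
        rw [Nat.div_lt_iff_lt_mul hq, ← pow_succ']; exact hk
      rw [sum_eq_single (k / p ^ m) ?_ (fun hh => absurd (mem_range.2 hr) hh)]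
      · rw [if_pos (Nat.div_mul_le_self _ _), ih (by omega)]
        have hs : k - k / p ^ m * p ^ m = k % p ^ m := by
          rw [Nat.mod_eq_sub_div_mul]
        rw [hs, if_pos (Nat.mod_lt _ hq), if_pos hk]
        set r := k / p ^ m
        set s := k % p ^ m
        have hlt : p * p ^ m ≤ p ^ M := by
          rw [← pow_succ']; exact pow_le_pow_right₀ hpp.one_lt.le hm
        have h3 := h (r * p ^ m) s (lt_of_lt_of_le (mul_lt_mul_of_pos_right hr hq) hlt)
          (lt_of_lt_of_le (Nat.mod_lt _ hq) (pow_le_pow_right₀ hpp.one_lt.le (by omega)))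
        have h4 : (((r * p ^ m + s).choose (r * p ^ m) : ℕ) : A) = 1 := by
          have e1 : (r * p ^ m + s) / p ^ m = r := by
            rw [add_comm, Nat.add_mul_div_right _ _ hq, Nat.div_eq_of_lt (Nat.mod_lt _ hq)]
            simp
          rw [choose_split (p := p) m, Nat.mul_div_cancel _ hq, Nat.mul_mod_left, e1]
          simp
        rw [h4, one_mul, show r * p ^ m + s = k from Nat.div_add_mod' k (p ^ m)] at h3
        rw [h3, ← hmult m (by omega) r hr]
        have := Ring.inverse_mul_cancel (r ! : A) (isUnit_fact (A := A) A hr)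
        linear_combination c s * c (r * p ^ m) * this
      · intro r hr' hne
        split_ifs with h1
        · rw [ih (by omega), if_neg (fun h2 => hne (key r hr' h1 h2)), zero_mul]
        · rfl
    · rw [if_neg hk]
      refine sum_eq_zero fun r hr' => ?_
      split_ifs with h1
      · rw [ih (by omega), if_neg ?_, zero_mul]
        intro h2
        apply hk
        have : (r + 1) * p ^ m ≤ p * p ^ m := Nat.mul_le_mul_right _ (mem_range.1 hr')
        rw [add_mul, one_mul] at this
        rw [pow_succ']; omega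
      · rfl

end CharP

section Coeff

variable {A : Type u} [CommRing A]

lemma coeff_aeval_add (f : Polynomial A) (e : Fin 2 →₀ ℕ) :
    MvPolynomial.coeff e (Polynomial.aeval
      (MvPolynomial.X 0 + MvPolynomial.X 1 : MvPolynomial (Fin 2) A) f) =
      ((e 0 + e 1).choose (e 0) : A) * f.coeff (e 0 + e 1) := by
  rw [Polynomial.aeval_eq_sum_range' (n := max (e 0 + e 1) f.natDegree + 1) (by omega),
    MvPolynomial.coeff_sum, sum_eq_single (e 0 + e 1)]
  · simp [MvPolynomial.coeff_smul, MvPolynomial.coeff_add_pow, mul_comm]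
  · intro b _ hb
    simp [MvPolynomial.coeff_smul, MvPolynomial.coeff_add_pow, hb.symm]
  · intro hh; exact absurd (mem_range.2 (by omega)) hh

lemma coeff_aeval_mul (f g : Polynomial A) (e : Fin 2 →₀ ℕ) :
    MvPolynomial.coeff e (Polynomial.aeval (MvPolynomial.X 0 : MvPolynomial (Fin 2) A) f *
      Polynomial.aeval (MvPolynomial.X 1 : MvPolynomial (Fin 2) A) g) = f.coeff (e 0) * g.coeff (e 1) := by
  induction f using Polynomial.induction_on' with
  | add f₁ f₂ h₁ h₂ => simp [map_add, add_mul, MvPolynomial.coeff_add, h₁, h₂]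
  | monomial a x =>
    induction g using Polynomial.induction_on' with
    | add g₁ g₂ h₁ h₂ => rw [map_add, mul_add, MvPolynomial.coeff_add, h₁, h₂, Polynomial.coeff_add, mul_add]
    | monomial b y =>
      simp only [Polynomial.aeval_monomial, MvPolynomial.algebraMap_eq, MvPolynomial.X_pow_eq_monomial,
        MvPolynomial.C_mul_monomial, MvPolynomial.monomial_mul, mul_one, MvPolynomial.coeff_monomial,
        Polynomial.coeff_monomial]
      have : Finsupp.single (0 : Fin 2) a + Finsupp.single 1 b = e ↔ a = e 0 ∧ b = e 1 := by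
        constructor
        · rintro rfl; simp
        · rintro ⟨rfl, rfl⟩; ext i; fin_cases i <;> simp
      simp only [this, ite_and, mul_ite, ite_mul, zero_mul, mul_zero]
      split_ifs <;> rfl

/-- The pair `(i, j)` as an exponent. -/
noncomputable def ij (i j : ℕ) : Fin 2 →₀ ℕ := Finsupp.single 0 i + Finsupp.single 1 j

@[simp] lemma ij_zero (i j : ℕ) : ij i j 0 = i := by simp [ij]

@[simp] lemma ij_one (i j : ℕ) : ij i j 1 = j := by simp [ij]

lemma poly_iff (f : Polynomial A) :
    Polynomial.aeval (MvPolynomial.X 0 + MvPolynomial.X 1 : MvPolynomial (Fin 2) A) f =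
      Polynomial.aeval (MvPolynomial.X 0 : MvPolynomial (Fin 2) A) f *
        Polynomial.aeval (MvPolynomial.X 1 : MvPolynomial (Fin 2) A) f ↔
    ∀ i j, ((i + j).choose i : A) * f.coeff (i + j) = f.coeff i * f.coeff j := by
  rw [MvPolynomial.ext_iff]
  simp only [coeff_aeval_add, coeff_aeval_mul]
  refine ⟨fun h i j => ?_, fun h e => h _ _⟩
  simpa using h (ij i j)

lemma ps_iff (f : PowerSeries A) :
    PowerSeries.subst (MvPowerSeries.X 0 + MvPowerSeries.X 1 : MvPowerSeries (Fin 2) A) f =
      PowerSeries.subst (MvPowerSeries.X 0 : MvPowerSeries (Fin 2) A) f *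
        PowerSeries.subst (MvPowerSeries.X 1 : MvPowerSeries (Fin 2) A) f ↔
    ∀ i j, ((i + j).choose i : A) * PowerSeries.coeff (i + j) f =
      PowerSeries.coeff i f * PowerSeries.coeff j f := by
  rw [MvPowerSeries.ext_iff]
  simp only [PowerSeries.coeff_subst_X_zero_add_X_one, PowerSeries.coeff_subst_X_zero_subst_mul_X_one]
  refine ⟨fun h i j => ?_, fun h e => h _ _⟩
  simpa using h (ij i j)

lemma coeff_eq_zero_of_mem_span {q : ℕ} {g : MvPolynomial (Fin 2) A}
    (hg : g ∈ Ideal.span ({(MvPolynomial.X 0 ^ q : MvPolynomial (Fin 2) A), MvPolynomial.X 1 ^ q} : Set _))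
    (e : Fin 2 →₀ ℕ) (h0 : e 0 < q) (h1 : e 1 < q) : MvPolynomial.coeff e g = 0 := by
  obtain ⟨a, b, rfl⟩ := Ideal.mem_span_pair.1 hg
  have key : ∀ i : Fin 2, ¬ Finsupp.single i q ≤ e := fun i hle => by
    have := hle i
    simp only [Finsupp.single_eq_same] at this
    fin_cases i <;> simp at * <;> omega
  rw [MvPolynomial.coeff_add, MvPolynomial.X_pow_eq_monomial, MvPolynomial.X_pow_eq_monomial,
    MvPolynomial.coeff_mul_monomial', MvPolynomial.coeff_mul_monomial', if_neg (key 0), if_neg (key 1),
    add_zero]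

end Coeff

section Results

variable {A : Type u} [CommRing A] [hp : Fact p.Prime] [CharP A p]

lemma expProd_coeff_zero (a : ℕ → A) (m : ℕ) : (expProd p a m).coeff 0 = 1 := by
  rw [Polynomial.coeff_zero_eq_eval_zero, eval_zero_expProd]

lemma expProd_charEq (a : ℕ → A) (m : ℕ) (ha : ∀ n < m, a n ^ p = 0) (i j : ℕ) :
    ((i + j).choose i : A) * (expProd p a m).coeff (i + j) =
      (expProd p a m).coeff i * (expProd p a m).coeff j :=
  (poly_iff _).1 (aeval_expProd_add a m ha _ _) i j

lemma charP_poly (f : Polynomial A) :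
    (f.eval 0 = 1 ∧ ∀ i j, ((i + j).choose i : A) * f.coeff (i + j) = f.coeff i * f.coeff j) ↔
      ∃ (N : ℕ) (a : ℕ → A), (∀ n, a n ^ p = 0) ∧ f = expProd p a N := by
  constructor
  · rintro ⟨h0, h⟩
    rw [← Polynomial.coeff_zero_eq_eval_zero] at h0
    have hdeg : f.natDegree < p ^ f.natDegree := Nat.lt_pow_self hp.out.one_lt
    refine ⟨f.natDegree, fun n => f.coeff (p ^ n),
      fun n => (core f.coeff (n + 1) h0 (fun i j _ _ => h i j)).1 n n.lt_succ_self, ?_⟩
    ext k
    rw [(core f.coeff f.natDegree h0 (fun i j _ _ => h i j)).2 _ le_rfl k]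
    split_ifs with hk
    · rfl
    · exact Polynomial.coeff_eq_zero_of_natDegree_lt (by omega)
  · rintro ⟨N, a, ha, rfl⟩
    exact ⟨eval_zero_expProd a N, expProd_charEq a N (fun n _ => ha n)⟩

lemma charP_powerSeries (χ : PowerSeries A) :
    (PowerSeries.constantCoeff χ = 1 ∧ ∀ i j, ((i + j).choose i : A) * PowerSeries.coeff (i + j) χ =
      PowerSeries.coeff i χ * PowerSeries.coeff j χ) ↔
      ∃ a : ℕ → A, (∀ n, a n ^ p = 0) ∧ ∀ m : ℕ, PowerSeries.trunc (p ^ m) χ = expProd p a m := by
  constructor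
  · rintro ⟨h0, h⟩
    rw [← PowerSeries.coeff_zero_eq_constantCoeff_apply] at h0
    have hc := fun M => core (fun k => PowerSeries.coeff k χ) M h0 (fun i j _ _ => h i j)
    refine ⟨fun n => PowerSeries.coeff (p ^ n) χ, fun n => (hc (n + 1)).1 n n.lt_succ_self, fun m => ?_⟩
    ext k
    rw [(hc m).2 m le_rfl k, PowerSeries.coeff_trunc]
  · rintro ⟨a, ha, h⟩
    have hh : ∀ m k, k < p ^ m → PowerSeries.coeff k χ = (expProd p a m).coeff k := fun m k hk => by
      rw [← h, PowerSeries.coeff_trunc, if_pos hk]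
    refine ⟨?_, fun i j => ?_⟩
    · rw [← PowerSeries.coeff_zero_eq_constantCoeff_apply, hh 0 0 (by simp), expProd_coeff_zero]
    · have hlt : i + j < p ^ (i + j) := Nat.lt_pow_self hp.out.one_lt
      rw [hh _ _ hlt, hh (i + j) i (by omega), hh (i + j) j (by omega)]
      exact expProd_charEq a _ (fun n _ => ha n) i j

lemma alpha_char (n : ℕ) (f : Polynomial A) (hdeg : f.natDegree < p ^ n) (h0 : f.eval 0 = 1)
    (hmul : (Polynomial.aeval (MvPolynomial.X 0 + MvPolynomial.X 1 : MvPolynomial (Fin 2) A) f) -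
        (Polynomial.aeval (MvPolynomial.X 0 : MvPolynomial (Fin 2) A) f *
          Polynomial.aeval (MvPolynomial.X 1 : MvPolynomial (Fin 2) A) f) ∈
        Ideal.span ({(MvPolynomial.X 0 ^ p ^ n : MvPolynomial (Fin 2) A), MvPolynomial.X 1 ^ p ^ n} : Set _)) :
    ∃ a : ℕ → A, (∀ i, a i ^ p = 0) ∧ f = expProd p a n := by
  rw [← Polynomial.coeff_zero_eq_eval_zero] at h0
  have h : ∀ i j, i < p ^ n → j < p ^ n →
      ((i + j).choose i : A) * f.coeff (i + j) = f.coeff i * f.coeff j := by
    intro i j hi hj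
    have := coeff_eq_zero_of_mem_span hmul (ij i j) (by simpa using hi) (by simpa using hj)
    simpa [MvPolynomial.coeff_sub, coeff_aeval_add, coeff_aeval_mul, sub_eq_zero] using this
  have hc := core f.coeff n h0 h
  refine ⟨fun i => if i < n then f.coeff (p ^ i) else 0, fun i => ?_, ?_⟩
  · simp only
    split_ifs with hi
    · exact hc.1 i hi
    · exact zero_pow hp.out.ne_zero
  · have : expProd p (fun i => if i < n then f.coeff (p ^ i) else 0) n =
        expProd p (fun i => f.coeff (p ^ i)) n :=
      prod_congr rfl fun i hi => by simp only [if_pos (mem_range.1 hi)]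
    rw [this]
    ext k
    rw [hc.2 n le_rfl k]
    split_ifs with hk
    · rfl
    · exact Polynomial.coeff_eq_zero_of_natDegree_lt (by omega)

end Results

section Rat

variable {A : Type u} [CommRing A] [Algebra ℚ A]

lemma rat_iff (c : ℕ → A) :
    (c 0 = 1 ∧ ∀ i j, ((i + j).choose i : A) * c (i + j) = c i * c j) ↔
      ∃ a : A, ∀ n, c n = a ^ n * algebraMap ℚ A (1 / n !) := by
  have cancel : ∀ n : ℕ, algebraMap ℚ A (1 / n !) * (n ! : A) = 1 := fun n => by
    rw [← map_natCast (algebraMap ℚ A), ← map_mul,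
      one_div_mul_cancel (by exact_mod_cast n.factorial_ne_zero), map_one]
  constructor
  · rintro ⟨h0, h⟩
    have key : ∀ n, (n ! : A) * c n = c 1 ^ n := by
      intro n
      induction n with
      | zero => simp [h0]
      | succ n ih =>
        rw [pow_succ, ← ih, Nat.factorial_succ]
        have h3 := h n 1
        rw [Nat.choose_succ_self_right] at h3
        push_cast at h3 ⊢
        linear_combination (n ! : A) * h3
    refine ⟨c 1, fun n => ?_⟩
    linear_combination (-c n) * cancel n + algebraMap ℚ A (1 / n !) * key n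
  · rintro ⟨a, ha⟩
    refine ⟨by simp [ha], fun i j => ?_⟩
    rw [ha, ha, ha, pow_add]
    have hq : ((i + j).choose i : ℚ) * (1 / ((i + j) ! : ℚ)) = (1 / (i ! : ℚ)) * (1 / (j ! : ℚ)) := by
      have hkey : ((i + j).choose i : ℚ) * (i ! : ℚ) * (j ! : ℚ) = ((i + j) ! : ℚ) := by
        rw [Nat.choose_symm_add]; exact_mod_cast Nat.add_choose_mul_factorial_mul_factorial i j
      field_simp
      linear_combination hkey
    have := congrArg (algebraMap ℚ A) hq
    rw [map_mul, map_mul, map_natCast] at this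
    linear_combination (a ^ i * a ^ j) * this

end Rat

end Groth.Agent.H2.Chars
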