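import Groth.Agent.H2.Chars
import Mathlib.RingTheory.MvPolynomial.Homogeneous

/-!
# Symmetric additive 2-cocycles of the additive group in characteristic p
-/

namespace Groth.Agent.H2.Cocycle

open Finset
open Groth.Agent.H2.Chars

universe u

variable {R : Type u} [CommRing R]

/-- A degree `d` symmetric cocycle, by its interior coefficients. -/
structure Sol (d : ℕ) (a : ℕ → R) : Prop where
  symm : ∀ l, 0 < l → l < d → a (d - l) = a l
  rel : ∀ i j, 0 < i → i + j < d → ((d - i).choose j : R) * a i = ((i + j).choose i : R) * a (i + j)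

lemma Sol.add {d : ℕ} {a b : ℕ → R} (ha : Sol d a) (hb : Sol d b) : Sol d (a + b) := by
  refine ⟨fun l h1 h2 => ?_, fun i j h1 h2 => ?_⟩
  · simp only [Pi.add_apply, ha.symm l h1 h2, hb.symm l h1 h2]
  · simp only [Pi.add_apply, mul_add, ha.rel i j h1 h2, hb.rel i j h1 h2]

lemma Sol.smul {d : ℕ} {a : ℕ → R} (ha : Sol d a) (r : R) : Sol d (r • a) := by
  refine ⟨fun l h1 h2 => ?_, fun i j h1 h2 => ?_⟩
  · simp only [Pi.smul_apply, ha.symm l h1 h2]
  · simp only [Pi.smul_apply, smul_eq_mul, mul_left_comm _ r, ha.rel i j h1 h2]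

lemma Sol.sub {d : ℕ} {a b : ℕ → R} (ha : Sol d a) (hb : Sol d b) : Sol d (a - b) := by
  refine ⟨fun l h1 h2 => ?_, fun i j h1 h2 => ?_⟩
  · simp only [Pi.sub_apply, ha.symm l h1 h2, hb.symm l h1 h2]
  · simp only [Pi.sub_apply, mul_sub, ha.rel i j h1 h2, hb.rel i j h1 h2]

lemma sol_choose (d : ℕ) : Sol d (fun l => ((d.choose l : ℕ) : R)) := by
  refine ⟨fun l _ h2 => ?_, fun i j _ h2 => ?_⟩
  · simp only [Nat.choose_symm h2.le]
  · have h := Nat.choose_mul (n := d) (k := i + j) (s := i) (by omega)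
    rw [Nat.add_sub_cancel_left] at h
    rw [← Nat.cast_mul, ← Nat.cast_mul, mul_comm, ← h, mul_comm]

section CharP

variable {p : ℕ} [hp : Fact p.Prime] [CharP R p]

lemma isUnit_natCast {n : ℕ} (h0 : 0 < n) (h1 : n < p) : IsUnit (n : R) :=
  (CharP.isUnit_natCast_iff hp.out).2 (Nat.not_dvd_of_pos_of_lt h0 h1)

lemma choose_pow_eq {l u : ℕ} : ((l.choose (p ^ u) : ℕ) : R) = ((l / p ^ u : ℕ) : R) := by
  have hq : 0 < p ^ u := pow_pos hp.out.pos u
  rw [choose_split (p := p) u, Nat.div_self hq, Nat.mod_self, Nat.choose_one_right,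
    Nat.choose_zero_right, Nat.cast_one, mul_one]

/-- A solution vanishing at the pivot `p ^ log_p (d - 1)` vanishes. -/
theorem Sol.eq_zero {d : ℕ} {a : ℕ → R} (ha : Sol d a) (hpiv : a (p ^ Nat.log p (d - 1)) = 0)
    {l : ℕ} (hl0 : 0 < l) (hld : l < d) : a l = 0 := by
  have hpp := hp.out
  set s := Nat.log p (d - 1) with hs
  have h1 : p ^ s ≤ d - 1 := Nat.pow_log_le_self p (by omega)
  have h2 : d - 1 < p ^ (s + 1) := Nat.lt_pow_succ_log_self hpp.one_lt _
  have hq : 0 < p ^ s := pow_pos hpp.pos s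
  -- from a vanishing `a (p ^ u)` to `a l'` with unit digit
  have spread : ∀ u l', a (p ^ u) = 0 → p ^ u ≤ l' → l' < d →
      IsUnit (((l' / p ^ u : ℕ) : R)) → a l' = 0 := by
    intro u l' hu hul hl' hunit
    have h := ha.rel (p ^ u) (l' - p ^ u) (pow_pos hpp.pos u) (by omega)
    rw [hu, mul_zero, show p ^ u + (l' - p ^ u) = l' by omega, choose_pow_eq] at h
    exact hunit.mul_right_eq_zero.1 h.symm
  have hb : ∀ t, p ^ t < d → a (p ^ t) = 0 := by
    have stepA : ∀ t, t < s → p ^ s + p ^ t < d → a (p ^ t) = 0 := by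
      intro t hts hlt
      have hrel1 := ha.rel (p ^ t) (p ^ s) (pow_pos hpp.pos t) (by omega)
      have hrel2 := ha.rel (p ^ s) (p ^ t) hq (by omega)
      rw [hpiv, mul_zero, show ((p ^ s + p ^ t).choose (p ^ s)) = (p ^ t + p ^ s).choose (p ^ t) by
        rw [Nat.choose_symm_add, add_comm], add_comm (p ^ s) (p ^ t)] at hrel2
      rw [← hrel2, choose_pow_eq] at hrel1
      have hlt' : d - p ^ t < p * p ^ s := by
        rw [← pow_succ']; have := pow_pos hpp.pos t; omega
      exact (isUnit_natCast (p := p) (R := R) (Nat.div_pos (by omega) hq)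
        ((Nat.div_lt_iff_lt_mul hq).2 hlt')).mul_right_eq_zero.1 hrel1
    intro t ht
    have hts : t ≤ s := Nat.le_log_of_pow_le hpp.one_lt (by omega)
    rcases hts.eq_or_lt with rfl | hts
    · exact hpiv
    rcases lt_or_ge (p ^ s + p ^ t) d with hlt | hge
    · exact stepA t hts hlt
    rcases hge.eq_or_lt with heq | hgt
    · rw [← ha.symm (p ^ t) (pow_pos hpp.pos t) ht, show d - p ^ t = p ^ s by omega]
      exact hpiv
    -- `d = p ^ s + m` with `0 < m < p ^ t`
    set m := d - p ^ s with hm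
    have hm0 : 0 < m := by omega
    set u := Nat.log p m with hu
    have hu1 : p ^ u ≤ m := Nat.pow_log_le_self p hm0.ne'
    have hu2 : m < p ^ (u + 1) := Nat.lt_pow_succ_log_self hpp.one_lt _
    have hus : u < t := (Nat.pow_lt_pow_iff_right hpp.one_lt).1 (by omega)
    have hbu : a (p ^ u) = 0 := by
      rcases hu1.eq_or_lt with he | hl
      · rw [← ha.symm (p ^ u) (pow_pos hpp.pos u) (by omega), show d - p ^ u = p ^ s by omega]
        exact hpiv
      · exact stepA u (by omega) (by omega)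
    rw [← ha.symm (p ^ t) (pow_pos hpp.pos t) ht]
    have hts' : p ^ t ≤ p ^ s := pow_le_pow_right₀ hpp.one_lt.le hts.le
    refine spread u (d - p ^ t) hbu (by omega) (by have := pow_pos hpp.pos t; omega) ?_
    obtain ⟨c, hc⟩ : p ^ (u + 1) ∣ p ^ s - p ^ t :=
      Nat.dvd_sub (pow_dvd_pow p (by omega)) (pow_dvd_pow p hus)
    rw [show d - p ^ t = m + p ^ u * (p * c) by rw [← mul_assoc, ← pow_succ, ← hc]; omega,
      Nat.add_mul_div_left _ _ (pow_pos hpp.pos u)]
    push_cast
    rw [CharP.cast_eq_zero R p, zero_mul, add_zero]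
    exact isUnit_natCast (p := p) (Nat.div_pos hu1 (pow_pos hpp.pos u))
      ((Nat.div_lt_iff_lt_mul (pow_pos hpp.pos u)).2 (by rwa [← pow_succ']))
  set t := Nat.log p l
  have ht1 : p ^ t ≤ l := Nat.pow_log_le_self p hl0.ne'
  have ht2 : l < p ^ (t + 1) := Nat.lt_pow_succ_log_self hpp.one_lt _
  exact spread t l (hb t (by omega)) ht1 hld
    (isUnit_natCast (p := p) (Nat.div_pos ht1 (pow_pos hpp.pos t))
      ((Nat.div_lt_iff_lt_mul (pow_pos hpp.pos t)).2 (by rwa [← pow_succ'])))

end CharP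

section Fin3

/-- An exponent in three variables. -/
noncomputable def ijk (i j k : ℕ) : Fin 3 →₀ ℕ :=
  Finsupp.single 0 i + Finsupp.single 1 j + Finsupp.single 2 k

@[simp] lemma ijk_zero (i j k : ℕ) : ijk i j k 0 = i := by simp [ijk]

@[simp] lemma ijk_one (i j k : ℕ) : ijk i j k 1 = j := by simp [ijk]

@[simp] lemma ijk_two (i j k : ℕ) : ijk i j k 2 = k := by simp [ijk]

lemma ijk_eq_iff (i j k : ℕ) (e : Fin 3 →₀ ℕ) : ijk i j k = e ↔ i = e 0 ∧ j = e 1 ∧ k = e 2 := by
  constructor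
  · rintro rfl; simp
  · rintro ⟨rfl, rfl, rfl⟩; ext x; fin_cases x <;> simp

lemma ij_eq_iff (i j : ℕ) (e : Fin 2 →₀ ℕ) : ij i j = e ↔ i = e 0 ∧ j = e 1 := by
  constructor
  · rintro rfl; simp
  · rintro ⟨rfl, rfl⟩; ext x; fin_cases x <;> simp

lemma ij_eta (e : Fin 2 →₀ ℕ) : ij (e 0) (e 1) = e := (ij_eq_iff _ _ _).2 ⟨rfl, rfl⟩

lemma eq_ij_iff (d : Fin 2 →₀ ℕ) (i j : ℕ) : d = ij i j ↔ d 0 = i ∧ d 1 = j := by
  rw [eq_comm, ij_eq_iff]
  exact ⟨fun h => ⟨h.1.symm, h.2.symm⟩, fun h => ⟨h.1.symm, h.2.symm⟩⟩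

lemma monomial_two (d : Fin 2 →₀ ℕ) (c : R) {B : Type*} [CommRing B] [Algebra R B] (x y : B) :
    MvPolynomial.aeval ![x, y] (MvPolynomial.monomial d c) =
      algebraMap R B c * (x ^ d 0 * y ^ d 1) := by
  rw [MvPolynomial.aeval_monomial, Finsupp.prod_fintype _ _ (fun _ => pow_zero _), Fin.prod_univ_two]
  rfl

local notation "P3" => MvPolynomial (Fin 3) R
local notation "V" => (MvPolynomial.X : Fin 3 → P3)

/-- `F(Y,Z)`. -/
noncomputable def s12 : MvPolynomial (Fin 2) R →ₐ[R] P3 := MvPolynomial.aeval ![V 1, V 2]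

/-- `F(X,Y)`. -/
noncomputable def s01 : MvPolynomial (Fin 2) R →ₐ[R] P3 := MvPolynomial.aeval ![V 0, V 1]

/-- `F(X,Y+Z)`. -/
noncomputable def sR : MvPolynomial (Fin 2) R →ₐ[R] P3 := MvPolynomial.aeval ![V 0, V 1 + V 2]

/-- `F(X+Y,Z)`. -/
noncomputable def sL : MvPolynomial (Fin 2) R →ₐ[R] P3 := MvPolynomial.aeval ![V 0 + V 1, V 2]

lemma coeff_XYZ (a b c : ℕ) (r : R) (e : Fin 3 →₀ ℕ) :
    MvPolynomial.coeff e (MvPolynomial.C r * (V 0 ^ a * V 1 ^ b * V 2 ^ c)) =
      if a = e 0 ∧ b = e 1 ∧ c = e 2 then r else 0 := by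
  rw [MvPolynomial.X_pow_eq_monomial, MvPolynomial.X_pow_eq_monomial, MvPolynomial.X_pow_eq_monomial,
    MvPolynomial.monomial_mul, MvPolynomial.monomial_mul, mul_one, mul_one, MvPolynomial.C_mul_monomial,
    mul_one, MvPolynomial.coeff_monomial]
  exact if_congr (ijk_eq_iff a b c e) rfl rfl

lemma coeff_s12 (F : MvPolynomial (Fin 2) R) (i j k : ℕ) :
    MvPolynomial.coeff (ijk i j k) (s12 F) = if i = 0 then MvPolynomial.coeff (ij j k) F else 0 := by
  induction F using MvPolynomial.induction_on' with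
  | add f g hf hg =>
    rw [map_add, MvPolynomial.coeff_add, hf, hg, MvPolynomial.coeff_add]
    split_ifs <;> simp
  | monomial d c =>
    have := coeff_XYZ 0 (d 0) (d 1) c (ijk i j k)
    rw [pow_zero, one_mul] at this
    rw [s12, monomial_two, MvPolynomial.algebraMap_eq, this, MvPolynomial.coeff_monomial]
    simp only [ijk_zero, ijk_one, ijk_two, eq_ij_iff, eq_comm (a := (0 : ℕ))]
    split_ifs <;> first | rfl | (exfalso; tauto)

lemma coeff_s01 (F : MvPolynomial (Fin 2) R) (i j k : ℕ) :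
    MvPolynomial.coeff (ijk i j k) (s01 F) = if k = 0 then MvPolynomial.coeff (ij i j) F else 0 := by
  induction F using MvPolynomial.induction_on' with
  | add f g hf hg =>
    rw [map_add, MvPolynomial.coeff_add, hf, hg, MvPolynomial.coeff_add]
    split_ifs <;> simp
  | monomial d c =>
    have := coeff_XYZ (d 0) (d 1) 0 c (ijk i j k)
    rw [pow_zero, mul_one] at this
    rw [s01, monomial_two, MvPolynomial.algebraMap_eq, this, MvPolynomial.coeff_monomial]
    simp only [ijk_zero, ijk_one, ijk_two, eq_ij_iff, eq_comm (a := (0 : ℕ))]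
    split_ifs <;> first | rfl | (exfalso; tauto)

lemma coeff_sR (F : MvPolynomial (Fin 2) R) (i j k : ℕ) :
    MvPolynomial.coeff (ijk i j k) (sR F) =
      ((j + k).choose j : R) * MvPolynomial.coeff (ij i (j + k)) F := by
  induction F using MvPolynomial.induction_on' with
  | add f g hf hg => rw [map_add, MvPolynomial.coeff_add, hf, hg, MvPolynomial.coeff_add, mul_add]
  | monomial d c =>
    rw [sR, monomial_two, MvPolynomial.algebraMap_eq, (Commute.all (V 1) (V 2)).add_pow', mul_sum,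
      mul_sum, MvPolynomial.coeff_sum, MvPolynomial.coeff_monomial]
    simp only [mul_smul_comm, MvPolynomial.coeff_smul, ← mul_assoc (V 0 ^ d 0), coeff_XYZ]
    simp only [ijk_zero, ijk_one, ijk_two, nsmul_eq_mul, mul_ite, mul_zero, eq_ij_iff]
    by_cases h : d 0 = i ∧ d 1 = j + k
    · obtain ⟨h1, h2⟩ := h
      rw [if_pos ⟨h1, h2⟩, sum_eq_single (j, k)]
      · rw [if_pos ⟨h1, rfl, rfl⟩, h2]
      · rintro ⟨b, b'⟩ _ hb
        exact if_neg fun h => hb (Prod.ext h.2.1 h.2.2)
      · exact fun hh => absurd (mem_antidiagonal.2 h2.symm) hh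
    · rw [if_neg h]
      refine sum_eq_zero fun b hb => if_neg fun hh => h ⟨hh.1, ?_⟩
      rw [← mem_antidiagonal.1 hb, hh.2.1, hh.2.2]

lemma coeff_sL (F : MvPolynomial (Fin 2) R) (i j k : ℕ) :
    MvPolynomial.coeff (ijk i j k) (sL F) =
      ((i + j).choose i : R) * MvPolynomial.coeff (ij (i + j) k) F := by
  induction F using MvPolynomial.induction_on' with
  | add f g hf hg => rw [map_add, MvPolynomial.coeff_add, hf, hg, MvPolynomial.coeff_add, mul_add]
  | monomial d c =>
    rw [sL, monomial_two, MvPolynomial.algebraMap_eq, (Commute.all (V 0) (V 1)).add_pow', sum_mul,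
      mul_sum, MvPolynomial.coeff_sum, MvPolynomial.coeff_monomial]
    simp only [smul_mul_assoc, mul_smul_comm, MvPolynomial.coeff_smul, coeff_XYZ]
    simp only [ijk_zero, ijk_one, ijk_two, nsmul_eq_mul, mul_ite, mul_zero, eq_ij_iff]
    by_cases h : d 0 = i + j ∧ d 1 = k
    · obtain ⟨h1, h2⟩ := h
      rw [if_pos ⟨h1, h2⟩, sum_eq_single (i, j)]
      · rw [if_pos ⟨rfl, rfl, h2⟩, h1]
      · rintro ⟨b, b'⟩ _ hb
        exact if_neg fun h => hb (Prod.ext h.1 h.2.1)
      · exact fun hh => absurd (mem_antidiagonal.2 h1.symm) hh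
    · rw [if_neg h]
      refine sum_eq_zero fun b hb => if_neg fun hh => h ⟨?_, hh.2.2⟩
      rw [← mem_antidiagonal.1 hb, hh.1, hh.2.1]

lemma coeff_swap (F : MvPolynomial (Fin 2) R) (i j : ℕ) :
    MvPolynomial.coeff (ij i j)
      (MvPolynomial.aeval ![(MvPolynomial.X 1 : MvPolynomial (Fin 2) R), MvPolynomial.X 0] F) =
      MvPolynomial.coeff (ij j i) F := by
  induction F using MvPolynomial.induction_on' with
  | add f g hf hg => rw [map_add, MvPolynomial.coeff_add, hf, hg, MvPolynomial.coeff_add]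
  | monomial d c =>
    rw [monomial_two, MvPolynomial.algebraMap_eq, MvPolynomial.X_pow_eq_monomial,
      MvPolynomial.X_pow_eq_monomial, MvPolynomial.monomial_mul, mul_one, MvPolynomial.C_mul_monomial,
      mul_one, MvPolynomial.coeff_monomial, MvPolynomial.coeff_monomial, add_comm]
    exact if_congr ((ij_eq_iff _ _ _).trans (by simp [eq_ij_iff, and_comm])) rfl rfl

/-- The defect of the additive cocycle identity. -/
noncomputable def defect (F : MvPolynomial (Fin 2) R) : P3 := sR F + s12 F - sL F - s01 F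

/-- Interior coefficients in degree `d`. -/
noncomputable def row (F : MvPolynomial (Fin 2) R) (d l : ℕ) : R :=
  MvPolynomial.coeff (ij l (d - l)) F

lemma rows_of_defect (F : MvPolynomial (Fin 2) R) (d : ℕ)
    (hs : ∀ i j, i + j = d → MvPolynomial.coeff (ij j i) F = MvPolynomial.coeff (ij i j) F)
    (hd : ∀ i j k, i + j + k = d → MvPolynomial.coeff (ijk i j k) (defect F) = 0) :
    (0 < d → MvPolynomial.coeff (ij d 0) F = 0 ∧ MvPolynomial.coeff (ij 0 d) F = 0) ∧
      Sol d (row F d) := by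
  refine ⟨fun hpos => ?_, fun l h1 h2 => ?_, fun i j h1 h2 => ?_⟩
  · have h := hd d 0 0 (by simp)
    simp only [defect, MvPolynomial.coeff_sub, MvPolynomial.coeff_add, coeff_sR, coeff_s12, coeff_sL,
      coeff_s01, add_zero, Nat.choose_zero_right, Nat.choose_self, if_neg hpos.ne', if_true,
      Nat.cast_one, one_mul] at h
    have h0 : MvPolynomial.coeff (ij d 0) F = 0 := by linear_combination -h
    exact ⟨h0, (hs d 0 (by simp)).trans h0⟩
  · simp only [row, Nat.sub_sub_self h2.le]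
    exact hs l (d - l) (by omega)
  · have h := hd i j (d - i - j) (by omega)
    simp only [defect, MvPolynomial.coeff_sub, MvPolynomial.coeff_add, coeff_sR, coeff_s12, coeff_sL,
      coeff_s01, if_neg h1.ne', if_neg (show d - i - j ≠ 0 by omega), add_zero, sub_zero] at h
    simp only [row]
    rw [show j + (d - i - j) = d - i by omega] at h
    rw [show d - (i + j) = d - i - j by omega]
    exact sub_eq_zero.1 h

lemma defect_of_rows (F : MvPolynomial (Fin 2) R)
    (hs : ∀ i j, MvPolynomial.coeff (ij j i) F = MvPolynomial.coeff (ij i j) F)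
    (h0 : ∀ i, 0 < i → MvPolynomial.coeff (ij i 0) F = 0)
    (hrow : ∀ d, Sol d (row F d)) : defect F = 0 := by
  apply MvPolynomial.ext
  intro e
  rw [MvPolynomial.coeff_zero, ← (ijk_eq_iff (e 0) (e 1) (e 2) e).2 ⟨rfl, rfl, rfl⟩]
  generalize e 0 = i, e 1 = j, e 2 = k
  simp only [defect, MvPolynomial.coeff_sub, MvPolynomial.coeff_add, coeff_sR, coeff_s12, coeff_sL,
    coeff_s01]
  have h0' : ∀ i, 0 < i → MvPolynomial.coeff (ij 0 i) F = 0 := fun i hi => (hs i 0).trans (h0 i hi)
  rcases Nat.eq_zero_or_pos i with rfl | hi <;> rcases Nat.eq_zero_or_pos k with rfl | hk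
  · simp only [if_true, zero_add, add_zero, Nat.choose_zero_right, Nat.choose_self]
    ring
  · simp only [if_true, if_neg hk.ne', zero_add, Nat.choose_zero_right, h0' (j + k) (by omega)]
    simp
  · simp only [if_true, if_neg hi.ne', add_zero, Nat.choose_self, h0 (i + j) (by omega)]
    simp
  · rw [if_neg hi.ne', if_neg hk.ne']
    have := (hrow (i + j + k)).rel i j hi (by omega)
    simp only [row, show i + j + k - i = j + k by omega, show i + j + k - (i + j) = k by omega] at this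
    simp [this]

end Fin3

end Groth.Agent.H2.Cocycle
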