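import Groth.Agent.H2.Cocycle
import Mathlib.Algebra.Ring.GeomSum
import Mathlib.RingTheory.Ideal.Operations
import Mathlib.RingTheory.Nilpotent.Basic
import Mathlib.Algebra.Polynomial.Degree.Lemmas
import Mathlib.RingTheory.Polynomial.Basic
import Mathlib.RingTheory.Polynomial.Nilpotent
import Mathlib.Data.Nat.Choose.Dvd

/-!
# Classification of symmetric cocycles and splitting of multiplicative cocycles in characteristic p
-/

namespace Groth.Agent.H2.CocycleThm

open Finset
open Groth.Agent.H2.Chars Groth.Agent.H2.Cocycle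

universe u

variable {R : Type u} [CommRing R]

local notation "P2" => MvPolynomial (Fin 2) R
local notation "P3" => MvPolynomial (Fin 3) R

/-- `G(X+Y) - G(X) - G(Y)`. -/
noncomputable def dG (G : Polynomial R) : P2 :=
  Polynomial.aeval (MvPolynomial.X 0 + MvPolynomial.X 1 : P2) G
    - Polynomial.aeval (MvPolynomial.X 0 : P2) G - Polynomial.aeval (MvPolynomial.X 1 : P2) G

/-- swap -/
noncomputable def swap : P2 →ₐ[R] P2 :=
  MvPolynomial.aeval ![(MvPolynomial.X 1 : P2), MvPolynomial.X 0]

lemma swap_eq_iff (F : P2) :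
    swap F = F ↔ ∀ i j, MvPolynomial.coeff (ij j i) F = MvPolynomial.coeff (ij i j) F := by
  rw [MvPolynomial.ext_iff]
  refine ⟨fun h i j => ?_, fun h e => ?_⟩
  · rw [← h (ij i j), swap, coeff_swap]
  · rw [← ij_eta e, swap, coeff_swap, h]

lemma swap_dG (G : Polynomial R) : swap (dG G) = dG G := by
  simp only [dG, map_sub, ← Polynomial.aeval_algHom_apply]
  simp [swap, add_comm, sub_right_comm]

lemma defect_dG (G : Polynomial R) : defect (dG G) = 0 := by
  simp only [defect, dG, map_sub, ← Polynomial.aeval_algHom_apply]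
  simp [sR, sL, s01, s12, add_assoc]
  ring

lemma coeff_dG (G : Polynomial R) (i j : ℕ) :
    MvPolynomial.coeff (ij i j) (dG G) = ((i + j).choose i : R) * G.coeff (i + j)
      - (if j = 0 then G.coeff i else 0) - (if i = 0 then G.coeff j else 0) := by
  have h1 := coeff_aeval_mul G 1 (ij i j)
  have h2 := coeff_aeval_mul 1 G (ij i j)
  simp only [map_one, mul_one, one_mul, ij_zero, ij_one, Polynomial.coeff_one, mul_ite, mul_zero,
    ite_mul, zero_mul] at h1 h2
  simp only [dG, MvPolynomial.coeff_sub, coeff_aeval_add, ij_zero, ij_one, h1, h2]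

section CharP

variable (p : ℕ) [hp : Fact p.Prime] [CharP R p]

/-- `S(X^(p^n), Y^(p^n))`, with the same text as in the statements. -/
noncomputable def Sq (n : ℕ) : P2 :=
  MvPolynomial.aeval ![(MvPolynomial.X 0 : P2) ^ p ^ n, MvPolynomial.X 1 ^ p ^ n]
    (∑ j ∈ Finset.Ioo 0 p, MvPolynomial.C ((p.choose j / p : ℕ) : R) *
      MvPolynomial.X 0 ^ j * MvPolynomial.X 1 ^ (p - j) : P2)

omit hp in
lemma coeff_sum_S (i k : ℕ) (m : ℕ) :
    MvPolynomial.coeff (ij i k) (∑ j ∈ Finset.Ioo 0 p, MvPolynomial.C ((p.choose j / p : ℕ) : R) *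
      MvPolynomial.X 0 ^ (m * j) * MvPolynomial.X 1 ^ (m * (p - j)) : P2) =
    ∑ j ∈ Finset.Ioo 0 p, if m * j = i ∧ m * (p - j) = k then ((p.choose j / p : ℕ) : R) else 0 := by
  rw [MvPolynomial.coeff_sum]
  refine sum_congr rfl fun j _ => ?_
  rw [mul_assoc, MvPolynomial.X_pow_eq_monomial, MvPolynomial.X_pow_eq_monomial,
    MvPolynomial.monomial_mul, mul_one, MvPolynomial.C_mul_monomial, mul_one, MvPolynomial.coeff_monomial]
  exact if_congr ((ij_eq_iff _ _ _).trans (by simp)) rfl rfl

lemma Sq_eq_sum (n : ℕ) :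
    (Sq p n : P2) = ∑ j ∈ Finset.Ioo 0 p, MvPolynomial.C ((p.choose j / p : ℕ) : R) *
      MvPolynomial.X 0 ^ (p ^ n * j) * MvPolynomial.X 1 ^ (p ^ n * (p - j)) := by
  simp only [Sq, map_sum]
  refine sum_congr rfl fun j _ => ?_
  rw [map_mul, map_mul, MvPolynomial.aeval_C, MvPolynomial.algebraMap_eq]
  simp [pow_mul]

lemma coeff_Sq_ne (n i k : ℕ) (h : i + k ≠ p ^ (n + 1)) :
    MvPolynomial.coeff (ij i k) (Sq p n : P2) = 0 := by
  rw [Sq_eq_sum, coeff_sum_S]
  refine sum_eq_zero fun j hj => if_neg fun hh => h ?_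
  rw [← hh.1, ← hh.2, ← mul_add, show j + (p - j) = p by have := (mem_Ioo.1 hj).2; omega, ← pow_succ]

lemma coeff_Sq_zero (n k : ℕ) : MvPolynomial.coeff (ij 0 k) (Sq p n : P2) = 0 := by
  rw [Sq_eq_sum, coeff_sum_S]
  refine sum_eq_zero fun j hj => if_neg fun hh => ?_
  have := (mem_Ioo.1 hj).1
  have := pow_pos hp.out.pos n
  have := mul_pos (pow_pos hp.out.pos n) (mem_Ioo.1 hj).1
  omega

lemma coeff_Sq_pivot (n : ℕ) :
    MvPolynomial.coeff (ij (p ^ n) (p ^ (n + 1) - p ^ n)) (Sq p n : P2) = 1 := by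
  have hq := pow_pos hp.out.pos n
  have hp2 := hp.out.two_le
  rw [Sq_eq_sum, coeff_sum_S, sum_eq_single 1]
  · rw [if_pos ⟨mul_one _, by rw [Nat.mul_sub_one, pow_succ]⟩, Nat.choose_one_right,
      Nat.div_self hp.out.pos, Nat.cast_one]
  · intro j _ hj
    exact if_neg fun hh => hj (Nat.eq_of_mul_eq_mul_left hq (hh.1.trans (mul_one _).symm))
  · exact fun hh => absurd (mem_Ioo.2 ⟨one_pos, by omega⟩) hh

lemma swap_S : swap (∑ j ∈ Finset.Ioo 0 p, MvPolynomial.C ((p.choose j / p : ℕ) : R) *
      MvPolynomial.X 0 ^ j * MvPolynomial.X 1 ^ (p - j) : P2) =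
    ∑ j ∈ Finset.Ioo 0 p, MvPolynomial.C ((p.choose j / p : ℕ) : R) *
      MvPolynomial.X 0 ^ j * MvPolynomial.X 1 ^ (p - j) := by
  rw [map_sum]
  refine sum_nbij' (fun j => p - j) (fun j => p - j) ?_ ?_ ?_ ?_ ?_
  · intro j hj; simp only [mem_Ioo] at hj ⊢; omega
  · intro j hj; simp only [mem_Ioo] at hj ⊢; omega
  · intro j hj; simp only [mem_Ioo] at hj; omega
  · intro j hj; simp only [mem_Ioo] at hj; omega
  · intro j hj
    have hlt := (mem_Ioo.1 hj).2
    rw [Nat.sub_sub_self hlt.le, Nat.choose_symm hlt.le]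
    simp [swap]
    ring

lemma swap_Sq (n : ℕ) : swap (Sq p n : P2) = Sq p n := by
  conv_rhs => rw [Sq, ← swap_S p]
  rw [Sq]
  simp only [swap, ← AlgHom.comp_apply]
  congr 1
  apply MvPolynomial.algHom_ext
  intro i
  fin_cases i <;> simp

lemma defect_Sq (n : ℕ) : defect (Sq p n : P2) = 0 := by
  have hS : defect (∑ j ∈ Finset.Ioo 0 p, MvPolynomial.C ((p.choose j / p : ℕ) : R) *
      MvPolynomial.X 0 ^ j * MvPolynomial.X 1 ^ (p - j) : P2) = 0 := by
    have key : ∀ i k, MvPolynomial.coeff (ij i k) (∑ j ∈ Finset.Ioo 0 p,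
        MvPolynomial.C ((p.choose j / p : ℕ) : R) * MvPolynomial.X 0 ^ j * MvPolynomial.X 1 ^ (p - j) : P2) =
        if 0 < i ∧ i < p ∧ i + k = p then ((p.choose i / p : ℕ) : R) else 0 := by
      intro i k
      have := coeff_sum_S (R := R) p i k 1
      simp only [one_mul] at this
      rw [this]
      by_cases h : 0 < i ∧ i < p ∧ i + k = p
      · rw [if_pos h, sum_eq_single i]
        · exact if_pos ⟨rfl, by omega⟩
        · exact fun j _ hj => if_neg fun hh => hj hh.1
        · exact fun hh => absurd (mem_Ioo.2 ⟨h.1, h.2.1⟩) hh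
      · rw [if_neg h]
        refine sum_eq_zero fun j hj => if_neg fun hh => h ?_
        have := mem_Ioo.1 hj
        omega
    apply defect_of_rows
    · exact (swap_eq_iff _).1 (swap_S p)
    · intro i _
      rw [key]; exact if_neg (by omega)
    · intro d
      have hrow : ∀ l, 0 < l → l < d → row (∑ j ∈ Finset.Ioo 0 p,
          MvPolynomial.C ((p.choose j / p : ℕ) : R) * MvPolynomial.X 0 ^ j * MvPolynomial.X 1 ^ (p - j) : P2) d l =
          if d = p then ((p.choose l / p : ℕ) : R) else 0 := by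
        intro l h1 h2
        rw [row, key]
        exact if_congr ⟨fun h => by omega, fun h => by omega⟩ rfl rfl
      refine ⟨fun l h1 h2 => ?_, fun i j h1 h2 => ?_⟩
      · rw [hrow _ (by omega) (by omega), hrow _ h1 h2]
        split_ifs with h
        · rw [h, Nat.choose_symm (by omega)]
        · rfl
      · rw [hrow _ h1 (by omega), hrow _ (by omega) h2]
        split_ifs with h
        · subst h
          have e := Nat.choose_mul (n := d) (k := i + j) (s := i) (by omega)
          rw [Nat.add_sub_cancel_left] at e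
          have d1 := Nat.mul_div_cancel' (Nat.Prime.dvd_choose_self hp.out h1.ne' (by omega : i < d))
          have d2 := Nat.mul_div_cancel' (Nat.Prime.dvd_choose_self hp.out (show i + j ≠ 0 by omega) h2)
          rw [← Nat.cast_mul, ← Nat.cast_mul]
          congr 1
          apply Nat.eq_of_mul_eq_mul_left hp.out.pos
          calc d * ((d - i).choose j * (d.choose i / d)) = (d * (d.choose i / d)) * (d - i).choose j := by ring
            _ = d.choose (i + j) * (i + j).choose i := by rw [d1, e]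
            _ = d * ((i + j).choose i * (d.choose (i + j) / d)) := by rw [mul_left_comm d, d2, mul_comm]
        · simp
  have : defect (Sq p n : P2) = MvPolynomial.aeval (fun i => (MvPolynomial.X i : P3) ^ p ^ n)
      (defect (∑ j ∈ Finset.Ioo 0 p, MvPolynomial.C ((p.choose j / p : ℕ) : R) *
      MvPolynomial.X 0 ^ j * MvPolynomial.X 1 ^ (p - j) : P2)) := by
    simp only [defect, Sq, map_sub, map_add, sR, sL, s01, s12, ← AlgHom.comp_apply]
    refine congrArg₂ (· - ·) (congrArg₂ (· - ·) (congrArg₂ (· + ·) ?_ ?_) ?_) ?_ <;>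
      (refine DFunLike.congr_fun (MvPolynomial.algHom_ext fun i => ?_) _
       fin_cases i <;> simp [add_pow_p_pow (A := R) (p := p)])
  rw [this, hS, map_zero]

theorem classify (F : P2) :
    (swap F = F ∧ defect F = 0) ↔
      ∃ (G : Polynomial R) (N : ℕ) (r : ℕ → R),
        F = dG G + ∑ i ∈ Finset.range N, MvPolynomial.C (r i) * Sq p i := by
  have hsum : ∀ (G : Polynomial R) (N : ℕ) (r : ℕ → R),
      swap (dG G + ∑ i ∈ Finset.range N, MvPolynomial.C (r i) * Sq p i : P2) =
          dG G + ∑ i ∈ Finset.range N, MvPolynomial.C (r i) * Sq p i ∧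
        defect (dG G + ∑ i ∈ Finset.range N, MvPolynomial.C (r i) * Sq p i : P2) = 0 := by
    intro G N r
    constructor
    · rw [map_add, map_sum, swap_dG]
      congr 1
      refine sum_congr rfl fun i _ => ?_
      rw [map_mul, swap_Sq]
      congr 1
      exact MvPolynomial.aeval_C _ _
    · have hadd : ∀ a b : P2, defect (a + b) = defect a + defect b := fun a b => by
        simp only [defect, map_add]; ring
      have hC : ∀ (c : R) (a : P2), defect (MvPolynomial.C c * a) = MvPolynomial.C c * defect a :=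
        fun c a => by
          simp only [defect, map_mul, sR, sL, s12, s01, MvPolynomial.aeval_C,
            MvPolynomial.algebraMap_eq]
          ring
      rw [hadd, defect_dG, zero_add]
      induction N with
      | zero => simp [defect]
      | succ N ih => rw [sum_range_succ, hadd, ih, hC, defect_Sq, mul_zero, add_zero]
  constructor
  swap
  · rintro ⟨G, N, r, rfl⟩; exact hsum G N r
  rintro ⟨hs, hd⟩
  classical
  set D := F.totalDegree with hD
  have hbig : ∀ i j, D < i + j → MvPolynomial.coeff (ij i j) F = 0 := by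
    intro i j h
    by_contra hne
    have := MvPolynomial.le_totalDegree (MvPolynomial.mem_support_iff.2 hne)
    rw [Finsupp.sum_fintype _ _ (fun _ => rfl), Fin.sum_univ_two, ij_zero, ij_one] at this
    omega
  let piv : ℕ → ℕ := fun d => p ^ Nat.log p (d - 1)
  let g : ℕ → R := fun d => if d = 0 then -MvPolynomial.coeff (ij 0 0) F else
    if ∃ k, d = p ^ k then 0 else
      MvPolynomial.coeff (ij (piv d) (d - piv d)) F * Ring.inverse ((d.choose (piv d) : ℕ) : R)
  have hgbig : ∀ d, D < d → g d = 0 := by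
    intro d hd
    have hle : 2 ≤ d ∨ d = 1 := by omega
    simp only [g, if_neg (show d ≠ 0 by omega)]
    split_ifs with h
    · rfl
    · rw [hbig _ _ (by omega), zero_mul]
  let G : Polynomial R := ∑ d ∈ range (D + 1), Polynomial.monomial d (g d)
  have hG : ∀ d, G.coeff d = g d := by
    intro d
    simp only [G, Polynomial.finsetSum_coeff, Polynomial.coeff_monomial, sum_ite_eq']
    split_ifs with h
    · rfl
    · rw [hgbig d (by simp at h; omega)]
  let r : ℕ → R := fun n => MvPolynomial.coeff (ij (p ^ n) (p ^ (n + 1) - p ^ n)) F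
  refine ⟨G, D + 1, r, ?_⟩
  set T := dG G + ∑ i ∈ Finset.range (D + 1), MvPolynomial.C (r i) * Sq p i with hT
  obtain ⟨hTs, hTd⟩ := hsum G (D + 1) r
  rw [← sub_eq_zero]
  have hEs : swap (F - T) = F - T := by rw [map_sub, hs, hTs]
  have hEd : defect (F - T) = 0 := by
    have : defect (F - T) = defect F - defect T := by simp only [defect, map_sub]; ring
    rw [this, hd, hTd, sub_zero]
  have hrows := fun d => rows_of_defect (F - T) d (fun i j _ => (swap_eq_iff _).1 hEs i j)
    (fun i j k _ => by rw [hEd, MvPolynomial.coeff_zero])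
  have hTc : ∀ i j, MvPolynomial.coeff (ij i j) T = MvPolynomial.coeff (ij i j) (dG G) +
      ∑ n ∈ range (D + 1), r n * MvPolynomial.coeff (ij i j) (Sq p n) := by
    intro i j
    simp only [hT, MvPolynomial.coeff_add, MvPolynomial.coeff_sum, MvPolynomial.coeff_C_mul]
  apply MvPolynomial.ext
  intro e
  rw [MvPolynomial.coeff_zero, ← ij_eta e]
  generalize e 0 = i, e 1 = j
  rcases Nat.eq_zero_or_pos i with rfl | hi
  · rcases Nat.eq_zero_or_pos j with rfl | hj
    · simp [hTc, coeff_dG, hG, g, coeff_Sq_zero]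
    · exact ((hrows j).1 hj).2
  rcases Nat.eq_zero_or_pos j with rfl | hj
  · exact ((hrows i).1 hi).1
  have hmain := (hrows (i + j)).2.eq_zero (p := p) ?_ hi (show i < i + j by omega)
  · simpa [row] using hmain
  set d := i + j with hdd
  have hpiv : p ^ Nat.log p (d - 1) ≤ d - 1 := Nat.pow_log_le_self p (by omega)
  have hpos := pow_pos hp.out.pos (Nat.log p (d - 1))
  simp only [row, MvPolynomial.coeff_sub, hTc, coeff_dG, hG,
    if_neg (show p ^ Nat.log p (d - 1) ≠ 0 by omega),
    if_neg (show d - p ^ Nat.log p (d - 1) ≠ 0 by omega), sub_zero,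
    show p ^ Nat.log p (d - 1) + (d - p ^ Nat.log p (d - 1)) = d by omega]
  by_cases hpow : ∃ k, d = p ^ k
  · obtain ⟨k, hk⟩ := hpow
    obtain ⟨n, rfl⟩ : ∃ n, k = n + 1 := Nat.exists_eq_succ_of_ne_zero fun h0 => by
      rw [h0, pow_zero] at hk; omega
    have hlog : Nat.log p (d - 1) = n := by
      refine Nat.log_eq_of_pow_le_of_lt_pow ?_ (by omega)
      have := Nat.pow_lt_pow_right hp.out.one_lt (Nat.lt_add_one n)
      omega
    have hg : g d = 0 := by
      simp only [g, if_neg (show d ≠ 0 by omega)]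
      exact if_pos ⟨n + 1, hk⟩
    rw [hg, hlog, mul_zero, zero_add]
    have hother : ∀ m ∈ range (D + 1), m ≠ n →
        r m * MvPolynomial.coeff (ij (p ^ n) (d - p ^ n)) (Sq p m) = 0 := by
      intro m _ hm
      rw [coeff_Sq_ne p m, mul_zero]
      rw [show p ^ n + (d - p ^ n) = p ^ (n + 1) by have := Nat.pow_le_pow_right hp.out.pos (Nat.le_add_right n 1); omega]
      intro h
      exact hm (by have := (Nat.pow_right_injective hp.out.two_le) h; omega)
    rw [sum_eq_single n hother]
    · rw [hk, coeff_Sq_pivot, mul_one, sub_self]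
    · intro hn
      have : r n = 0 := hbig _ _ (by
        have h1 : n + 1 < p ^ (n + 1) := Nat.lt_pow_self hp.out.one_lt
        have : D + 1 ≤ n := by simpa using hn
        rw [show p ^ n + (p ^ (n + 1) - p ^ n) = p ^ (n + 1) by
          have := Nat.pow_le_pow_right hp.out.pos (Nat.le_add_right n 1); omega]
        omega)
      rw [this, zero_mul]
  · rw [sum_eq_zero fun n _ => by
      rw [coeff_Sq_ne p n _ _ (fun h => hpow ⟨n + 1, by rw [← h]; omega⟩), mul_zero], add_zero]
    simp only [g, if_neg (show d ≠ 0 by omega), if_neg hpow, piv]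
    have hlt : d < p ^ (Nat.log p (d - 1) + 1) := by
      have h1 : d - 1 < p ^ (Nat.log p (d - 1) + 1) := Nat.lt_pow_succ_log_self hp.out.one_lt _
      have h2 : d ≠ p ^ (Nat.log p (d - 1) + 1) := fun h => hpow ⟨_, h⟩
      omega
    have hu : IsUnit ((d.choose (p ^ Nat.log p (d - 1)) : ℕ) : R) := by
      rw [choose_pow_eq (p := p)]
      exact isUnit_natCast (p := p) (Nat.div_pos (by omega) hpos)
        ((Nat.div_lt_iff_lt_mul hpos).2 (by rwa [← pow_succ']))
    rw [sub_eq_zero, mul_left_comm, Ring.mul_inverse_cancel _ hu, mul_one]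

end CharP

section Split

variable (p : ℕ) [hp : Fact p.Prime] [CharP R p]

/-- A weight filtration of `R`. -/
structure Wt where
  /-- the ideals -/
  W : ℕ → Ideal R
  top : ∀ x, x ∈ W 0
  anti : ∀ {a b : ℕ} {x : R}, a ≤ b → x ∈ W b → x ∈ W a
  mul : ∀ {a b : ℕ} {x y : R}, x ∈ W a → y ∈ W b → x * y ∈ W (a + b)
  bound : ℕ
  bot : ∀ {d : ℕ} {x : R}, bound < d → x ∈ W d → x = 0
  root : ∀ {d : ℕ} {r : R}, r ∈ W (p * d) → ∃ s ∈ W d, s ^ p = r

omit hp [CharP R p] in
lemma Wt.pow_mem (𝒲 : Wt (R := R) p) {a : ℕ} {x : R} (hx : x ∈ 𝒲.W a) (n : ℕ) :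
    x ^ n ∈ 𝒲.W (n * a) := by
  induction n with
  | zero => rw [zero_mul]; exact 𝒲.top _
  | succ n ih => rw [pow_succ, add_mul, one_mul]; exact 𝒲.mul ih hx

/-- The polynomials whose coefficient in degree `n` has weight `n`. -/
def good1 (𝒲 : Wt (R := R) p) : Subring (Polynomial R) where
  carrier := {f | ∀ n, f.coeff n ∈ 𝒲.W n}
  zero_mem' n := by simp
  one_mem' n := by
    rw [Polynomial.coeff_one]
    split_ifs with h
    · subst h; exact 𝒲.top _
    · exact zero_mem _
  add_mem' {f g} hf hg n := by rw [Polynomial.coeff_add]; exact add_mem (hf n) (hg n)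
  neg_mem' {f} hf n := by rw [Polynomial.coeff_neg]; exact neg_mem (hf n)
  mul_mem' {f g} hf hg n := by
    rw [Polynomial.coeff_mul]
    exact sum_mem fun x hx => mem_antidiagonal.1 hx ▸ 𝒲.mul (hf x.1) (hg x.2)

/-- The two-variable polynomials whose coefficient in degree `n` has weight `n`. -/
def good2 (𝒲 : Wt (R := R) p) : Subring P2 where
  carrier := {f | ∀ e : Fin 2 →₀ ℕ, MvPolynomial.coeff e f ∈ 𝒲.W e.degree}
  zero_mem' e := by simp
  one_mem' e := by
    rw [MvPolynomial.coeff_one]
    split_ifs with h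
    · subst h; rw [map_zero]; exact 𝒲.top _
    · exact zero_mem _
  add_mem' {f g} hf hg e := by rw [MvPolynomial.coeff_add]; exact add_mem (hf e) (hg e)
  neg_mem' {f} hf e := by rw [MvPolynomial.coeff_neg]; exact neg_mem (hf e)
  mul_mem' {f g} hf hg e := by
    rw [MvPolynomial.coeff_mul]
    refine sum_mem fun x hx => ?_
    rw [← mem_antidiagonal.1 hx, map_add]
    exact 𝒲.mul (hf x.1) (hg x.2)

omit hp [CharP R p] in
lemma aeval_mem_good2 (𝒲 : Wt (R := R) p) {w : P2} (hw : w.IsHomogeneous 1) {f : Polynomial R}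
    (hf : f ∈ good1 p 𝒲) : Polynomial.aeval w f ∈ good2 p 𝒲 := by
  intro e
  rw [Polynomial.aeval_eq_sum_range, MvPolynomial.coeff_sum]
  refine sum_mem fun n _ => ?_
  rw [MvPolynomial.coeff_smul]
  by_cases h : MvPolynomial.coeff e (w ^ n) = 0
  · rw [h, smul_zero]; exact zero_mem _
  · have hdeg : e.degree = n := by
      by_contra hne
      exact h (((by simpa using hw.pow n : (w ^ n).IsHomogeneous n)).coeff_eq_zero hne)
    rw [hdeg, smul_eq_mul]
    exact Ideal.mul_mem_right _ _ (hf n)

/-- Vanishing of all coefficients below total degree `d`. -/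
def Low {σ : Type*} (d : ℕ) (x : MvPolynomial σ R) : Prop :=
  ∀ e : σ →₀ ℕ, e.degree < d → MvPolynomial.coeff e x = 0

lemma coeff_mul_low {σ : Type*} [DecidableEq σ] {d : ℕ} {x : MvPolynomial σ R} (hx : Low d x) (y : MvPolynomial σ R)
    {e : σ →₀ ℕ} (he : e.degree ≤ d) :
    MvPolynomial.coeff e (x * y) = MvPolynomial.coeff e x * MvPolynomial.coeff 0 y := by
  rw [MvPolynomial.coeff_mul, sum_eq_single (e, 0)]
  · rintro ⟨a, b⟩ hab hne
    rw [mem_antidiagonal] at hab
    have hdeg : a.degree + b.degree = e.degree := by rw [← map_add, hab]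
    rcases Nat.eq_zero_or_pos b.degree with hb | hb
    · have hb0 : b = 0 := (Finsupp.degree_eq_zero_iff b).1 hb
      subst hb0
      exact absurd (by rw [← hab, add_zero]) hne
    · rw [hx a (by omega), zero_mul]
  · exact fun h => absurd (mem_antidiagonal.2 (add_zero e)) h

lemma Low.mul_right {σ : Type*} [DecidableEq σ] {d : ℕ} {x : MvPolynomial σ R} (hx : Low d x) (y : MvPolynomial σ R) :
    Low d (x * y) := fun e he => by rw [coeff_mul_low hx y he.le, hx e he, zero_mul]

/-- Multiplicative symmetric cocycles. -/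
def MC (h : P2) : Prop := swap h = h ∧ s12 h * sR h = sL h * s01 h

lemma MC.mul {h k : P2} (hh : MC h) (hk : MC k) : MC (h * k) := by
  refine ⟨by rw [map_mul, hh.1, hk.1], ?_⟩
  simp only [map_mul]
  rw [mul_mul_mul_comm, hh.2, hk.2, mul_mul_mul_comm]

/-- `φ(X) φ(Y) / φ(X+Y)`, where `ψ` is the inverse of `φ`. -/
noncomputable def dM (φ ψ : Polynomial R) : P2 :=
  Polynomial.aeval (MvPolynomial.X 0 : P2) φ * Polynomial.aeval (MvPolynomial.X 1 : P2) φ *
    Polynomial.aeval (MvPolynomial.X 0 + MvPolynomial.X 1 : P2) ψ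

lemma dM_mul (φ ψ φ' ψ' : Polynomial R) : dM (φ * φ') (ψ * ψ') = dM φ ψ * dM φ' ψ' := by
  simp only [dM, map_mul]; ring

lemma MC_dM {φ ψ : Polynomial R} (h : φ * ψ = 1) : MC (dM φ ψ) := by
  refine ⟨?_, ?_⟩
  · simp only [dM, map_mul, ← Polynomial.aeval_algHom_apply]
    simp [swap, add_comm, mul_comm (Polynomial.aeval (MvPolynomial.X 1 : P2) φ)]
  · simp only [dM, map_mul, ← Polynomial.aeval_algHom_apply, map_add, s12, sR, sL, s01,
      MvPolynomial.aeval_X, Matrix.cons_val_zero, Matrix.cons_val_one, Matrix.cons_val_fin_one]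
    have e1 : ∀ w : P3, Polynomial.aeval w φ * Polynomial.aeval w ψ = 1 := fun w => by
      rw [← map_mul, h, map_one]
    have h1 := e1 (MvPolynomial.X 1 + MvPolynomial.X 2)
    have h2 := e1 (MvPolynomial.X 0 + MvPolynomial.X 1)
    rw [← add_assoc]
    linear_combination
      (Polynomial.aeval (MvPolynomial.X 0 : P3) φ * Polynomial.aeval (MvPolynomial.X 1 : P3) φ *
        Polynomial.aeval (MvPolynomial.X 2 : P3) φ *
        Polynomial.aeval (MvPolynomial.X 0 + MvPolynomial.X 1 + MvPolynomial.X 2 : P3) ψ) * (h1 - h2)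

lemma degree_ij (i j : ℕ) : (ij i j).degree = i + j := by
  simp [ij, Finsupp.degree_single]

lemma degree_ijk (i j k : ℕ) : (ijk i j k).degree = i + j + k := by
  simp [ijk, Finsupp.degree_single]

lemma low_sub_one {h : P2} {d : ℕ} (h0 : MvPolynomial.coeff 0 h = 1)
    (hl : ∀ e : Fin 2 →₀ ℕ, 0 < e.degree → e.degree < d → MvPolynomial.coeff e h = 0) :
    Low d (h - 1) := by
  intro e he
  rw [MvPolynomial.coeff_sub, MvPolynomial.coeff_one]
  split_ifs with hz
  · subst hz; rw [h0, sub_self]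
  · rw [sub_zero]
    exact hl e (Nat.pos_of_ne_zero fun h => hz ((Finsupp.degree_eq_zero_iff e).1 h).symm) he

/-- The degree `d` part of a multiplicative cocycle congruent to one below `d` is an additive one. -/
lemma MC.rows {h : P2} (hh : MC h) {d : ℕ} (hd : 0 < d) (hl : Low d (h - 1)) :
    (MvPolynomial.coeff (ij d 0) h = 0 ∧ MvPolynomial.coeff (ij 0 d) h = 0) ∧ Sol d (row h d) := by
  set x := h - 1 with hx
  have hc : ∀ i j, 0 < i + j → MvPolynomial.coeff (ij i j) h = MvPolynomial.coeff (ij i j) x := by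
    intro i j hij
    rw [hx, MvPolynomial.coeff_sub, MvPolynomial.coeff_one, if_neg, sub_zero]
    intro h0
    have := congrArg Finsupp.degree h0
    rw [map_zero, degree_ij] at this
    omega
  have eta : ∀ e : Fin 3 →₀ ℕ, ijk (e 0) (e 1) (e 2) = e := fun e => (ijk_eq_iff _ _ _ e).2 ⟨rfl, rfl, rfl⟩
  have lowR : ∀ (i j k : ℕ), i + j + k < d →
      MvPolynomial.coeff (ijk i j k) (sR x) = 0 ∧ MvPolynomial.coeff (ijk i j k) (sL x) = 0 := by
    intro i j k hlt
    rw [coeff_sR, coeff_sL, hl _ (by rw [degree_ij]; omega), hl _ (by rw [degree_ij]; omega)]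
    simp
  have l1 : Low d (sR x) := fun e he => by
    rw [← eta e] at he ⊢; rw [degree_ijk] at he; exact (lowR _ _ _ he).1
  have l2 : Low d (sL x) := fun e he => by
    rw [← eta e] at he ⊢; rw [degree_ijk] at he; exact (lowR _ _ _ he).2
  have c0 : MvPolynomial.coeff (0 : Fin 3 →₀ ℕ) (s12 x) = 0 ∧
      MvPolynomial.coeff (0 : Fin 3 →₀ ℕ) (s01 x) = 0 := by
    rw [show (0 : Fin 3 →₀ ℕ) = ijk 0 0 0 by simp [ijk], coeff_s12, coeff_s01,
      hl _ (by rw [degree_ij]; omega)]
    simp
  have hdef : ∀ i j k, i + j + k = d → MvPolynomial.coeff (ijk i j k) (defect x) = 0 := by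
    intro i j k hijk
    have e := hh.2
    rw [show h = 1 + x by rw [hx]; ring] at e
    simp only [map_add, map_one] at e
    have e' : defect x = sL x * s01 x - sR x * s12 x := by
      simp only [defect]; linear_combination e
    rw [e', MvPolynomial.coeff_sub, coeff_mul_low l1 _ (by rw [degree_ijk]; omega),
      coeff_mul_low l2 _ (by rw [degree_ijk]; omega), c0.1, c0.2, mul_zero, mul_zero, sub_zero]
  have hsx : swap x = x := by rw [hx, map_sub, hh.1, map_one]
  obtain ⟨he, hS⟩ := rows_of_defect x d (fun i j _ => (swap_eq_iff _).1 hsx i j) hdef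
  refine ⟨⟨(hc d 0 (by omega)).trans (he hd).1, (hc 0 d (by omega)).trans (he hd).2⟩, ?_⟩
  refine ⟨fun l h1 h2 => ?_, fun i j h1 h2 => ?_⟩
  · simp only [row]; rw [hc _ _ (by omega), hc _ _ (by omega)]; exact hS.symm l h1 h2
  · simp only [row]; rw [hc _ _ (by omega), hc _ _ (by omega)]; exact hS.rel i j h1 h2

/-- The defect of a one-variable polynomial from being a character. -/
def Tc (φ : Polynomial R) (i j : ℕ) : R :=
  φ.coeff i * φ.coeff j - ((i + j).choose i : R) * φ.coeff (i + j)

lemma dM_coeff {φ ψ : Polynomial R} (hinv : φ * ψ = 1) (hψ : ψ.coeff 0 = 1) {d : ℕ}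
    (hT : ∀ i j, i + j < d → Tc φ i j = 0) :
    Low d (dM φ ψ - 1) ∧ ∀ i j, i + j = d → MvPolynomial.coeff (ij i j) (dM φ ψ - 1) = Tc φ i j := by
  set T : P2 := Polynomial.aeval (MvPolynomial.X 0 : P2) φ * Polynomial.aeval (MvPolynomial.X 1 : P2) φ
    - Polynomial.aeval (MvPolynomial.X 0 + MvPolynomial.X 1 : P2) φ with hTdef
  have hTc : ∀ i j, MvPolynomial.coeff (ij i j) T = Tc φ i j := by
    intro i j
    simp only [hTdef, MvPolynomial.coeff_sub, coeff_aeval_mul, coeff_aeval_add, ij_zero, ij_one, Tc]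
  have hlow : Low d T := fun e he => by
    rw [← ij_eta e] at he ⊢; rw [degree_ij] at he; rw [hTc]; exact hT _ _ he
  have heq : dM φ ψ - 1 = T * Polynomial.aeval (MvPolynomial.X 0 + MvPolynomial.X 1 : P2) ψ := by
    have : Polynomial.aeval (MvPolynomial.X 0 + MvPolynomial.X 1 : P2) φ *
        Polynomial.aeval (MvPolynomial.X 0 + MvPolynomial.X 1 : P2) ψ = 1 := by
      rw [← map_mul, hinv, map_one]
    rw [hTdef, dM]
    linear_combination this
  have h0 : MvPolynomial.coeff (0 : Fin 2 →₀ ℕ)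
      (Polynomial.aeval (MvPolynomial.X 0 + MvPolynomial.X 1 : P2) ψ) = 1 := by
    simp [coeff_aeval_add, hψ]
  rw [heq]
  refine ⟨hlow.mul_right _, fun i j hij => ?_⟩
  rw [coeff_mul_low hlow _ (by rw [degree_ij]; omega), h0, mul_one, hTc]

omit hp [CharP R p] in
lemma exists_inverse (𝒲 : Wt (R := R) p) {φ : Polynomial R} (hφ : φ ∈ good1 p 𝒲) (h0 : φ.coeff 0 = 1) :
    ∃ ψ ∈ good1 p 𝒲, φ * ψ = 1 ∧ ψ.coeff 0 = 1 := by
  set x := 1 - φ with hx
  have hxg : x ∈ good1 p 𝒲 := sub_mem (one_mem _) hφ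
  have hx0 : x.coeff 0 = 0 := by simp [hx, h0]
  have hdvd : Polynomial.X ∣ x := Polynomial.X_dvd_iff.2 hx0
  have hpow : x ^ (𝒲.bound + 1) = 0 := by
    ext n
    rw [Polynomial.coeff_zero]
    rcases lt_or_ge n (𝒲.bound + 1) with hn | hn
    · exact Polynomial.X_pow_dvd_iff.1 (pow_dvd_pow_of_dvd hdvd _) n hn
    · exact 𝒲.bot (by omega) (pow_mem hxg _ n)
  refine ⟨∑ i ∈ range (𝒲.bound + 1), x ^ i, sum_mem fun i _ => pow_mem hxg i, ?_, ?_⟩
  · rw [show φ = 1 - x by rw [hx]; ring, mul_neg_geom_sum, hpow, sub_zero]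
  · rw [sum_range_succ', Polynomial.coeff_add, pow_zero, Polynomial.coeff_one_zero,
      Polynomial.finsetSum_coeff, sum_eq_zero, zero_add]
    intro i _
    rw [pow_succ, Polynomial.mul_coeff_zero, hx0, mul_zero]

/-- One step: kill the pivot in degree `d`. -/
lemma exists_step (𝒲 : Wt (R := R) p) {d : ℕ} (hd : 2 ≤ d) {r : R} (hr : r ∈ 𝒲.W d) :
    ∃ φ ∈ good1 p 𝒲, φ.coeff 0 = 1 ∧ (∀ i j, i + j < d → Tc φ i j = 0) ∧
      Tc φ (p ^ Nat.log p (d - 1)) (d - p ^ Nat.log p (d - 1)) = -r := by
  set s := Nat.log p (d - 1) with hs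
  have h1 : p ^ s ≤ d - 1 := Nat.pow_log_le_self p (by omega)
  have h2 : d - 1 < p ^ (s + 1) := Nat.lt_pow_succ_log_self hp.out.one_lt _
  have hq : 0 < p ^ s := pow_pos hp.out.pos s
  by_cases hpow : d = p ^ (s + 1)
  · set q := p ^ s with hqd
    have hdq : d = p * q := by rw [hpow, pow_succ']
    have hfac : IsUnit (((p - 1).factorial : ℕ) : R) :=
      isUnit_fact (A := R) R (by have := hp.out.pos; omega)
    obtain ⟨t, ht, htr⟩ := 𝒲.root (d := q) (r := -r * ((p - 1).factorial : R))
      (by rw [← hdq]; exact Ideal.mul_mem_right _ _ (neg_mem hr))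
    let φ : Polynomial R := ∑ k ∈ range p,
      Polynomial.C (Ring.inverse (k.factorial : R) * t ^ k) * Polynomial.X ^ (k * q)
    have hcoef : ∀ n, φ.coeff n = if q ∣ n ∧ n / q < p then
        Ring.inverse ((n / q).factorial : R) * t ^ (n / q) else 0 := by
      intro n
      simp only [φ, Polynomial.finsetSum_coeff, Polynomial.coeff_C_mul_X_pow]
      by_cases hn : q ∣ n ∧ n / q < p
      · rw [if_pos hn, sum_eq_single (n / q)]
        · rw [if_pos (Nat.div_mul_cancel hn.1).symm]
        · exact fun k _ hk => if_neg fun e => hk (by rw [e, Nat.mul_div_cancel _ hq])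
        · exact fun hh => absurd (mem_range.2 hn.2) hh
      · rw [if_neg hn]
        refine sum_eq_zero fun k hk => if_neg fun e => hn ?_
        subst e
        exact ⟨dvd_mul_left q k, by rw [Nat.mul_div_cancel _ hq]; exact mem_range.1 hk⟩
    refine ⟨φ, fun n => ?_, ?_, fun i j hij => ?_, ?_⟩
    · rw [hcoef]
      split_ifs with hn
      · refine Ideal.mul_mem_left _ _ ?_
        have := 𝒲.pow_mem p ht (n / q)
        rwa [Nat.div_mul_cancel hn.1] at this
      · exact zero_mem _
    · simp [hcoef, hp.out.pos]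
    · simp only [Tc, hcoef]
      by_cases hi : q ∣ i
      · by_cases hj : q ∣ j
        · obtain ⟨a, rfl⟩ := hi
          obtain ⟨b, rfl⟩ := hj
          have hab : a + b < p := by
            rw [← mul_add, hdq, mul_comm p] at hij
            exact Nat.lt_of_mul_lt_mul_left hij
          rw [← mul_add, if_pos ⟨dvd_mul_right .., by rw [Nat.mul_div_cancel_left _ hq]; omega⟩,
            if_pos ⟨dvd_mul_right .., by rw [Nat.mul_div_cancel_left _ hq]; omega⟩,
            if_pos ⟨dvd_mul_right .., by rw [Nat.mul_div_cancel_left _ hq]; omega⟩,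
            choose_split (p := p) s, ← hqd, Nat.mul_div_cancel_left _ hq, Nat.mul_div_cancel_left _ hq,
            Nat.mul_div_cancel_left _ hq, Nat.mul_mod_right, Nat.mul_mod_right,
            Nat.choose_self, Nat.cast_one, mul_one,
            Nat.castChoose_eq (isUnit_fact (A := R) R hab) (k := (a, b)) (mem_antidiagonal.2 rfl)]
          have := Ring.mul_inverse_cancel ((a + b).factorial : R) (isUnit_fact (A := R) R hab)
          linear_combination (-(Ring.inverse (a.factorial : R) * Ring.inverse (b.factorial : R)) *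
            t ^ (a + b)) * this
        · have : ¬ q ∣ i + j := fun h => hj ((Nat.dvd_add_right hi).1 h)
          simp [hj, this]
      · by_cases hij' : q ∣ i + j
        · have : ((i + j).choose i : R) = 0 := by
            rw [choose_split (p := p) s, ← hqd, Nat.mod_eq_zero_of_dvd hij',
              Nat.choose_eq_zero_of_lt (Nat.pos_of_ne_zero fun h => hi (Nat.dvd_of_mod_eq_zero h))]
            simp
          simp [hi, this]
        · simp [hi, hij']
    · simp only [Tc, hcoef]
      rw [show q + (d - q) = p * q by omega, show d - q = (p - 1) * q by rw [Nat.sub_one_mul, ← hdq],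
        if_pos ⟨dvd_rfl, by rw [Nat.div_self hq]; exact hp.out.one_lt⟩,
        if_pos ⟨dvd_mul_left .., by rw [Nat.mul_div_cancel _ hq]; have := hp.out.pos; omega⟩,
        if_neg (fun h => by rw [Nat.mul_div_cancel _ hq] at h; exact lt_irrefl _ h.2),
        mul_zero, sub_zero, Nat.div_self hq, Nat.mul_div_cancel _ hq]
      have e : t * t ^ (p - 1) = -r * ((p - 1).factorial : R) := by
        rw [← pow_succ', Nat.sub_add_cancel hp.out.one_lt.le, htr]
      have := Ring.mul_inverse_cancel ((p - 1).factorial : R) hfac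
      simp only [Nat.factorial_one, Nat.cast_one, Ring.inverse_one, one_mul, pow_one]
      linear_combination Ring.inverse ((p - 1).factorial : R) * e + (-r) * this
  · have hu : IsUnit ((d.choose (p ^ s) : ℕ) : R) := by
      rw [choose_pow_eq (p := p)]
      exact isUnit_natCast (p := p) (Nat.div_pos (by omega) hq)
        ((Nat.div_lt_iff_lt_mul hq).2 (by rw [← pow_succ']; omega))
    set c := r * Ring.inverse ((d.choose (p ^ s) : ℕ) : R) with hc
    have hcoef : ∀ n, (1 + Polynomial.C c * Polynomial.X ^ d).coeff n =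
        if n = 0 then 1 else if n = d then c else 0 := by
      intro n
      rw [Polynomial.coeff_add, Polynomial.coeff_one, Polynomial.coeff_C_mul_X_pow]
      split_ifs <;> first | omega | simp
    refine ⟨1 + Polynomial.C c * Polynomial.X ^ d, fun n => ?_, ?_, fun i j hij => ?_, ?_⟩
    · rw [hcoef]
      split_ifs with ha hb
      · subst ha; exact 𝒲.top _
      · subst hb; exact Ideal.mul_mem_right _ _ hr
      · exact zero_mem _
    · rw [hcoef, if_pos rfl]
    · simp only [Tc, hcoef]
      rcases Nat.eq_zero_or_pos i with rfl | hi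
      · simp
      · simp [hi.ne', show i ≠ d by omega, show i + j ≠ d by omega]
    · simp only [Tc, hcoef, if_neg (show p ^ s ≠ 0 by omega), if_neg (show p ^ s ≠ d by omega),
        show p ^ s + (d - p ^ s) = d by omega, if_neg (show d ≠ 0 by omega), if_true, zero_mul, zero_sub]
      rw [hc, mul_left_comm, Ring.mul_inverse_cancel _ hu, mul_one]

theorem split (𝒲 : Wt (R := R) p) (h : P2) (hg : h ∈ good2 p 𝒲)
    (h0 : MvPolynomial.coeff 0 h = 1) (hMC : MC h) :
    ∃ f g : Polynomial R, f * g = 1 ∧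
      Polynomial.aeval (MvPolynomial.X 0 + MvPolynomial.X 1 : P2) f =
        Polynomial.aeval (MvPolynomial.X 0 : P2) f * Polynomial.aeval (MvPolynomial.X 1 : P2) f * h := by
  have hX0 := MvPolynomial.isHomogeneous_X R (0 : Fin 2)
  have hX1 := MvPolynomial.isHomogeneous_X R (1 : Fin 2)
  have main : ∀ d, 1 ≤ d → ∃ f g : Polynomial R, f * g = 1 ∧ f ∈ good1 p 𝒲 ∧ g ∈ good1 p 𝒲 ∧
      f.coeff 0 = 1 ∧ g.coeff 0 = 1 ∧ Low d (h * dM f g - 1) := by
    intro d hd
    induction d, hd using Nat.le_induction with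
    | base =>
      refine ⟨1, 1, mul_one _, one_mem _, one_mem _, by simp, by simp, ?_⟩
      rw [show dM (1 : Polynomial R) 1 = 1 by simp [dM], mul_one]
      exact low_sub_one h0 (fun e h1 h2 => by omega)
    | succ d hd ih =>
      obtain ⟨f, g, hfg, hf, hgg, hf0, hg0, hlow⟩ := ih
      set h' := h * dM f g with hh'
      have hMC' : MC h' := hMC.mul (MC_dM hfg)
      have hgood' : h' ∈ good2 p 𝒲 := mul_mem hg (mul_mem (mul_mem (aeval_mem_good2 p 𝒲 hX0 hf)
        (aeval_mem_good2 p 𝒲 hX1 hf)) (aeval_mem_good2 p 𝒲 (hX0.add hX1) hgg))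
      -- it suffices to find a correction killing the degree `d` part
      suffices ∃ φ ψ : Polynomial R, φ * ψ = 1 ∧ φ ∈ good1 p 𝒲 ∧ ψ ∈ good1 p 𝒲 ∧ φ.coeff 0 = 1 ∧
          ψ.coeff 0 = 1 ∧ Low d (h' * dM φ ψ - 1) ∧
          ∀ i j, 0 < i → 0 < j → i + j = d → MvPolynomial.coeff (ij i j) (h' * dM φ ψ) = 0 by
        obtain ⟨φ, ψ, hφψ, hφ, hψ, hφ0, hψ0, hl, hmid⟩ := this
        refine ⟨f * φ, g * ψ, ?_, mul_mem hf hφ, mul_mem hgg hψ, ?_, ?_, ?_⟩
        · rw [mul_mul_mul_comm, hfg, hφψ, one_mul]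
        · rw [Polynomial.mul_coeff_zero, hf0, hφ0, one_mul]
        · rw [Polynomial.mul_coeff_zero, hg0, hψ0, one_mul]
        rw [dM_mul, ← mul_assoc, ← hh']
        intro e he
        rcases (Nat.lt_succ_iff.1 he).lt_or_eq with hlt | heq
        · exact hl e hlt
        obtain ⟨⟨e1, e2⟩, -⟩ := (hMC'.mul (MC_dM hφψ)).rows hd hl
        rw [← ij_eta e, degree_ij] at heq
        rw [MvPolynomial.coeff_sub, MvPolynomial.coeff_one, if_neg, sub_zero, ← ij_eta e]
        · rcases Nat.eq_zero_or_pos (e 0) with hz | hi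
          · rw [hz, show e 1 = d by omega]; exact e2
          rcases Nat.eq_zero_or_pos (e 1) with hz | hj
          · rw [hz, show e 0 = d by omega]; exact e1
          exact hmid _ _ hi hj heq
        · intro hz; subst hz; simp at heq; omega
      by_cases hd1 : d = 1
      · refine ⟨1, 1, mul_one _, one_mem _, one_mem _, by simp, by simp, ?_, fun i j _ _ _ => by omega⟩
        rwa [show dM (1 : Polynomial R) 1 = 1 by simp [dM], mul_one]
      set π := p ^ Nat.log p (d - 1) with hπd
      have hπ : π ≤ d - 1 := Nat.pow_log_le_self p (by omega)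
      have hπ0 : 0 < π := pow_pos hp.out.pos _
      set r := MvPolynomial.coeff (ij π (d - π)) h' with hr
      have hrW : r ∈ 𝒲.W d := by
        have := hgood' (ij π (d - π))
        rwa [degree_ij, show π + (d - π) = d by omega] at this
      obtain ⟨φ, hφ, hφ0, hT, hpiv⟩ := exists_step p 𝒲 (by omega) hrW
      obtain ⟨ψ, hψ, hinv, hψ0⟩ := exists_inverse p 𝒲 hφ hφ0
      obtain ⟨hlM, hM⟩ := dM_coeff hinv hψ0 hT
      have hcomb : h' * dM φ ψ - 1 = (h' - 1) * dM φ ψ + (dM φ ψ - 1) := by ring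
      have hM0 : MvPolynomial.coeff (0 : Fin 2 →₀ ℕ) (dM φ ψ) = 1 := by
        have := hlM 0 (by rw [map_zero]; omega)
        simpa [MvPolynomial.coeff_sub, sub_eq_zero] using this
      have hl : Low d (h' * dM φ ψ - 1) := by
        intro e he
        rw [hcomb, MvPolynomial.coeff_add, hlow.mul_right _ e he, hlM e he, add_zero]
      refine ⟨φ, ψ, hinv, hφ, hψ, hφ0, hψ0, hl, fun i j hi hj hij => ?_⟩
      have hS := ((hMC'.mul (MC_dM hinv)).rows (by omega) hl).2
      have hone : ∀ a b, 0 < a → MvPolynomial.coeff (ij a b) (1 : P2) = 0 := by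
        intro a b ha
        rw [MvPolynomial.coeff_one, if_neg]
        intro h0'
        have := congrArg (fun e => e 0) h0'
        simp at this
        omega
      have hzero : row (h' * dM φ ψ) d π = 0 := by
        have h1 := congrArg (MvPolynomial.coeff (ij π (d - π))) hcomb
        rw [MvPolynomial.coeff_sub, hone _ _ hπ0, sub_zero, MvPolynomial.coeff_add,
          coeff_mul_low hlow _ (by rw [degree_ij]; omega), hM0, mul_one, MvPolynomial.coeff_sub,
          hone _ _ hπ0, sub_zero, ← hr, hM _ _ (by omega), hpiv, add_neg_cancel] at h1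
        exact h1
      have := hS.eq_zero (p := p) hzero hi (by omega)
      rwa [row, show d - i = j by omega] at this
  obtain ⟨f, g, hfg, hf, hgg, -, -, hlow⟩ := main (𝒲.bound + 1) (by omega)
  refine ⟨f, g, hfg, ?_⟩
  have hgood : h * dM f g - 1 ∈ good2 p 𝒲 := sub_mem (mul_mem hg (mul_mem (mul_mem
    (aeval_mem_good2 p 𝒲 hX0 hf) (aeval_mem_good2 p 𝒲 hX1 hf))
    (aeval_mem_good2 p 𝒲 (hX0.add hX1) hgg))) (one_mem _)
  have h1 : h * dM f g - 1 = 0 := MvPolynomial.ext _ _ fun e => by
    rw [MvPolynomial.coeff_zero]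
    rcases lt_or_ge e.degree (𝒲.bound + 1) with he | he
    · exact hlow e he
    · exact 𝒲.bot (by omega) (hgood e)
  have : Polynomial.aeval (MvPolynomial.X 0 + MvPolynomial.X 1 : P2) f *
      Polynomial.aeval (MvPolynomial.X 0 + MvPolynomial.X 1 : P2) g = 1 := by
    rw [← map_mul, hfg, map_one]
  rw [dM] at h1
  linear_combination
    (-Polynomial.aeval (MvPolynomial.X 0 + MvPolynomial.X 1 : P2) f) * h1 +
    (Polynomial.aeval (MvPolynomial.X 0 : P2) f * Polynomial.aeval (MvPolynomial.X 1 : P2) f * h) * this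

/-- A weight filtration exists through any finite family of nilpotent elements. -/
theorem exists_wt (hF : Function.Surjective (frobenius R p)) {T : Type*} [Fintype T] (g : T → R)
    (hg : ∀ t, IsNilpotent (g t)) (D : ℕ) (hD : 0 < D) :
    ∃ 𝒲 : Wt (R := R) p, ∀ t, g t ∈ 𝒲.W D := by
  classical
  choose rt hrt using hF
  let ρ : ℕ → T → R := fun K => Nat.rec g (fun _ prev t => rt (prev t)) K
  have hρ : ∀ K t, ρ (K + 1) t ^ p = ρ K t := fun K t => hrt _
  let S : ℕ → Set R := fun d => {x | ∃ (K : ℕ) (e : T → ℕ),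
    x = ∏ t, ρ K t ^ e t ∧ d * p ^ K ≤ D * ∑ t, e t}
  have lift : ∀ (k K : ℕ) (e : T → ℕ), ∏ t, ρ K t ^ e t = ∏ t, ρ (K + k) t ^ (e t * p ^ k) := by
    intro k
    induction k with
    | zero => intro K e; simp
    | succ k ih =>
      intro K e
      rw [ih K e]
      refine prod_congr rfl fun t _ => ?_
      rw [← hρ, ← pow_mul, pow_succ]
      congr 1; ring
  have hSmul : ∀ a b x y, x ∈ S a → y ∈ S b → x * y ∈ S (a + b) := by
    rintro a b x y ⟨K, e, rfl, he⟩ ⟨L, e', rfl, he'⟩
    refine ⟨K + L, fun t => e t * p ^ L + e' t * p ^ K, ?_, ?_⟩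
    · rw [lift L K e, lift K L e', ← prod_mul_distrib, add_comm L K]
      exact prod_congr rfl fun t _ => (pow_add _ _ _).symm
    · rw [sum_add_distrib, ← sum_mul, ← sum_mul]
      calc (a + b) * p ^ (K + L) = (a * p ^ K) * p ^ L + (b * p ^ L) * p ^ K := by rw [pow_add]; ring
        _ ≤ (D * ∑ t, e t) * p ^ L + (D * ∑ t, e' t) * p ^ K := by gcongr
        _ = _ := by ring
  choose N hN using hg
  let N0 := ∑ t, N t
  refine ⟨⟨fun d => Ideal.span (S d), ?_, fun {a b x} hab hx => Ideal.span_mono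
    (show S b ⊆ S a from fun y ⟨K, e, hy, he⟩ => ⟨K, e, hy, (Nat.mul_le_mul_right _ hab).trans he⟩) hx,
    ?_, D * (Fintype.card T * N0), ?_, ?_⟩, fun t => ?_⟩
  · intro x
    have : (1 : R) ∈ Ideal.span (S 0) := Ideal.subset_span ⟨0, fun _ => 0, by simp, by simp⟩
    simpa using Ideal.mul_mem_left _ x this
  · intro a b x y hx hy
    have := Ideal.mul_mem_mul hx hy
    rw [Ideal.span_mul_span'] at this
    refine Ideal.span_mono ?_ this
    rintro _ ⟨u, hu, v, hv, rfl⟩
    exact hSmul a b u v hu hv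
  · intro d x hd hx
    have : Ideal.span (S d) ≤ ⊥ := by
      rw [Ideal.span_le]
      rintro _ ⟨K, e, rfl, he⟩
      simp only [SetLike.mem_coe, Ideal.mem_bot]
      obtain ⟨t, ht⟩ : ∃ t, N0 * p ^ K ≤ e t := by
        by_contra hne
        push Not at hne
        have h1 : ∑ t, e t ≤ Fintype.card T * (N0 * p ^ K) := by
          calc ∑ t, e t ≤ ∑ _t : T, N0 * p ^ K := sum_le_sum fun t _ => (hne t).le
            _ = _ := by simp
        have h2 : D * (Fintype.card T * N0) * p ^ K < d * p ^ K :=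
          Nat.mul_lt_mul_of_pos_right hd (pow_pos hp.out.pos K)
        have h3 := Nat.mul_le_mul_left D h1
        have h4 : D * (Fintype.card T * (N0 * p ^ K)) = D * (Fintype.card T * N0) * p ^ K := by ring
        omega
      refine prod_eq_zero (mem_univ t) (pow_eq_zero_of_le ht ?_)
      have hz : ∀ K, ρ K t ^ (p ^ K) = g t := by
        intro K
        induction K with
        | zero => simp [ρ]
        | succ K ih => rw [pow_succ', pow_mul, hρ, ih]
      rw [mul_comm, pow_mul, hz]
      exact pow_eq_zero_of_le (single_le_sum (fun t _ => Nat.zero_le (N t)) (mem_univ t)) (hN t)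
    exact this hx
  · intro d r hr
    induction hr using Submodule.span_induction with
    | mem x hx =>
      obtain ⟨K, e, rfl, he⟩ := hx
      refine ⟨∏ t, ρ (K + 1) t ^ e t, Ideal.subset_span ⟨K + 1, e, rfl, ?_⟩, ?_⟩
      · calc d * p ^ (K + 1) = p * d * p ^ K := by ring
          _ ≤ _ := he
      · rw [← prod_pow]
        exact prod_congr rfl fun t _ => by rw [← pow_mul, mul_comm, pow_mul, hρ]
    | zero => exact ⟨0, zero_mem _, zero_pow hp.out.ne_zero⟩
    | add x y _ _ hx hy =>
      obtain ⟨a, ha, rfl⟩ := hx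
      obtain ⟨b, hb, rfl⟩ := hy
      refine ⟨a + b, add_mem ha hb, ?_⟩
      simpa using add_pow_p_pow (A := R) (p := p) a b 1
    | smul c x _ hx =>
      obtain ⟨a, ha, rfl⟩ := hx
      refine ⟨rt c * a, Ideal.mul_mem_left _ _ ha, ?_⟩
      rw [mul_pow, smul_eq_mul]
      congr 1
      exact hrt c
  · refine Ideal.subset_span ⟨0, fun t' => if t' = t then 1 else 0, ?_, by simp⟩
    simp [ρ]

end Split

end Groth.Agent.H2.CocycleThm
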