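import Groth.Agent.H2.CutoffCpl
import Groth.Agent.S11653
import Groth.Agent.S11660
import Groth.Agent.S9126
import Groth.Agent.Lib.LCFin.Faltings
import Groth.Agent.Lib.LCFin.FiniteH1Local
import Groth.Agent.Lib.LocalCoh.MinAdj
import Groth.Agent.Lib.GRing.Poly
import Mathlib.RingTheory.Finiteness.Descent

/-! Finiteness of local cohomology below the cutoff. -/

set_option autoImplicit false
set_option linter.style.haveILetI false
set_option backward.isDefEq.respectTransparency false

universe u

open IsLocalRing CategoryTheory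
open scoped TensorProduct
open Groth.Agent.Lib Groth.Agent.Lib.LocalCoh

namespace Groth.Agent.H2.CutoffFin

theorem minAdjDepth_eq_cutoff {A : Type u} [CommRing A] (I : Ideal A) (M : Type u) [AddCommGroup M]
    [Module A M] : LocCoh.minAdjDepth I I M = Dual2.cutoff A I M := by
  refine iInf_congr fun p => ?_
  refine le_antisymm (le_iInf fun q => le_iInf fun h => le_iInf₂ fun hp hq => ?_) (le_iInf fun hp => ?_)
  · refine iInf_le_of_le hp ?_
    rw [LCFin.FinitenessThm.adjDepth_eq]
    exact add_le_add le_rfl (iInf_le_of_le ⟨q, h, hq⟩ le_rfl)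
  · rw [LCFin.FinitenessThm.adjDepth_eq, SGA2.relCodim, ENat.add_iInf]
    exact le_iInf fun ⟨q, h, hq⟩ => iInf_le_of_le q <| iInf_le_of_le h <| iInf₂_le_of_le hp hq le_rfl

theorem hasSn_of_cm (A : Type u) [CommRing A] [IsLocalRing A] [IsNoetherianRing A]
    (h : EGA4.HasCMFormalFibres A) (n : ℕ) : EGA4.HasSnFormalFibres n A := fun p _ => by
  haveI := h p
  refine (EGA75.Sn.hasSk_iff n _).2 fun q _ => ?_
  haveI := LocCoh.IsCohenMacaulayRing.isCohenMacaulayLocalRing_localization q
  refine ⟨inferInstance, (min_le_right _ _).trans (le_of_eq ?_)⟩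
  exact Depth.CM.ringKrullDim_eq_depth

/-- The local case. -/
theorem finite_of_local {A : Type u} [CommRing A] [IsLocalRing A] [IsNoetherianRing A]
    (hA : CAlg.IsUniversallyCatenary A) (hF : EGA4.HasCMFormalFibres A) (I : Ideal A)
    (M : Type u) [AddCommGroup M] [Module A M] [Module.Finite A M] (n : ℕ)
    (h : (n : ℕ∞) < Dual2.cutoff A I M) : ∀ i ≤ n, Module.Finite A (LocCoh.H I i M) := by
  let B := EGA4.Cpl A
  haveI := H18.FEquidim.Cpl.isLocalHom_cpl (A := A)
  haveI : Module.FaithfullyFlat A B := Module.FaithfullyFlat.of_flat_of_isLocalHom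
  haveI : IsAdicComplete (maximalIdeal B) B := by
    rw [AdicCompletion.maximalIdeal_eq_map]
    exact AdicCompletion.isAdicComplete_self _ (Ideal.fg_of_isNoetherianRing _)
  have hlt : (n : ℕ∞) < Dual2.cutoff B (I.map (algebraMap A B)) (AdicCompletion (maximalIdeal A) M) := by
    refine lt_of_lt_of_le ?_ (CutoffCpl.le_cutoff hA M n (hasSn_of_cm A hF n) I)
    exact lt_min (by exact_mod_cast n.lt_succ_self) h
  let MB := B ⊗[A] M
  let e : MB ≃ₗ[B] AdicCompletion (maximalIdeal A) M :=
    AdicCompletion.ofTensorProductEquivOfFiniteNoetherian (maximalIdeal A) M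
  haveI : Module.Finite B (AdicCompletion (maximalIdeal A) M) := Module.Finite.equiv e
  rw [← minAdjDepth_eq_cutoff] at hlt
  obtain ⟨Λ, _, d, g, -, hreg, hg⟩ := Cohen.Presentation.exists_surjective_mvPowerSeries B
  have hfin := (LCFin.FinitenessThm.finite_iff_lt_finDimRel (I.map (algebraMap A B))
    (AdicCompletion (maximalIdeal A) M) n).2
    (hlt.trans_le (Groth.Agent.S11660.result _ B g hg _ _ _))
  intro i hi
  obtain ⟨c⟩ := nonempty_lcBaseChangeIso (R := A) (I := I) B (ModuleCat.of A M) i
  haveI : Module.Finite B (LocCoh.H (I.map (algebraMap A B)) i MB) :=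
    haveI := hfin i hi
    Module.Finite.equiv (lcLinearEquiv (I.map (algebraMap A B)) i e).symm
  haveI : Module.Finite B (B ⊗[A] LocCoh.H I i M) := Module.Finite.equiv c.toLinearEquiv.symm
  exact Module.Finite.of_finite_tensorProduct_of_faithfullyFlat B

/-- Finiteness below the cutoff. -/
theorem finite_of_lt (A : Type u) [CommRing A] [IsNoetherianRing A] (hA : CAlg.IsUniversallyCatenary A)
    (hF : ∀ q : PrimeSpectrum A, EGA4.HasCMFormalFibres (Localization.AtPrime q.asIdeal)) (I : Ideal A)
    (M : Type u) [AddCommGroup M] [Module A M] [Module.Finite A M] (n : ℕ)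
    (h : (n : ℕ∞) < Dual2.cutoff A I M) : ∀ i ≤ n, Module.Finite A (LocCoh.H I i M) := by
  refine LCFin.Faltings.finite_of_localized I n M fun q _ i hi => ?_
  let L := Localization.AtPrime q
  haveI : IsNoetherianRing L := IsLocalization.isNoetherianRing q.primeCompl L inferInstance
  haveI : Algebra.EssFiniteType A L := Algebra.EssFiniteType.of_isLocalization L q.primeCompl
  haveI : Module.Finite L (LocalizedModule q.primeCompl M) :=
    Module.Finite.of_isLocalizedModule q.primeCompl (LocalizedModule.mkLinearMap q.primeCompl M)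
  obtain ⟨e⟩ := nonempty_lc_localizedModule_equiv I q.primeCompl M i
  have hlt : (n : ℕ∞) < Dual2.cutoff L (I.map (algebraMap A L)) (LocalizedModule q.primeCompl M) := by
    rw [← minAdjDepth_eq_cutoff] at h ⊢
    exact h.trans_le (MinAdj.minAdjDepth_le_localization I M I q.primeCompl)
  haveI := finite_of_local (Groth.Agent.S9126.result A L hA) (hF ⟨q, ‹_›⟩) (I.map (algebraMap A L))
    (LocalizedModule q.primeCompl M) n hlt i hi
  exact Module.Finite.equiv e.symm

theorem not_finite (A : Type u) [CommRing A] [IsNoetherianRing A] (I : Ideal A)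
    (M : Type u) [AddCommGroup M] [Module A M] [Module.Finite A M] (s : ℕ)
    (hs : Dual2.cutoff A I M = s) (hlow : ∀ i : ℕ, (i : ℕ∞) < s → Module.Finite A (LocCoh.H I i M)) :
    ¬ Module.Finite A (LocCoh.H I s M) := by
  intro hfin
  have h := (LCFin.FinitenessThm.finite_iff_lt_finDimRel I M s).1 fun i hi => by
    rcases lt_or_eq_of_le hi with hlt | rfl
    · exact hlow i (by exact_mod_cast hlt)
    · exact hfin
  have := h.trans_le (Groth.Agent.S11653.result A I I M)
  rw [minAdjDepth_eq_cutoff, hs] at this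
  exact lt_irrefl _ this

end Groth.Agent.H2.CutoffFin
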