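import Groth.Agent.Lib.Henselian.Finite
import Groth.Agent.Lib.Henselian.LocalRing
import Groth.Agent.Lib.Cohen.CompleteNagata
import Groth.Agent.Lib.Excellent.Nagata
import Groth.Agent.Lib.Adic.Complete
import Groth.Agent.H24.CompleteFinite
import Mathlib.RingTheory.Ideal.KrullsHeightTheorem
import Mathlib.RingTheory.DiscreteValuationRing.TFAE
import Mathlib.RingTheory.Filtration

/-!
# Finite maps to discrete valuation rings separate the points of a reduced complete local ring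
-/

set_option autoImplicit false
set_option linter.style.haveILetI false

universe u

open IsLocalRing

namespace Groth.Agent.H2.DVRKernels

variable {A : Type u} [CommRing A] [IsNoetherianRing A] [IsLocalRing A]

/-- The primes with one-dimensional quotient. -/
def IsCurve (P : Ideal A) : Prop :=
  P.IsPrime ∧ P ≠ maximalIdeal A ∧ ∀ Q : Ideal A, Q.IsPrime → P < Q → Q = maximalIdeal A

theorem exists_curve [IsReduced A] (hA : ¬ IsField A) {f : A} (hf : f ≠ 0) :
    ∃ P : Ideal A, IsCurve P ∧ f ∉ P := by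
  classical
  obtain ⟨z, hz, hfz⟩ : ∃ z ∈ maximalIdeal A, f * z ≠ 0 := by
    by_contra h
    push Not at h
    by_cases hu : IsUnit f
    · refine hA (IsLocalRing.isField_iff_maximalIdeal_eq.2 ((Submodule.eq_bot_iff _).2 fun z hz => ?_))
      exact hu.mul_right_eq_zero.1 (h z hz)
    · exact hf (IsReduced.eq_zero f ⟨2, by rw [pow_two]; exact h f hu⟩)
  suffices H : ∀ g ∈ maximalIdeal A, g ≠ 0 → ∃ P : Ideal A, IsCurve P ∧ g ∉ P by
    obtain ⟨P, hP, hgP⟩ := H _ (Ideal.mul_mem_left _ f hz) hfz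
    exact ⟨P, hP, fun h => hgP (P.mul_mem_right z h)⟩
  intro g hg hg0
  obtain ⟨P₀, hP₀, hgP₀⟩ : ∃ P : Ideal A, P.IsPrime ∧ g ∉ P := by
    by_contra h
    push Not at h
    refine hg0 (IsReduced.eq_zero g (nilpotent_iff_mem_prime.2 h))
  obtain ⟨P, ⟨hP, hgP⟩, hmax⟩ := set_has_maximal_iff_noetherian.2 (inferInstance : IsNoetherian A A)
    {P : Ideal A | P.IsPrime ∧ g ∉ P} ⟨P₀, hP₀, hgP₀⟩
  haveI := hP
  refine ⟨P, ⟨hP, fun h => hgP (h ▸ hg), fun Q hQ hPQ => ?_⟩, hgP⟩
  by_contra hQm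
  have hcont : ∀ Q : Ideal A, Q.IsPrime → P < Q → g ∈ Q := fun Q hQ h => by
    by_contra hgQ
    exact hmax Q ⟨hQ, hgQ⟩ h
  let J : Ideal A := P ⊔ Ideal.span {g}
  have hfin := Ideal.finite_minimalPrimes_of_isNoetherianRing A J
  obtain ⟨y, hy, hyS⟩ : ∃ y ∈ maximalIdeal A, ∀ R ∈ J.minimalPrimes, R ≠ maximalIdeal A → y ∉ R := by
    by_contra hcon
    push Not at hcon
    obtain ⟨R, hR, hle⟩ := (Ideal.subset_union_prime_finite
      (hfin.subset (Set.sep_subset J.minimalPrimes fun R => R ≠ maximalIdeal A)) (f := fun R => R) ⊤ ⊤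
      (fun R hR _ _ => hR.1.1.1)).1 (show (maximalIdeal A : Set A) ⊆
        ⋃ R ∈ {R ∈ J.minimalPrimes | R ≠ maximalIdeal A}, (R : Set A) from fun x hx => by
          obtain ⟨R, hR, h1, h2⟩ := hcon x hx
          exact Set.mem_biUnion (show R ∈ {R ∈ J.minimalPrimes | R ≠ maximalIdeal A} from ⟨hR, h1⟩) h2)
    exact hR.2 (((IsLocalRing.maximalIdeal.isMaximal A).eq_of_le hR.1.1.1.ne_top hle).symm)
  obtain ⟨R₀, hR₀, hR₀Q⟩ := Ideal.exists_minimalPrimes_le (I := J) (J := Q)
    (sup_le hPQ.le ((Ideal.span_singleton_le_iff_mem _).2 (hcont Q hQ hPQ)))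
  have hR₀m : R₀ ≠ maximalIdeal A := fun h =>
    hQm (((IsLocalRing.maximalIdeal.isMaximal A).eq_of_le hQ.ne_top (h ▸ hR₀Q)).symm)
  haveI := IsLocalRing.maximalIdeal.isMaximal A
  obtain ⟨T, hT, -⟩ := Ideal.exists_minimalPrimes_le (I := P ⊔ Ideal.span {y}) (J := maximalIdeal A)
    (sup_le (IsLocalRing.le_maximalIdeal hP.ne_top) ((Ideal.span_singleton_le_iff_mem _).2 hy))
  haveI := hT.1.1
  have hyT : y ∈ T := hT.1.2 (Ideal.mem_sup_right (Ideal.mem_span_singleton_self y))
  have hPT : P < T := lt_of_le_of_ne (le_sup_left.trans hT.1.2) fun h =>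
    hyS R₀ hR₀ hR₀m (hR₀.1.2 (Ideal.mem_sup_left (h ▸ hyT)))
  obtain ⟨R, hR, hRT⟩ := Ideal.exists_minimalPrimes_le (I := J) (J := T)
    (sup_le hPT.le ((Ideal.span_singleton_le_iff_mem _).2 (hcont T hT.1.1 hPT)))
  haveI := hR.1.1
  have hPR : P < R := lt_of_le_of_ne (le_sup_left.trans hR.1.2) fun h =>
    hgP (h ▸ hR.1.2 (Ideal.mem_sup_right (Ideal.mem_span_singleton_self g)))
  have hRm : R ≠ maximalIdeal A := fun h => by
    have h1 : R₀ ≤ maximalIdeal A := IsLocalRing.le_maximalIdeal hR₀.1.1.ne_top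
    exact hR₀m (le_antisymm h1 (h ▸ hR.2 hR₀.1 (h ▸ h1)))
  have hRT' : R < T := lt_of_le_of_ne hRT fun h => hyS R hR hRm (h ▸ hyT)
  -- contradiction with Krull's theorem in `A ⧸ P`
  let π := Ideal.Quotient.mk P
  have hk : ∀ {U : Ideal A}, P ≤ U → (U.map π).comap π = U := fun {U} hU => by
    rw [Ideal.comap_map_of_surjective _ Ideal.Quotient.mk_surjective, ← RingHom.ker_eq_comap_bot, Ideal.mk_ker,
      sup_eq_left.2 hU]
  have hTmin : T.map π ∈ (Ideal.span {π y}).minimalPrimes := by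
    haveI : (T.map π).IsPrime := Ideal.map_isPrime_of_surjective Ideal.Quotient.mk_surjective
      (by rw [Ideal.mk_ker]; exact hPT.le)
    refine ⟨⟨this, (Ideal.span_singleton_le_iff_mem _).2 (Ideal.mem_map_of_mem π hyT)⟩, fun U hU hUT => ?_⟩
    haveI := hU.1
    have h1 : T ≤ U.comap π := hT.2 ⟨Ideal.IsPrime.comap π, sup_le
      (fun x hx => by rw [Ideal.mem_comap, Ideal.Quotient.eq_zero_iff_mem.2 hx]; exact zero_mem _)
      ((Ideal.span_singleton_le_iff_mem _).2 (hU.2 (Ideal.mem_span_singleton_self _)))⟩ fun x hx =>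
        (hk hPT.le).le (hUT hx)
    exact Ideal.map_le_iff_le_comap.2 h1
  haveI : IsDomain (A ⧸ P) := Ideal.Quotient.isDomain P
  haveI := hTmin.1.1
  haveI : (R.map π).IsPrime := Ideal.map_isPrime_of_surjective Ideal.Quotient.mk_surjective
    (by rw [Ideal.mk_ker]; exact hPR.le)
  have h1 := Ideal.height_le_one_of_isPrincipal_of_mem_minimalPrimes (Ideal.span {π y}) (T.map π) hTmin
  have h2 : (R.map π) < T.map π := lt_of_le_of_ne (Ideal.map_mono hRT'.le) fun h =>
    hRT'.ne (by rw [← hk hPR.le, h, hk hPT.le])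
  have h3 : (⊥ : Ideal (A ⧸ P)) < R.map π := bot_lt_iff_ne_bot.2 fun h =>
    hPR.ne (by rw [← hk hPR.le, h, ← RingHom.ker_eq_comap_bot, Ideal.mk_ker])
  haveI := Ideal.isPrime_bot (α := A ⧸ P)
  have h4 := Ideal.height_strict_mono_of_isPrime h3
  have h5 := Ideal.height_strict_mono_of_isPrime h2
  exact absurd (lt_of_lt_of_le h5 h1) (not_lt.2 (Order.one_le_iff_pos.2 (lt_of_le_of_lt zero_le h4)))

variable [IsAdicComplete (maximalIdeal A) A]

theorem exists_dvr (P : Ideal A) (hP : IsCurve P) :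
    ∃ (V : Type u) (_ : CommRing V) (_ : IsDomain V) (_ : IsDiscreteValuationRing V) (φ : A →+* V),
      IsLocalHom φ ∧ φ.Finite ∧ RingHom.ker φ = P := by
  classical
  obtain ⟨hPp, hPm, hPc⟩ := hP
  haveI := hPp
  haveI : Nontrivial (A ⧸ P) := Ideal.Quotient.nontrivial_iff.2 hPp.ne_top
  letI : CommRing (A ⧸ P) := inferInstance
  haveI : IsDomain (A ⧸ P) := Ideal.Quotient.isDomain P
  haveI : IsLocalRing (A ⧸ P) := IsLocalRing.of_surjective' _ Ideal.Quotient.mk_surjective
  haveI : IsAdicComplete (maximalIdeal (A ⧸ P)) (A ⧸ P) := H24.CompleteFinite.isAdicComplete_maximalIdeal (R := A)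
  haveI : HenselianLocalRing (A ⧸ P) := Lib.Henselian.LocalRing.henselianLocalRing_of_henselianRing
  let K := FractionRing (A ⧸ P)
  let V := integralClosure (A ⧸ P) K
  haveI : Module.Finite (A ⧸ P) V :=
    Lib.Excellent.Nagata.finite_integralClosure_of_isN2 (Lib.Cohen.CompleteNagata.isN2 (A ⧸ P)) K K
  haveI : IsIntegrallyClosed V := integralClosure.isIntegrallyClosedOfFiniteExtension K
  haveI : IsNoetherianRing V := IsNoetherianRing.of_finite (A ⧸ P) _
  have hinj : Function.Injective (algebraMap (A ⧸ P) V) := fun a b h =>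
    IsFractionRing.injective (A ⧸ P) K (congrArg Subtype.val h)
  haveI : IsLocalRing V := by
    obtain ⟨M, hM⟩ := Ideal.exists_maximal V
    refine IsLocalRing.of_unique_max_ideal ⟨M, hM, fun N hN => ?_⟩
    by_contra hne
    obtain ⟨e, he, heN, he'⟩ := Lib.Henselian.Finite.exists_idempotent_maximal (A := A ⧸ P)
      (Lib.Henselian.Pair.idempotents_bijOn (maximalIdeal (A ⧸ P)) V).surjOn ⟨N, hN⟩
    have heM : e ∈ M := he' ⟨M, hM⟩ fun h => hne (congrArg MaximalSpectrum.asIdeal h).symm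
    have h01 : e * (e - 1) = 0 := by rw [mul_sub, he.eq, mul_one, sub_self]
    rcases mul_eq_zero.1 h01 with h | h
    · exact heN (h ▸ N.zero_mem)
    · exact hM.ne_top ((Ideal.eq_top_iff_one _).2 (sub_eq_zero.1 h ▸ heM))
  have hmax : ∀ q : Ideal (A ⧸ P), q.IsPrime → q ≠ ⊥ → q.IsMaximal := fun q hq hq0 => by
    have h1 : P < q.comap (Ideal.Quotient.mk P) := by
      refine lt_of_le_of_ne (fun x hx => by rw [Ideal.mem_comap, Ideal.Quotient.eq_zero_iff_mem.2 hx]; exact zero_mem _) fun h => hq0 ?_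
      rw [← Ideal.map_comap_of_surjective _ Ideal.Quotient.mk_surjective q, ← h, Ideal.map_quotient_self]
    have h2 := hPc _ (Ideal.IsPrime.comap _) h1
    have h3 := Ideal.map_eq_top_or_isMaximal_of_surjective (Ideal.Quotient.mk P) Ideal.Quotient.mk_surjective
      (I := q.comap (Ideal.Quotient.mk P)) (h2 ▸ IsLocalRing.maximalIdeal.isMaximal A)
    rw [Ideal.map_comap_of_surjective _ Ideal.Quotient.mk_surjective] at h3
    exact h3.resolve_left hq.ne_top
  haveI : Ring.DimensionLEOne V := ⟨fun {Q} hQ0 hQp => by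
    haveI := hQp
    refine Ideal.isMaximal_of_isIntegral_of_isMaximal_comap (R := A ⧸ P) Q (hmax _ (Ideal.IsPrime.comap _) ?_)
    exact Ideal.comap_ne_bot_of_integral_mem (R := A ⧸ P) (Submodule.exists_mem_ne_zero_of_ne_bot hQ0).choose_spec.2
      (Submodule.exists_mem_ne_zero_of_ne_bot hQ0).choose_spec.1 (Algebra.IsIntegral.isIntegral _)⟩
  haveI : IsDedekindRing V := {}
  haveI : IsDedekindDomain V := {}
  have hnf : ¬ IsField V := fun h => hPm (by
    have h1 : IsField (A ⧸ P) := isField_of_isIntegral_of_isField hinj h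
    haveI := Ideal.Quotient.maximal_of_isField P h1
    exact IsLocalRing.eq_maximalIdeal this)
  haveI : IsDiscreteValuationRing V := ((IsDiscreteValuationRing.TFAE V hnf).out 2 0 rfl rfl).1 ‹IsDedekindDomain V›
  haveI : IsLocalHom (algebraMap (A ⧸ P) V) := ((local_hom_TFAE _).out 0 2).2
    (Lib.Henselian.Finite.map_maximalIdeal_le _)
  haveI : IsLocalHom (Ideal.Quotient.mk P) := IsLocalHom.of_surjective _ Ideal.Quotient.mk_surjective
  refine ⟨V, inferInstance, inferInstance, inferInstance,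
    (algebraMap (A ⧸ P) V).comp (Ideal.Quotient.mk P), RingHom.isLocalHom_comp _ _,
    (RingHom.finite_algebraMap.2 inferInstance).comp (RingHom.Finite.of_surjective _ Ideal.Quotient.mk_surjective), ?_⟩
  rw [← RingHom.comap_ker, (RingHom.injective_iff_ker_eq_bot _).1 hinj, ← RingHom.ker_eq_comap_bot, Ideal.mk_ker]

/-- Chevalley's lemma for finite intersections. -/
theorem exists_inf_le_pow (S : Set (Ideal A)) (hS : ∀ x : A, (∀ P ∈ S, x ∈ P) → x = 0) (n : ℕ) :
    ∃ F : Finset (Ideal A), ↑F ⊆ S ∧ F.inf id ≤ maximalIdeal A ^ n := by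
  classical
  let m := maximalIdeal A
  rcases Nat.eq_zero_or_pos n with rfl | hn
  · exact ⟨∅, by simp, by simp⟩
  have hmin : ∀ i : ℕ, ∃ F : Finset (Ideal A), ↑F ⊆ S ∧
      ∀ G : Finset (Ideal A), ↑G ⊆ S → F.inf id ⊔ m ^ (i + 1) ≤ G.inf id ⊔ m ^ (i + 1) := by
    intro i
    haveI : IsArtinianRing (A ⧸ m ^ (i + 1)) := IsLocalRing.quotient_artinian_of_mem_minimalPrimes_of_isLocalRing _
      ⟨⟨(IsLocalRing.maximalIdeal.isMaximal A).isPrime, Ideal.pow_le_self i.succ_ne_zero⟩,
        fun Q hQ _ => hQ.1.le_of_pow_le hQ.2⟩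
    obtain ⟨_, ⟨F, hF, rfl⟩, hminF⟩ := IsArtinian.set_has_minimal (R := A ⧸ m ^ (i + 1)) (M := A ⧸ m ^ (i + 1))
      ((fun F : Finset (Ideal A) => (F.inf id).map (Ideal.Quotient.mk (m ^ (i + 1)))) '' {F | ↑F ⊆ S})
      ⟨_, ∅, by simp, rfl⟩
    refine ⟨F, hF, fun G hG => ?_⟩
    have h1 : (F ∪ G).inf id ≤ F.inf id := Finset.inf_mono Finset.subset_union_left
    have h2 : (F ∪ G).inf id ≤ G.inf id := Finset.inf_mono Finset.subset_union_right
    have h3 := (Ideal.map_mono (f := Ideal.Quotient.mk (m ^ (i + 1))) h1).eq_or_lt.resolve_right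
      (hminF _ ⟨F ∪ G, by rw [Set.mem_ofPred, Finset.coe_union]; exact Set.union_subset hF hG, rfl⟩)
    have h4 : (F.inf id).map (Ideal.Quotient.mk (m ^ (i + 1))) ≤ (G.inf id).map (Ideal.Quotient.mk (m ^ (i + 1))) :=
      h3 ▸ Ideal.map_mono h2
    have h5 := Ideal.comap_mono (f := Ideal.Quotient.mk (m ^ (i + 1))) h4
    simpa only [Ideal.comap_map_of_surjective _ Ideal.Quotient.mk_surjective, ← RingHom.ker_eq_comap_bot,
      Ideal.mk_ker] using h5
  choose F hF hFG using hmin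
  refine ⟨F (n - 1), hF _, fun x hx => ?_⟩
  let T : ℕ → Ideal A := fun j => (F (n - 1 + j)).inf id ⊔ m ^ (n - 1 + j + 1)
  have hstep : ∀ j (a : T j), ∃ b : T (j + 1), (a : A) - b ∈ m ^ (n - 1 + j + 1) := by
    intro j a
    obtain ⟨y, hy, e, he, hye⟩ := Submodule.mem_sup.1 (hFG _ _ (hF (n - 1 + (j + 1))) a.2)
    exact ⟨⟨y, Ideal.mem_sup_left hy⟩, by rw [← hye]; simpa using he⟩
  choose next hnext using hstep
  let seq : ∀ j, T j := fun j => Nat.rec (motive := fun j => T j) ⟨x, Ideal.mem_sup_left hx⟩ next j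
  have hseq : ∀ j, (seq j : A) - seq (j + 1) ∈ m ^ (n - 1 + j + 1) := fun j => hnext j (seq j)
  obtain ⟨L, hL⟩ := IsPrecomplete.prec (I := m) (inferInstance : IsPrecomplete m A) (f := fun j => (seq j : A))
    fun {a b} hab => by
      rw [SModEq.sub_mem, smul_eq_mul, Ideal.mul_top]
      induction b, hab using Nat.le_induction with
      | base => rw [sub_self]; exact zero_mem _
      | succ b hab ih =>
        have := add_mem ih (Ideal.pow_le_pow_right (show a ≤ n - 1 + b + 1 by omega) (hseq b))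
        rwa [sub_add_sub_cancel] at this
  have hL' : ∀ j, (seq j : A) - L ∈ m ^ j := fun j => by
    simpa [SModEq.sub_mem] using hL j
  have hL0 : L = 0 := by
    refine hS L fun P hP => ?_
    rw [← Submodule.Quotient.mk_eq_zero, ← Submodule.mem_bot A,
      ← Ideal.iInf_pow_smul_eq_bot_of_isLocalRing (M := A ⧸ P) m (IsLocalRing.maximalIdeal.isMaximal A).ne_top,
      Submodule.mem_iInf]
    intro j
    have h1 : (seq j : A) ∈ P ⊔ m ^ j := by
      have hle : ({P} : Finset (Ideal A)).inf id ⊔ m ^ (n - 1 + j + 1) ≤ P ⊔ m ^ j := by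
        rw [Finset.inf_singleton, id]
        exact sup_le le_sup_left ((Ideal.pow_le_pow_right (by omega)).trans le_sup_right)
      exact hle (hFG (n - 1 + j) {P} (by simpa using hP) (seq j).2)
    obtain ⟨y, hy, e, he, hye⟩ := Submodule.mem_sup.1 (sub_mem h1 (Ideal.mem_sup_right (hL' j)))
    rw [sub_sub_cancel] at hye
    rw [← hye, Submodule.Quotient.mk_add, (Submodule.Quotient.mk_eq_zero P).2 hy, zero_add,
      show (Submodule.Quotient.mk e : A ⧸ P) = e • (Submodule.Quotient.mk 1) by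
        rw [← Submodule.Quotient.mk_smul, smul_eq_mul, mul_one]]
    exact Submodule.smul_mem_smul he Submodule.mem_top
  have h0n : x - (seq n : A) ∈ m ^ n := by
    have key : ∀ j, x - (seq j : A) ∈ m ^ n := by
      intro j
      induction j with
      | zero => simp [seq]
      | succ j ih =>
        have := add_mem ih (Ideal.pow_le_pow_right (show n ≤ n - 1 + j + 1 by omega) (hseq j))
        rwa [sub_add_sub_cancel] at this
    exact key n
  have h1 := hL' n
  rw [hL0, sub_zero] at h1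
  simpa using add_mem h0n h1

end Groth.Agent.H2.DVRKernels
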