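import Groth.Agent.Lib.Henselian.Pair
import Groth.Agent.Lib.Henselian.LocalRing
import Mathlib.AlgebraicGeometry.EllipticCurve.IsomOfJ
import Mathlib.FieldTheory.IsAlgClosed.AlgebraicClosure
import Mathlib.RingTheory.Henselian
import Mathlib.RingTheory.Artinian.Ring
import Mathlib.RingTheory.Nakayama

/-!
# Elliptic curves with the same j over a complete local domain with algebraically closed residue field
-/

namespace Groth.Agent.H2.EllComplete

open IsLocalRing WeierstrassCurve

universe u

/-- No infinitesimal automorphisms. -/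
lemma rigid {k V : Type*} [Field k] [CommRing V] (φ : k →+* V) (W : WeierstrassCurve k) [W.IsElliptic]
    (C : WeierstrassCurve.VariableChange V) (J : Ideal V) (hJ : J * J = ⊥)
    (ha : (↑C.u⁻¹ : V) - 1 ∈ J) (hr : C.r ∈ J) (hs : C.s ∈ J) (ht : C.t ∈ J)
    (h : C • W.map φ = W.map φ) : (↑C.u⁻¹ : V) - 1 = 0 ∧ C.r = 0 ∧ C.s = 0 ∧ C.t = 0 := by
  set a := (↑C.u⁻¹ : V) - 1 with hav
  have z : ∀ x ∈ J, ∀ y ∈ J, x * y = 0 := fun x hx y hy => by
    have := Ideal.mul_mem_mul hx hy
    rwa [hJ, Ideal.mem_bot] at this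
  have hu : ∀ n : ℕ, (↑C.u⁻¹ : V) ^ n = 1 + n * a := by
    intro n
    induction n with
    | zero => simp
    | succ n ih =>
      rw [pow_succ, ih, show (↑C.u⁻¹ : V) = 1 + a by simp [hav]]
      push_cast
      linear_combination (n : V) * z a ha a ha
  have cancel : ∀ {c : k} {x : V}, c ≠ 0 → φ c * x = 0 → x = 0 := fun {c} {x} hc hx =>
    ((isUnit_iff_ne_zero.2 hc).map φ).mul_right_eq_zero.1 hx
  have q1 := hu 1
  have q2 := hu 2
  have q3 := hu 3
  have q4 := hu 4
  have q6 := hu 6
  push_cast at q1 q2 q3 q4 q6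
  rw [pow_one] at q1
  have e1 := congrArg WeierstrassCurve.a₁ h
  have e2 := congrArg WeierstrassCurve.a₂ h
  have e3 := congrArg WeierstrassCurve.a₃ h
  have e4 := congrArg WeierstrassCurve.a₄ h
  have e6 := congrArg WeierstrassCurve.a₆ h
  simp only [variableChange_a₁, variableChange_a₂, variableChange_a₃, variableChange_a₄,
    variableChange_a₆, map_a₁, map_a₂, map_a₃, map_a₄, map_a₆, q2, q3, q4, q6] at e1 e2 e3 e4 e6
  rw [q1] at e1
  have zr := z C.r hr C.r hr
  have zs := z C.s hs C.s hs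
  have zt := z C.t ht C.t ht
  have zrs := z C.r hr C.s hs
  have zst := z C.s hs C.t ht
  have zrt := z C.r hr C.t ht
  have zar := z a ha C.r hr
  have zas := z a ha C.s hs
  have zat := z a ha C.t ht
  have E1 : φ W.a₁ * a + 2 * C.s = 0 := by linear_combination e1 - 2 * zas
  have E2 : 2 * φ W.a₂ * a - φ W.a₁ * C.s + 3 * C.r = 0 := by
    linear_combination e2 + 2 * φ W.a₁ * zas - 6 * zar + (1 + 2 * a) * zs
  have E3 : 3 * φ W.a₃ * a + φ W.a₁ * C.r + 2 * C.t = 0 := by
    linear_combination e3 - 3 * φ W.a₁ * zar - 6 * zat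
  have E4 : 4 * φ W.a₄ * a - φ W.a₃ * C.s + 2 * φ W.a₂ * C.r - φ W.a₁ * C.t = 0 := by
    linear_combination e4 + 4 * φ W.a₃ * zas - 8 * φ W.a₂ * zar + 4 * φ W.a₁ * zat
      + (1 + 4 * a) * φ W.a₁ * zrs - 3 * (1 + 4 * a) * zr + 2 * (1 + 4 * a) * zst
  have E6 : 6 * φ W.a₆ * a + φ W.a₄ * C.r - φ W.a₃ * C.t = 0 := by
    linear_combination e6 - 6 * φ W.a₄ * zar + 6 * φ W.a₃ * zat
      - (1 + 6 * a) * (φ W.a₂ + C.r) * zr + (1 + 6 * a) * zt + (1 + 6 * a) * φ W.a₁ * zrt
  have hΔ : W.Δ ≠ 0 := W.isUnit_Δ.ne_zero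
  by_cases h2 : (2 : k) = 0
  · have v2 : (2 : V) = 0 := by rw [← map_ofNat φ 2, h2, map_zero]
    by_cases h1 : W.a₁ = 0
    · have h3a : W.a₃ ≠ 0 := by
        intro h3
        apply hΔ
        simp only [WeierstrassCurve.Δ, b₂, b₄, b₆, b₈, h1, h3,
          show (8 : k) = 2 * 4 by norm_num, show (4 : k) = 2 * 2 by norm_num, h2]
        ring
      have u1 : φ W.a₁ = 0 := by rw [h1, map_zero]
      have hA : a = 0 := cancel h3a
        (by linear_combination E3 - C.r * u1 - (C.t + φ W.a₃ * a) * v2)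
      have hR : C.r = 0 := by linear_combination E2 + C.s * u1 - (φ W.a₂ * a + C.r) * v2
      have hS : C.s = 0 := cancel h3a
        (by linear_combination -E4 - C.t * u1 + 4 * φ W.a₄ * hA + 2 * φ W.a₂ * hR)
      have hT : C.t = 0 := cancel h3a
        (by linear_combination -E6 + 6 * φ W.a₆ * hA + φ W.a₄ * hR)
      exact ⟨hA, hR, hS, hT⟩
    · have hA : a = 0 := cancel h1 (by linear_combination E1 - C.s * v2)
      have hR : C.r = 0 := cancel h1
        (by linear_combination E3 - 3 * φ W.a₃ * hA - C.t * v2)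
      have hS : C.s = 0 := cancel h1
        (by linear_combination -E2 + 2 * φ W.a₂ * hA + 3 * hR)
      have hT : C.t = 0 := cancel h1
        (by linear_combination -E4 + 4 * φ W.a₄ * hA - φ W.a₃ * hS + 2 * φ W.a₂ * hR)
      exact ⟨hA, hR, hS, hT⟩
  · have hrest : a = 0 → C.r = 0 → C.s = 0 ∧ C.t = 0 := by
      intro hA hR
      have hS : C.s = 0 := cancel h2
        (by rw [map_ofNat]; linear_combination E1 - φ W.a₁ * hA)
      refine ⟨hS, cancel h2 ?_⟩
      rw [map_ofNat]
      linear_combination E3 - 3 * φ W.a₃ * hA - φ W.a₁ * hR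
    have eb2 := congrArg WeierstrassCurve.b₂ h
    have eb4 := congrArg WeierstrassCurve.b₄ h
    have eb6 := congrArg WeierstrassCurve.b₆ h
    simp only [variableChange_b₂, variableChange_b₄, variableChange_b₆, map_b₂, map_b₄, map_b₆, q2, q4, q6]
      at eb2 eb4 eb6
    by_cases h3 : (3 : k) = 0
    · have v3 : (3 : V) = 0 := by rw [← map_ofNat φ 3, h3, map_zero]
      have k2 : φ W.b₂ * a = 0 := cancel h2
        (by rw [map_ofNat]; linear_combination eb2 - 24 * zar - 4 * C.r * v3)
      have k4 : φ W.b₄ * a + φ W.b₂ * C.r = 0 := by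
        linear_combination eb4 - 4 * φ W.b₂ * zar - 6 * (1 + 4 * a) * zr - φ W.b₄ * a * v3
      have k6 : φ W.b₄ * C.r = 0 := cancel h2
        (by
          rw [map_ofNat]
          linear_combination eb6 - 12 * φ W.b₄ * zar - (1 + 6 * a) * (φ W.b₂ + 4 * C.r) * zr
            - 2 * φ W.b₆ * a * v3)
      have hAR : a = 0 ∧ C.r = 0 := by
        by_cases hb : W.b₂ = 0
        · have hb4 : W.b₄ ≠ 0 := by
            intro hb4
            apply hΔ
            simp only [WeierstrassCurve.Δ, hb, hb4, show (27 : k) = 3 * 9 by norm_num, h3]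
            ring
          exact ⟨cancel hb4 (by have v : φ W.b₂ = 0 := (congrArg φ hb).trans (map_zero φ); linear_combination k4 - C.r * v),
            cancel hb4 k6⟩
        · have hA := cancel hb k2
          exact ⟨hA, cancel hb (by linear_combination k4 - φ W.b₄ * hA)⟩
      exact ⟨hAR.1, hAR.2, hrest hAR.1 hAR.2⟩
    · have eD := congrArg WeierstrassCurve.Δ h
      simp only [variableChange_Δ, map_Δ, hu 12] at eD
      push_cast at eD
      have hA : a = 0 := by
        refine cancel (mul_ne_zero (mul_ne_zero (mul_ne_zero h2 h2) h3) hΔ) ?_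
        simp only [map_mul, map_ofNat]
        linear_combination eD
      have hR : C.r = 0 := by
        refine cancel h3 ?_
        rw [map_ofNat]
        have hS : C.s = 0 := cancel h2
          (by rw [map_ofNat]; linear_combination E1 - φ W.a₁ * hA)
        linear_combination E2 - 2 * φ W.a₂ * hA + φ W.a₁ * hS
      exact ⟨hA, hR, hrest hA hR⟩

/-- An integral domain finite over a henselian local ring is local. -/
lemma isLocalRing_of_finite (R : Type u) [CommRing R] [IsLocalRing R]
    [HenselianRing R (maximalIdeal R)] (B : Type u) [CommRing B] [IsDomain B] [Algebra R B]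
    [Module.Finite R B] [FaithfulSMul R B] : IsLocalRing B := by
  set I := (maximalIdeal R).map (algebraMap R B) with hI
  have hIjac : I ≤ Ideal.jacobson ⊥ :=
    Groth.Agent.Lib.Henselian.Basic.map_le_jacobson_of_isIntegral
      (maximalIdeal_le_jacobson ⊥)
  haveI : IsArtinianRing (R ⧸ maximalIdeal R) :=
    letI := Ideal.Quotient.field (maximalIdeal R); inferInstance
  haveI : IsScalarTower R (R ⧸ maximalIdeal R) (B ⧸ I) := inferInstance
  haveI : Module.Finite (R ⧸ maximalIdeal R) (B ⧸ I) :=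
    Module.Finite.of_restrictScalars_finite R _ _
  haveI : IsArtinianRing (B ⧸ I) := IsArtinianRing.of_finite (R ⧸ maximalIdeal R) _
  suffices hsub : Subsingleton (PrimeSpectrum (B ⧸ I)) by
    haveI : Nontrivial B := inferInstance
    obtain ⟨M, hM⟩ := Ideal.exists_maximal B
    refine IsLocalRing.of_unique_max_ideal ⟨M, hM, fun N hN => ?_⟩
    have hle : ∀ N : Ideal B, N.IsMaximal → I ≤ N := fun N hN => hIjac.trans (by
      rw [Ideal.jacobson]; exact sInf_le ⟨bot_le, hN⟩)
    have h := congrArg PrimeSpectrum.asIdeal (Subsingleton.elim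
      (⟨N.map (Ideal.Quotient.mk I), Ideal.map_isPrime_of_surjective Ideal.Quotient.mk_surjective
        (by rw [Ideal.mk_ker]; exact hle N hN)⟩ : PrimeSpectrum (B ⧸ I))
      ⟨M.map (Ideal.Quotient.mk I), Ideal.map_isPrime_of_surjective Ideal.Quotient.mk_surjective
        (by rw [Ideal.mk_ker]; exact hle M hM)⟩)
    have h' := congrArg (Ideal.comap (Ideal.Quotient.mk I)) h
    rwa [Ideal.comap_map_of_surjective' _ Ideal.Quotient.mk_surjective,
      Ideal.comap_map_of_surjective' _ Ideal.Quotient.mk_surjective, Ideal.mk_ker,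
      sup_eq_left.2 (hle N hN), sup_eq_left.2 (hle M hM)] at h'
  refine ⟨fun x y => ?_⟩
  let s : TopologicalSpace.Clopens (PrimeSpectrum (B ⧸ I)) := ⟨{x}, isClopen_discrete _⟩
  let e := (PrimeSpectrum.isIdempotentElemEquivClopens (R := B ⧸ I)).symm s
  obtain ⟨b, hb⟩ := Ideal.Quotient.mk_surjective e.1
  have hb' : b * b - b ∈ I := by
    rw [← Ideal.Quotient.eq, map_mul, hb]
    exact e.2
  obtain ⟨e', he', heb⟩ :=
    Groth.Agent.Lib.Henselian.Pair.exists_isIdempotentElem_lift (maximalIdeal R) hb'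
  rw [← hI] at heb
  have he1 : e.1 = Ideal.Quotient.mk I e' := by rw [← hb]; exact (Ideal.Quotient.eq.2 heb).symm
  have hse : PrimeSpectrum.isIdempotentElemEquivClopens e = s :=
    (PrimeSpectrum.isIdempotentElemEquivClopens (R := B ⧸ I)).apply_symm_apply s
  rcases IsIdempotentElem.iff_eq_zero_or_one.1 he' with rfl | rfl
  · exfalso
    have hmem : x ∈ (s : Set _) := rfl
    rw [← hse, PrimeSpectrum.coe_isIdempotentElemEquivClopens_apply, he1, map_zero] at hmem
    exact hmem x.asIdeal.zero_mem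
  · have hmem : y ∈ (s : Set _) := by
      rw [← hse, PrimeSpectrum.coe_isIdempotentElemEquivClopens_apply, he1, map_one]
      exact fun hc => y.isPrime.ne_top ((Ideal.eq_top_iff_one _).2 hc)
    exact (Set.mem_singleton_iff.1 hmem).symm

/-- An automorphism congruent to the identity modulo the radical is trivial. -/
lemma eq_one_of_fix {k A : Type u} [Field k] [CommRing A] (φ : k →+* A) (W : WeierstrassCurve k)
    [W.IsElliptic] (D : WeierstrassCurve.VariableChange A)
    (hu : (↑D.u⁻¹ : A) - 1 ∈ (⊥ : Ideal A).jacobson) (hr : D.r ∈ (⊥ : Ideal A).jacobson)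
    (hs : D.s ∈ (⊥ : Ideal A).jacobson) (ht : D.t ∈ (⊥ : Ideal A).jacobson)
    (hfix : D • W.map φ = W.map φ) : D = 1 := by
  set J : Ideal A := Ideal.span {(↑D.u⁻¹ : A) - 1, D.r, D.s, D.t} with hJ
  have hJjac : J ≤ (⊥ : Ideal A).jacobson := by
    rw [hJ, Ideal.span_le]
    rintro x (rfl | rfl | rfl | rfl) <;> assumption
  have hJsq : J ≤ J * J := by
    let q : A →+* A ⧸ (J * J) := Ideal.Quotient.mk (J * J)
    have hfix' : D.map q • W.map (q.comp φ) = W.map (q.comp φ) := by
      rw [← WeierstrassCurve.map_map, WeierstrassCurve.map_variableChange, hfix]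
    have hz : (J.map q) * (J.map q) = ⊥ := by rw [← Ideal.map_mul, Ideal.map_quotient_self]
    have hin : ∀ x ∈ ({(↑D.u⁻¹ : A) - 1, D.r, D.s, D.t} : Set _), q x ∈ J.map q :=
      fun x hx => Ideal.mem_map_of_mem q (Ideal.subset_span hx)
    have hu' : (↑(D.map q).u⁻¹ : A ⧸ J * J) - 1 = q ((↑D.u⁻¹ : A) - 1) := by
      simp [WeierstrassCurve.VariableChange.map]
    obtain ⟨z1, z2, z3, z4⟩ := rigid (q.comp φ) W (D.map q) (J.map q) hz
      (hu' ▸ hin _ (by simp)) (hin D.r (by simp)) (hin D.s (by simp)) (hin D.t (by simp)) hfix'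
    rw [hu'] at z1
    conv_lhs => rw [hJ]
    rw [Ideal.span_le]
    rintro x (rfl | rfl | rfl | rfl) <;> exact Ideal.Quotient.eq_zero_iff_mem.1 ‹_›
  have hJ0 : J = ⊥ := Submodule.eq_bot_of_le_smul_of_le_jacobson_bot J J
    (Submodule.fg_span (by simp)) hJsq hJjac
  have e : ∀ x ∈ ({(↑D.u⁻¹ : A) - 1, D.r, D.s, D.t} : Set _), x = 0 := fun x hx => by
    have : x ∈ J := Ideal.subset_span hx
    rwa [hJ0, Ideal.mem_bot] at this
  have hu1 : D.u⁻¹ = 1 := Units.ext (sub_eq_zero.1 (e _ (by simp)))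
  ext
  · rw [inv_eq_one.1 hu1]; rfl
  · exact e _ (by simp)
  · exact e _ (by simp)
  · exact e _ (by simp)

lemma isIntegral_root {R K : Type*} [CommRing R] [Field K] [Algebra R K] {x : K}
    (f : Polynomial (integralClosure R K)) (hf : f.Monic) (h : Polynomial.aeval x f = 0) :
    IsIntegral R x :=
  isIntegral_trans (R := R) x (⟨f, hf, h⟩ : IsIntegral (integralClosure R K) x)

theorem exists_variableChange (R : Type u) [CommRing R] [IsDomain R] [IsNoetherianRing R]
    [IsLocalRing R] [IsAdicComplete (maximalIdeal R) R] [IsAlgClosed (ResidueField R)]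
    (W₁ W₂ : WeierstrassCurve R) [W₁.IsElliptic] [W₂.IsElliptic] (hj : W₁.j = W₂.j) :
    ∃ C : WeierstrassCurve.VariableChange R, C • W₁ = W₂ := by
  classical
  let K := AlgebraicClosure (FractionRing R)
  let f : R →+* K := algebraMap R K
  obtain ⟨C, hC⟩ := exists_variableChange_of_j_eq (W₁.map f) (W₂.map f) (by rw [map_j, map_j, hj])
  let S := integralClosure R K
  have fi : ∀ x : R, IsIntegral R (f x) := fun x => isIntegral_algebraMap
  -- `u` and its inverse
  have hD := congrArg WeierstrassCurve.Δ hC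
  rw [variableChange_Δ, map_Δ, map_Δ] at hD
  obtain ⟨d₁, hd₁⟩ := W₁.isUnit_Δ
  obtain ⟨d₂, hd₂⟩ := W₂.isUnit_Δ
  have hui : IsIntegral R ((↑C.u⁻¹ : K)) := by
    apply IsIntegral.of_pow (show 0 < 12 by norm_num)
    have : (↑C.u⁻¹ : K) ^ 12 = f ((d₁⁻¹ : Rˣ) * W₂.Δ) := by
      rw [map_mul, ← hD, mul_left_comm, ← map_mul, ← hd₁, d₁.inv_mul, map_one, mul_one]
    rw [this]; exact fi _
  have hu : IsIntegral R (C.u : K) := by
    apply IsIntegral.of_pow (show 0 < 12 by norm_num)
    have : (C.u : K) ^ 12 = f ((d₂⁻¹ : Rˣ) * W₁.Δ) := by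
      have hh : f W₁.Δ = (C.u : K) ^ 12 * f W₂.Δ := by
        rw [← hD, ← mul_assoc, ← mul_pow, C.u.mul_inv, one_pow, one_mul]
      rw [map_mul, hh, mul_left_comm, ← map_mul, ← hd₂, d₂.inv_mul, map_one, mul_one]
    rw [this]; exact fi _
  have h8 := congrArg WeierstrassCurve.b₈ hC
  have h6 := congrArg WeierstrassCurve.b₆ hC
  simp only [variableChange_b₈, variableChange_b₆, map_b₈, map_b₆, map_b₄, map_b₂] at h8 h6
  have hv := C.u.mul_inv
  let uS : S := ⟨C.u, hu⟩
  let cR : R → S := fun x => ⟨f x, fi x⟩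
  have hr : IsIntegral R C.r := by
    refine isIntegral_root (Polynomial.X ^ 4 + (-Polynomial.C (cR W₁.b₄) * Polynomial.X ^ 2
      - Polynomial.C (2 * cR W₁.b₆ + uS ^ 6 * cR W₂.b₆) * Polynomial.X
      + Polynomial.C (uS ^ 8 * cR W₂.b₈ - cR W₁.b₈))) ?_ ?_
    · refine Polynomial.monic_X_pow_add ?_
      apply lt_of_le_of_lt (b := ((2 : ℕ) : WithBot ℕ)) ?_ (by decide)
      compute_degree!
    · simp only [map_add, map_sub, map_neg, map_mul, map_pow, map_ofNat, Polynomial.aeval_X, Polynomial.aeval_C, Subalgebra.algebraMap_eq, RingHom.coe_comp, Function.comp_apply, Algebra.algebraMap_self, RingHom.id_apply, uS, cR]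
      dsimp
      rw [← h8, ← h6]
      have hv6 : (C.u : K) ^ 6 * (↑C.u⁻¹ : K) ^ 6 = 1 := by rw [← mul_pow, hv, one_pow]
      have hv8 : (C.u : K) ^ 8 * (↑C.u⁻¹ : K) ^ 8 = 1 := by rw [← mul_pow, hv, one_pow]
      linear_combination
        (f W₁.b₈ + 3 * C.r * f W₁.b₆ + 3 * C.r ^ 2 * f W₁.b₄ + C.r ^ 3 * f W₁.b₂ + 3 * C.r ^ 4) * hv8
        - C.r * (f W₁.b₆ + 2 * C.r * f W₁.b₄ + C.r ^ 2 * f W₁.b₂ + 4 * C.r ^ 3) * hv6
  let rS : S := ⟨C.r, hr⟩
  have h2 := congrArg WeierstrassCurve.a₂ hC
  have h6' := congrArg WeierstrassCurve.a₆ hC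
  simp only [variableChange_a₂, variableChange_a₆, map_a₁, map_a₂, map_a₃, map_a₄, map_a₆] at h2 h6'
  have hs : IsIntegral R C.s := by
    refine isIntegral_root (Polynomial.X ^ 2 + (Polynomial.C (cR W₁.a₁) * Polynomial.X
      + Polynomial.C (uS ^ 2 * cR W₂.a₂ - cR W₁.a₂ - 3 * rS))) ?_ ?_
    · exact Polynomial.monic_X_pow_add (lt_of_le_of_lt Polynomial.degree_linear_le (by decide))
    · simp only [map_add, map_sub, map_neg, map_mul, map_pow, map_ofNat, Polynomial.aeval_X, Polynomial.aeval_C, Subalgebra.algebraMap_eq, RingHom.coe_comp, Function.comp_apply, Algebra.algebraMap_self, RingHom.id_apply, uS, cR, rS]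
      dsimp
      rw [← h2]
      linear_combination
        ((C.u : K) * (↑C.u⁻¹ : K) + 1) * (f W₁.a₂ - C.s * f W₁.a₁ + 3 * C.r - C.s ^ 2) * hv
  have ht : IsIntegral R C.t := by
    refine isIntegral_root (Polynomial.X ^ 2 + (Polynomial.C (cR W₁.a₃ + rS * cR W₁.a₁) * Polynomial.X
      + Polynomial.C (uS ^ 6 * cR W₂.a₆ - cR W₁.a₆ - rS * cR W₁.a₄ - rS ^ 2 * cR W₁.a₂ - rS ^ 3))) ?_ ?_
    · exact Polynomial.monic_X_pow_add (lt_of_le_of_lt Polynomial.degree_linear_le (by decide))
    · simp only [map_add, map_sub, map_neg, map_mul, map_pow, map_ofNat, Polynomial.aeval_X, Polynomial.aeval_C, Subalgebra.algebraMap_eq, RingHom.coe_comp, Function.comp_apply, Algebra.algebraMap_self, RingHom.id_apply, uS, cR, rS]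
      dsimp
      rw [← h6']
      have hv6 : (C.u : K) ^ 6 * (↑C.u⁻¹ : K) ^ 6 = 1 := by rw [← mul_pow, hv, one_pow]
      linear_combination
        (f W₁.a₆ + C.r * f W₁.a₄ + C.r ^ 2 * f W₁.a₂ + C.r ^ 3 - C.t * f W₁.a₃ - C.t ^ 2
          - C.r * C.t * f W₁.a₁) * hv6
  -- the finite local algebra
  let T : Set K := {(C.u : K), (↑C.u⁻¹ : K), C.r, C.s, C.t}
  let B := Algebra.adjoin R T
  have hmem : ∀ {x : K}, x ∈ T → x ∈ B := fun h => Algebra.subset_adjoin h
  haveI : Module.Finite R B := Module.Finite.iff_fg.mpr (fg_adjoin_of_finite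
    (by simp [T]) (by rintro x (rfl | rfl | rfl | rfl | rfl) <;> assumption))
  have hfB : Function.Injective (algebraMap R B) := by
    intro x y h
    apply ((FaithfulSMul.algebraMap_injective (FractionRing R) K).comp
      (IsFractionRing.injective R (FractionRing R)))
    have := congrArg B.val.toRingHom h
    simpa [← IsScalarTower.algebraMap_apply] using this
  haveI : FaithfulSMul R B := (faithfulSMul_iff_algebraMap_injective R B).2 hfB
  haveI : IsLocalRing B := isLocalRing_of_finite R B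
  haveI : IsLocalHom (algebraMap R B) :=
    RingHom.IsIntegral.isLocalHom (algebraMap_isIntegral_iff.2 inferInstance) hfB
  let uB : Bˣ := ⟨⟨C.u, hmem (by simp [T])⟩, ⟨↑C.u⁻¹, hmem (by simp [T])⟩,
    Subtype.ext C.u.mul_inv, Subtype.ext C.u.inv_mul⟩
  let CB : WeierstrassCurve.VariableChange B :=
    ⟨uB, ⟨C.r, hmem (by simp [T])⟩, ⟨C.s, hmem (by simp [T])⟩, ⟨C.t, hmem (by simp [T])⟩⟩
  have hCB : CB • W₁.map (algebraMap R B) = W₂.map (algebraMap R B) := by
    have e : (CB • W₁.map (algebraMap R B)).map B.val.toRingHom =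
        (W₂.map (algebraMap R B)).map B.val.toRingHom := by
      rw [← WeierstrassCurve.map_variableChange, WeierstrassCurve.map_map, WeierstrassCurve.map_map,
        show B.val.toRingHom.comp (algebraMap R B) = f from B.val.comp_algebraMap]
      convert hC using 2
      ext <;> rfl
    exact WeierstrassCurve.map_injective (show Function.Injective B.val.toRingHom from Subtype.val_injective) e
  -- residues
  have hres : ∀ x : B, ∃ a : R, x - algebraMap R B a ∈ maximalIdeal B := by
    intro x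
    have : Algebra.IsIntegral (ResidueField R) (ResidueField B) := inferInstance
    obtain ⟨c, hc⟩ := IsAlgClosed.algebraMap_bijective_of_isIntegral
      (k := ResidueField R) (K := ResidueField B) |>.2 (residue B x)
    obtain ⟨a, rfl⟩ := residue_surjective c
    refine ⟨a, ?_⟩
    rw [← residue_eq_zero_iff, map_sub, ← hc, sub_eq_zero]
    rfl
  obtain ⟨au, hau⟩ := hres uB
  have hauu : IsUnit au := by
    apply IsUnit.of_map (algebraMap R B)
    by_contra h
    exact (maximalIdeal.isMaximal B).ne_top ((Ideal.eq_top_iff_one _).2 (by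
      have := add_mem hau ((mem_maximalIdeal _).2 h)
      rw [sub_add_cancel] at this
      exact absurd uB.isUnit ((mem_maximalIdeal _).1 this)))
  obtain ⟨ar, har⟩ := hres CB.r
  obtain ⟨as', has⟩ := hres CB.s
  obtain ⟨at', hatt⟩ := hres CB.t
  let C₀ : WeierstrassCurve.VariableChange R := ⟨hauu.unit, ar, as', at'⟩
  set D := CB * (C₀.map (algebraMap R B))⁻¹ with hDdef
  have hDW : D • (C₀ • W₁).map (algebraMap R B) = W₂.map (algebraMap R B) := by
    rw [← WeierstrassCurve.map_variableChange, hDdef, mul_smul, inv_smul_smul, hCB]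
  -- `D` is trivial on the residue field
  let π := residue B
  have hπ : CB.map π = (C₀.map (algebraMap R B)).map π := by
    have : ∀ {x : B} {a : R}, x - algebraMap R B a ∈ maximalIdeal B → π x = π (algebraMap R B a) :=
      fun h => by rw [← sub_eq_zero, ← map_sub]; exact (residue_eq_zero_iff _).2 h
    ext
    · exact this hau
    · exact this har
    · exact this has
    · exact this hatt
  have hD1 : D.map π = 1 := by
    have := map_mul (WeierstrassCurve.VariableChange.mapHom π) CB (C₀.map (algebraMap R B))⁻¹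
    rw [map_inv] at this
    change D.map π = CB.map π * ((C₀.map (algebraMap R B)).map π)⁻¹ at this
    rw [this, hπ, mul_inv_cancel]
  have hcong : (C₀ • W₁).map (residue R) = W₂.map (residue R) := by
    have e := congrArg (fun W => WeierstrassCurve.map W π) hDW
    rw [← WeierstrassCurve.map_variableChange, hD1, one_smul, WeierstrassCurve.map_map, WeierstrassCurve.map_map] at e
    rw [show π.comp (algebraMap R B) = (ResidueField.map (algebraMap R B)).comp (residue R) from rfl,
      ← WeierstrassCurve.map_map, ← WeierstrassCurve.map_map] at e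
    exact WeierstrassCurve.map_injective (RingHom.injective _) e
  -- work modulo the maximal ideal of `R`
  set I := (maximalIdeal R).map (algebraMap R B) with hI
  let φ : R ⧸ maximalIdeal R →+* B ⧸ I :=
    Ideal.Quotient.lift _ ((Ideal.Quotient.mk I).comp (algebraMap R B)) fun x hx => by
      rw [RingHom.comp_apply, Ideal.Quotient.eq_zero_iff_mem]
      exact Ideal.mem_map_of_mem _ hx
  letI : Field (R ⧸ maximalIdeal R) := Ideal.Quotient.field _
  set Wk := W₂.map (Ideal.Quotient.mk (maximalIdeal R)) with hWk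
  have hWI : ∀ W : WeierstrassCurve R,
      (W.map (Ideal.Quotient.mk (maximalIdeal R))).map φ =
        (W.map (algebraMap R B)).map (Ideal.Quotient.mk I) := fun W => by
    rw [WeierstrassCurve.map_map, WeierstrassCurve.map_map]; rfl
  have hfix : D.map (Ideal.Quotient.mk I) • Wk.map φ = Wk.map φ := by
    conv_lhs => rw [hWk, show W₂.map (Ideal.Quotient.mk (maximalIdeal R)) =
      (C₀ • W₁).map (Ideal.Quotient.mk (maximalIdeal R)) from hcong.symm, hWI,
      WeierstrassCurve.map_variableChange, hDW]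
    rw [hWk, hWI]
  set D' := D.map (Ideal.Quotient.mk I) with hD'
  have hmax : ∀ x : B, π x = 0 → Ideal.Quotient.mk I x ∈ (⊥ : Ideal (B ⧸ I)).jacobson := by
    intro x hx
    have hx' : x ∈ maximalIdeal B := (residue_eq_zero_iff _).1 hx
    rw [Ideal.mem_jacobson_bot]
    intro y
    obtain ⟨y, rfl⟩ := Ideal.Quotient.mk_surjective y
    rw [← map_mul, ← map_one (Ideal.Quotient.mk I), ← map_add]
    refine IsUnit.map _ ?_
    by_contra h
    have h2 := sub_mem ((mem_maximalIdeal _).2 h) (Ideal.mul_mem_right y _ hx')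
    rw [add_sub_cancel_left] at h2
    exact (maximalIdeal.isMaximal B).ne_top ((Ideal.eq_top_iff_one _).2 h2)
  have hDone : D' = 1 := by
    refine eq_one_of_fix φ Wk D' ?_ ?_ ?_ ?_ hfix
    · have := hmax ((↑D.u⁻¹ : B) - 1) (by
        have h := congrArg (fun E : WeierstrassCurve.VariableChange (ResidueField B) => (↑E.u⁻¹ : ResidueField B)) hD1
        simpa [WeierstrassCurve.VariableChange.map, WeierstrassCurve.VariableChange.one_def, sub_eq_zero] using h)
      simpa [D', WeierstrassCurve.VariableChange.map] using this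
    · exact hmax D.r (congrArg WeierstrassCurve.VariableChange.r hD1)
    · exact hmax D.s (congrArg WeierstrassCurve.VariableChange.s hD1)
    · exact hmax D.t (congrArg WeierstrassCurve.VariableChange.t hD1)
  have hCI : CB.map (Ideal.Quotient.mk I) = (C₀.map (algebraMap R B)).map (Ideal.Quotient.mk I) := by
    have := map_mul (WeierstrassCurve.VariableChange.mapHom (Ideal.Quotient.mk I)) CB
      (C₀.map (algebraMap R B))⁻¹
    rw [map_inv] at this
    change D' = CB.map (Ideal.Quotient.mk I) * ((C₀.map (algebraMap R B)).map (Ideal.Quotient.mk I))⁻¹ at this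
    rw [hDone] at this
    exact mul_inv_eq_one.1 this.symm
  -- every element of `B` comes from `R` modulo `I`
  let P : Subalgebra R (B ⧸ I) := (⊥ : Subalgebra R (B ⧸ I))
  have hgen : ∀ x : B, Ideal.Quotient.mk I x ∈ P := by
    intro x
    have hTP : ∀ y : B, (y : K) ∈ T → Ideal.Quotient.mk I y ∈ P := by
      intro y hy
      simp only [T, Set.mem_insert_iff, Set.mem_singleton_iff] at hy
      rcases hy with hy | hy | hy | hy | hy
      · rw [show y = (uB : B) from Subtype.ext hy]
        refine Algebra.mem_bot.2 ⟨au, ?_⟩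
        have := congrArg (fun E : WeierstrassCurve.VariableChange (B ⧸ I) => (E.u : B ⧸ I)) hCI
        exact this.symm
      · rw [show y = ((uB⁻¹ : Bˣ) : B) from Subtype.ext hy]
        refine Algebra.mem_bot.2 ⟨((hauu.unit⁻¹ : Rˣ) : R), ?_⟩
        have := congrArg (fun E : WeierstrassCurve.VariableChange (B ⧸ I) => ((E.u⁻¹ : (B ⧸ I)ˣ) : B ⧸ I)) hCI
        exact this.symm
      · rw [show y = CB.r from Subtype.ext hy]
        exact Algebra.mem_bot.2 ⟨ar, (congrArg WeierstrassCurve.VariableChange.r hCI).symm⟩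
      · rw [show y = CB.s from Subtype.ext hy]
        exact Algebra.mem_bot.2 ⟨as', (congrArg WeierstrassCurve.VariableChange.s hCI).symm⟩
      · rw [show y = CB.t from Subtype.ext hy]
        exact Algebra.mem_bot.2 ⟨at', (congrArg WeierstrassCurve.VariableChange.t hCI).symm⟩
    obtain ⟨x, hx⟩ := x
    induction hx using Algebra.adjoin_induction with
    | mem y hy => exact hTP _ hy
    | algebraMap r => exact P.algebraMap_mem r
    | add a b _ _ ha hb => exact P.add_mem ha hb
    | mul a b _ _ ha hb => exact P.mul_mem ha hb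
  have hsurj : Function.Surjective (algebraMap R B) := by
    have htop : (⊤ : Submodule R B) ≤ LinearMap.range (Algebra.linearMap R B) ⊔ maximalIdeal R • ⊤ := by
      intro x _
      obtain ⟨a, ha⟩ := Algebra.mem_bot.1 (hgen x)
      refine Submodule.mem_sup.2 ⟨algebraMap R B a, ⟨a, rfl⟩, x - algebraMap R B a, ?_, by ring⟩
      rw [Ideal.smul_top_eq_map, Submodule.restrictScalars_mem, ← hI, ← Ideal.Quotient.eq_zero_iff_mem,
        map_sub, sub_eq_zero, ← ha]
      rfl
    have := Submodule.le_of_le_smul_of_le_jacobson_bot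
      (N := LinearMap.range (Algebra.linearMap R B)) (Module.Finite.fg_top (R := R) (M := B))
      (maximalIdeal_le_jacobson ⊥) htop
    exact fun x => this (Submodule.mem_top (x := x))
  obtain ⟨ru, hru⟩ := hsurj uB
  have hruu : IsUnit ru := IsUnit.of_map (algebraMap R B) _ (hru ▸ uB.isUnit)
  obtain ⟨rr, hrr⟩ := hsurj CB.r
  obtain ⟨rs, hrs⟩ := hsurj CB.s
  obtain ⟨rt, hrt⟩ := hsurj CB.t
  refine ⟨⟨hruu.unit, rr, rs, rt⟩, WeierstrassCurve.map_injective
    (FaithfulSMul.algebraMap_injective R B) ?_⟩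
  dsimp only
  rw [← WeierstrassCurve.map_variableChange]
  convert hCB using 2
  ext
  · exact congrArg Subtype.val hru
  · exact congrArg Subtype.val hrr
  · exact congrArg Subtype.val hrs
  · exact congrArg Subtype.val hrt

end Groth.Agent.H2.EllComplete
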