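import Mathlib.AlgebraicGeometry.EllipticCurve.NormalForms
import Mathlib.AlgebraicGeometry.EllipticCurve.VariableChange
import Mathlib.RingTheory.RingHom.Etale
import Mathlib.RingTheory.Etale.StandardEtale
import Mathlib.FieldTheory.IsAlgClosed.AlgebraicClosure
import Mathlib.RingTheory.Spectrum.Prime.Topology

/-!
# Elliptic curves with the same j-invariant (j, j - 1728 units) are étale locally isomorphic
-/

namespace Groth.Agent.H2.EllNear

open Polynomial WeierstrassCurve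

universe u

variable {A : Type u} [CommRing A] {K : Type u} [Field K]

/-- `W₁` and `W₂` become isomorphic on an étale neighbourhood of the point `φ`. -/
def IsoNear (φ : A →+* K) (W₁ W₂ : WeierstrassCurve A) : Prop :=
  ∃ (B : Type u) (_ : CommRing B) (η : A →+* B) (ψ : B →+* K), η.Etale ∧ ψ.comp η = φ ∧
    ∃ C : WeierstrassCurve.VariableChange B, C • W₁.map η = W₂.map η

lemma etale_comp {B D : Type u} [CommRing B] [CommRing D] {η : A →+* B} {η' : B →+* D}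
    (h : η.Etale) (h' : η'.Etale) : (η'.comp η).Etale :=
  RingHom.Etale.stableUnderComposition _ _ h h'

lemma IsoNear.of_ext {B : Type u} [CommRing B] {φ : A →+* K} {η : A →+* B} {ψ : B →+* K}
    {W₁ W₂ : WeierstrassCurve A} (hη : η.Etale) (hψ : ψ.comp η = φ)
    (h : IsoNear ψ (W₁.map η) (W₂.map η)) : IsoNear φ W₁ W₂ := by
  obtain ⟨D, _, η', ψ', hη', hψ', C, hC⟩ := h
  refine ⟨D, inferInstance, η'.comp η, ψ', etale_comp hη hη', ?_, C, ?_⟩
  · rw [← RingHom.comp_assoc, hψ', hψ]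
  · rw [← WeierstrassCurve.map_map, ← WeierstrassCurve.map_map]
    exact hC

lemma IsoNear.of_vc {φ : A →+* K} {W₁ W₂ : WeierstrassCurve A}
    {C : WeierstrassCurve.VariableChange A} (h : C • W₁ = W₂) : IsoNear φ W₁ W₂ := by
  refine ⟨A, inferInstance, RingHom.id A, φ, RingHom.Etale.of_bijective Function.bijective_id,
    RingHom.comp_id φ, C, ?_⟩
  simp only [WeierstrassCurve.map_id]
  exact h

lemma IsoNear.conj {φ : A →+* K} {W₁ W₂ : WeierstrassCurve A}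
    (C₁ C₂ : WeierstrassCurve.VariableChange A)
    (h : IsoNear φ (C₁ • W₁) (C₂ • W₂)) : IsoNear φ W₁ W₂ := by
  obtain ⟨B, _, η, ψ, hη, hψ, C, hC⟩ := h
  refine ⟨B, inferInstance, η, ψ, hη, hψ, (C₂.map η)⁻¹ * C * C₁.map η, ?_⟩
  rw [← WeierstrassCurve.map_variableChange, ← WeierstrassCurve.map_variableChange] at hC
  rw [mul_smul, mul_smul, hC, ← mul_smul, inv_mul_cancel, one_smul]

lemma away (φ : A →+* K) (g : A) (h : φ g ≠ 0) :
    ∃ (B : Type u) (_ : CommRing B) (η : A →+* B) (ψ : B →+* K),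
      η.Etale ∧ ψ.comp η = φ ∧ IsUnit (η g) :=
  ⟨Localization.Away g, inferInstance, algebraMap A (Localization.Away g),
    IsLocalization.Away.lift g (isUnit_iff_ne_zero.2 h),
    RingHom.etale_algebraMap.2 (Algebra.Etale.of_isLocalizationAway g),
    IsLocalization.Away.lift_comp g _,
    IsLocalization.Away.algebraMap_isUnit g⟩

lemma quad (φ : A →+* K) (b c : A) (α : K) (hα : α ^ 2 + φ b * α + φ c = 0)
    (hd : 2 * α + φ b ≠ 0) :
    ∃ (B : Type u) (_ : CommRing B) (η : A →+* B) (ψ : B →+* K) (ρ : B),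
      η.Etale ∧ ψ.comp η = φ ∧ ρ ^ 2 + η b * ρ + η c = 0 ∧ ψ ρ = α := by
  haveI : Nontrivial A := φ.domain_nontrivial
  let f : A[X] := X ^ 2 + C b * X + C c
  have hf : f.Monic := by
    simp only [f, add_assoc]
    exact Polynomial.monic_X_pow_add (lt_of_le_of_lt Polynomial.degree_linear_le (by decide))
  let P : StandardEtalePair A := ⟨f, hf, Polynomial.derivative f, 1, 0, 1, by simp⟩
  letI := φ.toAlgebra
  have hmap : P.HasMap α := by
    refine ⟨?_, isUnit_iff_ne_zero.2 ?_⟩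
    · simpa [P, f, RingHom.algebraMap_toAlgebra] using hα
    · simp [P, f, RingHom.algebraMap_toAlgebra]
      convert hd using 1
      ring
  refine ⟨P.Ring, inferInstance, algebraMap A P.Ring, (P.lift α hmap).toRingHom, P.X,
    RingHom.etale_algebraMap.2 inferInstance, (P.lift α hmap).comp_algebraMap, ?_,
    P.lift_X α hmap⟩
  simpa [P, f] using P.hasMap_X.1

lemma j_cross {W₁ W₂ : WeierstrassCurve A} [W₁.IsElliptic] [W₂.IsElliptic] (hj : W₁.j = W₂.j) :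
    W₁.c₄ ^ 3 * W₂.Δ = W₂.c₄ ^ 3 * W₁.Δ := by
  rw [← W₁.coe_Δ', ← W₂.coe_Δ']
  simp only [WeierstrassCurve.j] at hj
  have e1 := W₁.Δ'.mul_inv
  have e2 := W₂.Δ'.mul_inv
  linear_combination (W₁.Δ' * W₂.Δ' : A) * hj - W₁.c₄ ^ 3 * (W₂.Δ' : A) * e1
    + W₂.c₄ ^ 3 * (W₁.Δ' : A) * e2

lemma isUnit_c₄ (W : WeierstrassCurve A) [W.IsElliptic] (h : IsUnit W.j) : IsUnit W.c₄ := by
  rw [WeierstrassCurve.j] at h
  exact (isUnit_pow_iff three_ne_zero).1 (IsUnit.mul_iff.1 h).2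

lemma isUnit_c₆ (W : WeierstrassCurve A) [W.IsElliptic] (h : IsUnit (W.j - 1728)) :
    IsUnit W.c₆ := by
  have e : W.c₆ ^ 2 = (W.j - 1728) * W.Δ := by
    rw [WeierstrassCurve.j, ← W.coe_Δ', sub_mul, mul_right_comm, W.Δ'.inv_mul, one_mul]
    have := W.c_relation
    rw [← W.coe_Δ'] at this
    linear_combination this
  exact (isUnit_pow_iff two_ne_zero).1 (e ▸ h.mul W.isUnit_Δ)

lemma short_case [IsAlgClosed K] {φ : A →+* K} (h2 : φ 2 ≠ 0) {W₁ W₂ : WeierstrassCurve A}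
    [W₁.IsElliptic] [W₂.IsElliptic] [W₁.IsShortNF] [W₂.IsShortNF] (hj : W₁.j = W₂.j)
    (h0 : IsUnit W₁.j) (h1 : IsUnit (W₁.j - 1728)) : IsoNear φ W₁ W₂ := by
  have c4 := isUnit_c₄ W₁ h0
  have c4' := isUnit_c₄ W₂ (hj ▸ h0)
  have c6 := isUnit_c₆ W₁ h1
  have c6' := isUnit_c₆ W₂ (hj ▸ h1)
  rw [W₁.c₄_of_isShortNF] at c4
  rw [W₂.c₄_of_isShortNF] at c4'
  rw [W₁.c₆_of_isShortNF] at c6
  rw [W₂.c₆_of_isShortNF] at c6'
  obtain ⟨h48, ha4⟩ := IsUnit.mul_iff.1 c4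
  obtain ⟨-, ha4'⟩ := IsUnit.mul_iff.1 c4'
  obtain ⟨h864, ha6⟩ := IsUnit.mul_iff.1 c6
  obtain ⟨-, ha6'⟩ := IsUnit.mul_iff.1 c6'
  have hrel : W₁.a₄ ^ 3 * W₂.a₆ ^ 2 = W₂.a₄ ^ 3 * W₁.a₆ ^ 2 := by
    have e := j_cross hj
    rw [W₁.c₄_of_isShortNF, W₂.c₄_of_isShortNF, W₁.Δ_of_isShortNF, W₂.Δ_of_isShortNF] at e
    apply (((h48.pow 3).mul ((isUnit_of_dvd_unit (by exact ⟨-1, by ring⟩) h48) :
      IsUnit (48 : A))).mul (isUnit_of_dvd_unit (show (9 : A) ∣ -864 from ⟨-96, by ring⟩) h864)).mul_left_cancel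
    linear_combination -e
  obtain ⟨v, hv⟩ := (ha4.mul ha6').exists_left_inv
  set w := v * W₁.a₆ * W₂.a₄ with hw
  obtain ⟨α, hα⟩ := IsAlgClosed.exists_pow_nat_eq (φ w) (n := 2) two_pos
  have hwu : IsUnit w := ((IsUnit.of_mul_eq_one _ hv).mul ha6).mul ha4'
  have hα0 : α ≠ 0 := fun h => (hwu.map φ).ne_zero (by rw [← hα, h, zero_pow two_ne_zero])
  obtain ⟨B, _, η, ψ, ρ, hη, hψ, hρ, -⟩ := quad φ 0 (-w) α
    (by rw [map_zero, map_neg, hα]; ring) (by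
      rw [map_zero, add_zero]
      exact mul_ne_zero (by rw [← map_ofNat φ 2]; exact h2) hα0)
  rw [map_zero, zero_mul, add_zero, map_neg, ← sub_eq_add_neg, sub_eq_zero] at hρ
  obtain ⟨u, rfl⟩ : IsUnit ρ := (isUnit_pow_iff two_ne_zero).1 (hρ ▸ hwu.map η)
  refine IsoNear.of_ext hη hψ (IsoNear.of_vc (C := ⟨u, 0, 0, 0⟩) ?_)
  have hu2 : W₁.a₄ * W₂.a₆ * w = W₁.a₆ * W₂.a₄ := by
    rw [hw]; linear_combination W₁.a₆ * W₂.a₄ * hv
  have e4 : W₁.a₄ = w ^ 2 * W₂.a₄ := by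
    apply (ha4.pow 2 |>.mul (ha6'.pow 2)).mul_left_cancel
    linear_combination hrel - W₂.a₄ * (W₁.a₄ * W₂.a₆ * w + W₁.a₆ * W₂.a₄) * hu2
  have e6 : W₁.a₆ = w ^ 3 * W₂.a₆ := by
    apply (ha4.pow 3 |>.mul (ha6'.pow 2)).mul_left_cancel
    have e := congrArg (· ^ 3) hu2
    linear_combination W₁.a₆ * hrel - e
  ext
  · simp [variableChange_a₁, a₁_of_isShortNF]
  · simp [variableChange_a₂, a₁_of_isShortNF, a₂_of_isShortNF]
  · simp [variableChange_a₃, a₁_of_isShortNF, a₃_of_isShortNF]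
  · simp only [variableChange_a₄, map_a₁, map_a₂, map_a₃, map_a₄, a₁_of_isShortNF, a₂_of_isShortNF,
      a₃_of_isShortNF, map_zero]
    rw [e4, map_mul, map_pow, ← hρ]
    calc _ = ((u⁻¹ : Bˣ) : B) ^ 4 * (u : B) ^ 4 * η W₂.a₄ := by ring
      _ = _ := by rw [← mul_pow, u.inv_mul, one_pow, one_mul]
  · simp only [variableChange_a₆, map_a₁, map_a₂, map_a₃, map_a₄, map_a₆, a₁_of_isShortNF,
      a₂_of_isShortNF, a₃_of_isShortNF, map_zero]
    rw [e6, map_mul, map_pow, ← hρ]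
    calc _ = ((u⁻¹ : Bˣ) : B) ^ 6 * (u : B) ^ 6 * η W₂.a₆ := by ring
      _ = _ := by rw [← mul_pow, u.inv_mul, one_pow, one_mul]

lemma eq_of_sub_mul {x y z : A} (hz : IsUnit z) (h : (x - y) * z = 0) : x = y :=
  sub_eq_zero.1 (hz.mul_left_eq_zero.1 h)

/-- `a₁ = a₃ = a₄ = 0`, `a₂` a unit, residue characteristic three. -/
lemma three_case [IsAlgClosed K] {φ : A →+* K} (h2 : IsUnit (2 : A)) (h3 : φ 3 = 0)
    {W₁ W₂ : WeierstrassCurve A}
    [W₁.IsElliptic] [W₂.IsElliptic] (hj : W₁.j = W₂.j)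
    (x1 : W₁.a₁ = 0) (x3 : W₁.a₃ = 0) (x4 : W₁.a₄ = 0)
    (y1 : W₂.a₁ = 0) (y3 : W₂.a₃ = 0) (y4 : W₂.a₄ = 0)
    (hx : IsUnit W₁.a₂) (hy : IsUnit W₂.a₂) : IsoNear φ W₁ W₂ := by
  obtain ⟨v, hv⟩ := (hx.pow 3).exists_left_inv
  obtain ⟨v', hv'⟩ := (hy.pow 3).exists_left_inv
  have hd : φ (64 + 432 * (W₁.a₆ * v + W₂.a₆ * v')) ≠ 0 := by
    have h432 : φ 432 = 0 := by
      rw [show (432 : A) = 3 * 144 by ring, map_mul, h3, zero_mul]
    rw [map_add, map_mul, h432, zero_mul, add_zero, show (64 : A) = 2 ^ 6 by ring, map_pow]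
    exact pow_ne_zero _ (h2.map φ).ne_zero
  obtain ⟨B, _, η, ψ, hη, hψ, hdu⟩ := away φ _ hd
  refine IsoNear.of_ext hη hψ ?_
  have e := congrArg η (j_cross hj)
  simp only [WeierstrassCurve.Δ, WeierstrassCurve.c₄, b₂, b₄, b₆, b₈, x1, x3, x4, y1, y3, y4] at e
  have hz : η (W₁.a₆ * v) = η (W₂.a₆ * v') := by
    refine eq_of_sub_mul hdu ?_
    have hv1 := congrArg η hv
    have hv2 := congrArg η hv'
    simp only [map_add, map_sub, map_mul, map_pow, map_ofNat, map_one, map_zero, map_neg] at hv1 hv2 e ⊢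
    apply (((h2.map η).pow 12).mul (((hx.map η).pow 6).mul ((hy.map η).pow 6))).mul_left_cancel
    rw [map_ofNat, mul_zero]
    linear_combination e
      + 4096 * η W₂.a₂ ^ 6 * η W₁.a₆ * (64 * η W₁.a₂ ^ 3 + 432 * η W₁.a₆ * (η v * η W₁.a₂ ^ 3 + 1)) * hv1
      - 4096 * η W₁.a₂ ^ 6 * η W₂.a₆ * (64 * η W₂.a₂ ^ 3 + 432 * η W₂.a₆ * (η v' * η W₂.a₂ ^ 3 + 1)) * hv2
  obtain ⟨i', hi'⟩ := (hy.map η).exists_left_inv
  have hwu : IsUnit (η W₁.a₂ * i') := (hx.map η).mul (IsUnit.of_mul_eq_one _ hi')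
  obtain ⟨α, hα⟩ := IsAlgClosed.exists_pow_nat_eq (ψ (η W₁.a₂ * i')) (n := 2) two_pos
  have hα0 : α ≠ 0 := fun h => (hwu.map ψ).ne_zero (by rw [← hα, h, zero_pow two_ne_zero])
  obtain ⟨D, _, η', ψ', ρ, hη', hψ', hρ, -⟩ := quad ψ 0 (-(η W₁.a₂ * i')) α
    (by rw [map_zero, map_neg, hα]; ring) (by
      rw [map_zero, add_zero]
      exact mul_ne_zero (by rw [← map_ofNat (ψ.comp η) 2]; exact (h2.map (ψ.comp η)).ne_zero) hα0)
  rw [map_zero, zero_mul, add_zero, map_neg, ← sub_eq_add_neg, sub_eq_zero] at hρ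
  obtain ⟨u, rfl⟩ : IsUnit ρ := (isUnit_pow_iff two_ne_zero).1 (hρ ▸ hwu.map η')
  refine IsoNear.of_ext hη' hψ' (IsoNear.of_vc (C := ⟨u, 0, 0, 0⟩) ?_)
  have e2 : η' (η W₁.a₂) = (u : D) ^ 2 * η' (η W₂.a₂) := by
    rw [hρ, ← map_mul, mul_assoc, hi', mul_one]
  have e6 : η' (η W₁.a₆) = (u : D) ^ 6 * η' (η W₂.a₆) := by
    have k := congrArg η' hz
    have k1 := congrArg η' (congrArg η hv)
    have k2 := congrArg η' (congrArg η hv')
    simp only [map_mul, map_pow, map_one] at k k1 k2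
    rw [e2] at k1
    linear_combination (-η' (η W₁.a₆)) * k1 + (η' (η W₂.a₂) ^ 3 * (u : D) ^ 6) * k
      + ((u : D) ^ 6 * η' (η W₂.a₆)) * k2
  ext
  · simp [variableChange_a₁, x1, y1]
  · simp only [variableChange_a₂, map_a₁, map_a₂, x1, map_zero]
    rw [e2]
    calc _ = ((u⁻¹ : Dˣ) : D) ^ 2 * (u : D) ^ 2 * η' (η W₂.a₂) := by ring
      _ = _ := by rw [← mul_pow, u.inv_mul, one_pow, one_mul]
  · simp [variableChange_a₃, x1, x3, y3]
  · simp [variableChange_a₄, x1, x3, x4, y4]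
  · simp only [variableChange_a₆, map_a₁, map_a₂, map_a₃, map_a₄, map_a₆, x1, x3, x4, map_zero]
    rw [e6]
    calc _ = ((u⁻¹ : Dˣ) : D) ^ 6 * (u : D) ^ 6 * η' (η W₂.a₆) := by ring
      _ = _ := by rw [← mul_pow, u.inv_mul, one_pow, one_mul]

/-- `a₁ = 1`, `a₃ = a₄ = 0`, residue characteristic two. -/
lemma two_case [IsAlgClosed K] {φ : A →+* K} (h2 : φ 2 = 0) {W₁ W₂ : WeierstrassCurve A}
    [W₁.IsElliptic] [W₂.IsElliptic] (hj : W₁.j = W₂.j)
    (x1 : W₁.a₁ = 1) (x3 : W₁.a₃ = 0) (x4 : W₁.a₄ = 0)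
    (y1 : W₂.a₁ = 1) (y3 : W₂.a₃ = 0) (y4 : W₂.a₄ = 0)
    (hx : IsUnit (1 + 4 * W₁.a₂)) (hy : IsUnit (1 + 4 * W₂.a₂)) : IsoNear φ W₁ W₂ := by
  obtain ⟨v, hv⟩ := (hx.pow 3).exists_left_inv
  obtain ⟨v', hv'⟩ := (hy.pow 3).exists_left_inv
  have hd : φ (1 + 432 * (W₁.a₆ * v + W₂.a₆ * v')) ≠ 0 := by
    have h432 : φ 432 = 0 := by
      rw [show (432 : A) = 2 * 216 by ring, map_mul, h2, zero_mul]
    rw [map_add, map_mul, h432, zero_mul, add_zero, map_one]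
    exact one_ne_zero
  obtain ⟨B, _, η, ψ, hη, hψ, hdu⟩ := away φ _ hd
  refine IsoNear.of_ext hη hψ ?_
  have e := congrArg η (j_cross hj)
  simp only [WeierstrassCurve.Δ, WeierstrassCurve.c₄, b₂, b₄, b₆, b₈, x1, x3, x4, y1, y3, y4] at e
  have hz : η (W₁.a₆ * v) = η (W₂.a₆ * v') := by
    refine eq_of_sub_mul hdu ?_
    have hv1 := congrArg η hv
    have hv2 := congrArg η hv'
    simp only [map_add, map_sub, map_mul, map_pow, map_ofNat, map_one, map_zero, map_neg] at hv1 hv2 e ⊢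
    apply (((hx.map η).pow 6).mul ((hy.map η).pow 6)).mul_left_cancel
    simp only [map_add, map_mul, map_ofNat, map_one, mul_zero]
    linear_combination e
      + (1 + 4 * η W₂.a₂) ^ 6 * η W₁.a₆ * ((1 + 4 * η W₁.a₂) ^ 3 + 432 * η W₁.a₆ * (η v * (1 + 4 * η W₁.a₂) ^ 3 + 1)) * hv1
      - (1 + 4 * η W₁.a₂) ^ 6 * η W₂.a₆ * ((1 + 4 * η W₂.a₂) ^ 3 + 432 * η W₂.a₆ * (η v' * (1 + 4 * η W₂.a₂) ^ 3 + 1)) * hv2
  obtain ⟨i', hi'⟩ := (hy.map η).exists_left_inv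
  set c : B := -((η W₁.a₂ - η W₂.a₂) * i') with hc
  obtain ⟨α, hα⟩ := IsAlgClosed.exists_root (X ^ 2 + X + Polynomial.C (ψ c)) (by
    have : (X ^ 2 + X + Polynomial.C (ψ c) : K[X]).degree = 2 := by compute_degree!
    rw [this]; decide)
  have hψ2 : ψ 2 = 0 := by
    rw [← hψ] at h2
    rw [← map_ofNat η 2]
    exact h2
  obtain ⟨D, _, η', ψ', s, hη', hψ', hs, -⟩ := quad ψ 1 c α
    (by simpa [IsRoot] using hα) (by
      rw [map_one, ← map_ofNat ψ 2, hψ2, zero_mul, zero_add]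
      exact one_ne_zero)
  rw [map_one, one_mul] at hs
  simp only [map_add, map_mul, map_ofNat, map_one] at hi'
  have hw : (1 + 2 * s) ^ 2 * η' (1 + 4 * η W₂.a₂) = η' (1 + 4 * η W₁.a₂) := by
    have k := congrArg η' hi'
    simp only [hc, map_add, map_sub, map_mul, map_neg, map_ofNat, map_one] at hs k ⊢
    linear_combination (4 * (1 + 4 * η' (η W₂.a₂))) * hs + (4 * (η' (η W₁.a₂) - η' (η W₂.a₂))) * k
  have hu : IsUnit (1 + 2 * s) := by
    have : IsUnit ((1 + 2 * s) ^ 2 * η' (1 + 4 * η W₂.a₂)) := by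
      rw [hw]
      exact IsUnit.map η' (by rw [← map_ofNat η 4, ← map_one η, ← map_mul, ← map_add]; exact hx.map η)
    exact (isUnit_pow_iff two_ne_zero).1 (IsUnit.mul_iff.1 this).1
  obtain ⟨u, hu'⟩ := hu
  refine IsoNear.of_ext hη' hψ' (IsoNear.of_vc (C := ⟨u, 0, s, 0⟩) ?_)
  simp only [map_add, map_mul, map_ofNat, map_one] at hw
  have hs2 : η' (η W₁.a₂) - s - s ^ 2 = (u : D) ^ 2 * η' (η W₂.a₂) := by
    have k := congrArg η' hi'
    simp only [hc, map_add, map_sub, map_mul, map_neg, map_ofNat, map_one] at hs k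
    rw [hu']
    linear_combination -(1 + 4 * η' (η W₂.a₂)) * hs - (η' (η W₁.a₂) - η' (η W₂.a₂)) * k
  have e6 : η' (η W₁.a₆) = (u : D) ^ 6 * η' (η W₂.a₆) := by
    have k := congrArg η' hz
    have k1 := congrArg η' (congrArg η hv)
    have k2 := congrArg η' (congrArg η hv')
    simp only [map_add, map_mul, map_pow, map_ofNat, map_one] at k k1 k2
    rw [← hw, ← hu'] at k1
    linear_combination (-η' (η W₁.a₆)) * k1 + ((1 + 4 * η' (η W₂.a₂)) ^ 3 * (u : D) ^ 6) * k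
      + ((u : D) ^ 6 * η' (η W₂.a₆)) * k2
  ext
  · simp only [variableChange_a₁, map_a₁, x1, y1, map_one]
    rw [← hu', u.inv_mul]
  · simp only [variableChange_a₂, map_a₁, map_a₂, x1, map_one]
    calc _ = ((u⁻¹ : Dˣ) : D) ^ 2 * (η' (η W₁.a₂) - s - s ^ 2) := by ring
      _ = ((u⁻¹ : Dˣ) : D) ^ 2 * (u : D) ^ 2 * η' (η W₂.a₂) := by rw [hs2, mul_assoc]
      _ = _ := by rw [← mul_pow, u.inv_mul, one_pow, one_mul]
  · simp [variableChange_a₃, x3, y3]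
  · simp [variableChange_a₄, x3, x4, y4]
  · simp only [variableChange_a₆, map_a₁, map_a₂, map_a₃, map_a₄, map_a₆, x1, x3, x4, map_zero, map_one]
    rw [e6]
    calc _ = ((u⁻¹ : Dˣ) : D) ^ 6 * (u : D) ^ 6 * η' (η W₂.a₆) := by ring
      _ = _ := by rw [← mul_pow, u.inv_mul, one_pow, one_mul]

/-- A root `ρ`, a unit, of `ρ² - ρ + e` near a zero of `e`. -/
lemma quad_one (φ : A →+* K) (e : A) (he : φ e = 0) :
    ∃ (B : Type u) (_ : CommRing B) (η : A →+* B) (ψ : B →+* K) (ρ : B),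
      η.Etale ∧ ψ.comp η = φ ∧ ρ ^ 2 - ρ + η e = 0 ∧ IsUnit ρ := by
  obtain ⟨B, _, η, ψ, ρ, hη, hψ, hρ, hρ1⟩ := quad φ (-1) e 1
    (by rw [map_neg, map_one, he]; ring) (by rw [map_neg, map_one]; norm_num)
  obtain ⟨D, _, η', ψ', hη', hψ', hu⟩ := away ψ ρ (by rw [hρ1]; exact one_ne_zero)
  refine ⟨D, inferInstance, η'.comp η, ψ', η' ρ, etale_comp hη hη',
    by rw [← RingHom.comp_assoc, hψ', hψ], ?_, hu⟩
  have k := congrArg η' hρ
  simp only [map_add, map_mul, map_pow, map_neg, map_one, map_zero] at k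
  simp only [RingHom.comp_apply]
  linear_combination k

/-- Bring `W` into the form `a₁ = a₃ = a₄ = 0` near a point of residue characteristic three. -/
lemma three_norm {φ : A →+* K} (h2 : IsUnit (2 : A)) (h3 : φ 3 = 0) (W : WeierstrassCurve A)
    [W.IsElliptic] (h0 : IsUnit W.j) :
    ∃ (B : Type u) (_ : CommRing B) (η : A →+* B) (ψ : B →+* K)
      (C : WeierstrassCurve.VariableChange B), η.Etale ∧ ψ.comp η = φ ∧
      (C • W.map η).a₁ = 0 ∧ (C • W.map η).a₃ = 0 ∧ (C • W.map η).a₄ = 0 ∧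
      IsUnit (C • W.map η).a₂ := by
  letI : Invertible (2 : A) := h2.invertible
  obtain ⟨C₁, hC₁⟩ := W.exists_variableChange_isCharNeTwoNF
  set V := C₁ • W with hV
  have hc : IsUnit V.c₄ := isUnit_c₄ V (by simpa [hV, variableChange_j] using h0)
  rw [V.c₄_of_isCharNeTwoNF] at hc
  have hfa : φ V.a₂ ≠ 0 := by
    intro h
    have := (hc.map φ).ne_zero
    apply this
    rw [map_sub, map_mul, map_mul, map_pow, h, show (48 : A) = 3 * 16 by ring, map_mul φ 3, h3]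
    ring
  obtain ⟨B₀, _, η₀, ψ₀, hη₀, hψ₀, ha⟩ := away φ _ hfa
  obtain ⟨i, hi⟩ := (((h2.map η₀).mul ha)).exists_left_inv
  have h30 : ψ₀ 3 = 0 := by
    rw [← map_ofNat η₀ 3]
    rw [← hψ₀] at h3
    exact h3
  obtain ⟨B, _, η, ψ, ρ, hη, hψ, hρ, hρu⟩ := quad_one ψ₀ (3 * η₀ V.a₄ * i ^ 2)
    (by rw [map_mul, map_mul, h30, zero_mul, zero_mul])
  obtain ⟨κ, hκ⟩ := hρu.exists_left_inv
  refine ⟨B, inferInstance, η.comp η₀, ψ,
    (⟨1, -(η (η₀ V.a₄)) * η i * κ, 0, 0⟩ : WeierstrassCurve.VariableChange B) * C₁.map (η.comp η₀),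
    etale_comp hη₀ hη, by rw [← RingHom.comp_assoc, hψ, hψ₀], ?_, ?_, ?_, ?_⟩
  all_goals rw [mul_smul, WeierstrassCurve.map_variableChange, ← hV]
  · simp [variableChange_a₁, V.a₁_of_isCharNeTwoNF]
  · simp [variableChange_a₃, V.a₁_of_isCharNeTwoNF, V.a₃_of_isCharNeTwoNF]
  · simp only [variableChange_a₄, map_a₁, map_a₂, map_a₃, map_a₄, V.a₁_of_isCharNeTwoNF,
      V.a₃_of_isCharNeTwoNF, map_zero, RingHom.comp_apply, inv_one, Units.val_one]
    have k := congrArg η hi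
    rw [map_ofNat] at k
    simp only [map_mul, map_pow, map_ofNat, map_one] at k hρ
    linear_combination (η (η₀ V.a₄) * κ ^ 2) * hρ
      + (η (η₀ V.a₄) * κ - η (η₀ V.a₄) * (κ * ρ + 1)) * hκ
      + (-η (η₀ V.a₄) * κ) * k
  · have hc' := hc.map (η.comp η₀)
    have : ((⟨1, -(η (η₀ V.a₄)) * η i * κ, 0, 0⟩ : WeierstrassCurve.VariableChange B) •
        V.map (η.comp η₀)).c₄ = 16 * ((⟨1, -(η (η₀ V.a₄)) * η i * κ, 0, 0⟩ :
          WeierstrassCurve.VariableChange B) • V.map (η.comp η₀)).a₂ ^ 2 := by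
      simp only [WeierstrassCurve.c₄, b₂, b₄, variableChange_a₁, variableChange_a₂, variableChange_a₃,
        variableChange_a₄, map_a₁, map_a₂, map_a₃, map_a₄, V.a₁_of_isCharNeTwoNF,
        V.a₃_of_isCharNeTwoNF, map_zero, RingHom.comp_apply, inv_one, Units.val_one]
      have k := congrArg η hi
      rw [map_ofNat] at k
      simp only [map_mul, map_pow, map_ofNat, map_one] at k hρ
      linear_combination (-48 : B) * ((η (η₀ V.a₄) * κ ^ 2) * hρ
        + (η (η₀ V.a₄) * κ - η (η₀ V.a₄) * (κ * ρ + 1)) * hκ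
        + (-η (η₀ V.a₄) * κ) * k)
    rw [variableChange_c₄, map_c₄] at this
    simp only [inv_one, Units.val_one, one_pow, one_mul] at this
    rw [← V.c₄_of_isCharNeTwoNF, this] at hc'
    exact (isUnit_pow_iff two_ne_zero).1 (IsUnit.mul_iff.1 hc').2

/-- Bring `W` into the form `a₁ = 1`, `a₃ = a₄ = 0` near a point of residue characteristic two. -/
lemma two_norm {φ : A →+* K} (h2 : φ 2 = 0) (W : WeierstrassCurve A) [W.IsElliptic]
    (h0 : IsUnit W.j) :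
    ∃ (B : Type u) (_ : CommRing B) (η : A →+* B) (ψ : B →+* K)
      (C : WeierstrassCurve.VariableChange B), η.Etale ∧ ψ.comp η = φ ∧
      (C • W.map η).a₁ = 1 ∧ (C • W.map η).a₃ = 0 ∧ (C • W.map η).a₄ = 0 ∧
      IsUnit (1 + 4 * (C • W.map η).a₂) := by
  have hc : IsUnit W.c₄ := isUnit_c₄ W h0
  have hfa : φ W.a₁ ≠ 0 := by
    intro h
    apply (hc.map φ).ne_zero
    simp only [WeierstrassCurve.c₄, b₂, b₄, map_sub, map_add, map_mul, map_pow, h,
      show (24 : A) = 2 * 12 by ring, show (4 : A) = 2 * 2 by ring, h2]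
    ring
  obtain ⟨B₀, _, η₀, ψ₀, hη₀, hψ₀, ha⟩ := away φ _ hfa
  obtain ⟨w, hw⟩ := ha
  have h20 : ψ₀ 2 = 0 := by
    rw [← map_ofNat η₀ 2]
    rw [← hψ₀] at h2
    exact h2
  set V := (⟨w, 0, 0, 0⟩ : WeierstrassCurve.VariableChange B₀) • W.map η₀ with hV
  have hV1 : V.a₁ = 1 := by
    rw [hV, variableChange_a₁, map_a₁, ← hw]
    simp
  set b : B₀ := 12 * V.a₃ - 4 * V.a₂ - 1 with hb
  have hb0 : ψ₀ b ≠ 0 := by
    simp only [hb, show (12 : B₀) = 2 * 6 by ring, show (4 : B₀) = 2 * 2 by ring, map_sub, map_mul,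
      h20, map_one]
    simp
  obtain ⟨B₁, _, η₁, ψ₁, hη₁, hψ₁, hbu⟩ := away ψ₀ b hb0
  obtain ⟨i, hi⟩ := hbu.exists_left_inv
  set a : B₀ := V.a₄ - 2 * V.a₃ * V.a₂ + 3 * V.a₃ ^ 2 with ha'
  have h21 : ψ₁ 2 = 0 := by
    rw [← map_ofNat η₁ 2]
    rw [← hψ₁] at h20
    exact h20
  obtain ⟨B, _, η₂, ψ, ρ, hη₂, hψ, hρ, hρu⟩ := quad_one ψ₁ (12 * η₁ a * i ^ 2)
    (by rw [show (12 : B₁) = 2 * 6 by ring, map_mul, map_mul, map_mul, h21, zero_mul, zero_mul, zero_mul])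
  obtain ⟨κ, hκ⟩ := hρu.exists_left_inv
  set η := (η₂.comp η₁).comp η₀ with hηdef
  set t : B := -(η₂ (η₁ a)) * η₂ i * κ with ht
  refine ⟨B, inferInstance, η, ψ,
    (⟨1, -(η₂ (η₁ V.a₃)) - 2 * t, 0, t⟩ : WeierstrassCurve.VariableChange B) *
      (⟨w, 0, 0, 0⟩ : WeierstrassCurve.VariableChange B₀).map (η₂.comp η₁),
    etale_comp hη₀ (etale_comp hη₁ hη₂),
    by rw [hηdef, ← RingHom.comp_assoc, ← RingHom.comp_assoc, hψ, hψ₁, hψ₀], ?_, ?_, ?_, ?_⟩
  all_goals rw [mul_smul, hηdef, ← WeierstrassCurve.map_map, WeierstrassCurve.map_variableChange, ← hV]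
  · simp [variableChange_a₁, hV1]
  · simp [variableChange_a₃, hV1]
    ring
  · simp only [variableChange_a₄, map_a₁, map_a₂, map_a₃, map_a₄, hV1, map_one, RingHom.comp_apply,
      inv_one, Units.val_one]
    have k := congrArg η₂ hi
    have hA := congrArg η₂ (congrArg η₁ ha')
    simp only [hb, map_add, map_sub, map_mul, map_pow, map_ofNat, map_one] at k hρ hA
    linear_combination (η₂ (η₁ a) * κ ^ 2) * hρ
      + (η₂ (η₁ a) * κ - η₂ (η₁ a) * (κ * ρ + 1)) * hκ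
      + (-η₂ (η₁ a) * κ) * k - hA
  · have hc' := hc.map η
    set C₂ : WeierstrassCurve.VariableChange B := ⟨1, -(η₂ (η₁ V.a₃)) - 2 * t, 0, t⟩
    set U := C₂ • V.map (η₂.comp η₁)
    have u1 : U.a₁ = 1 := by simp [U, C₂, variableChange_a₁, hV1]
    have u3 : U.a₃ = 0 := by simp [U, C₂, variableChange_a₃, hV1]; ring
    have u4 : U.a₄ = 0 := by
      simp only [U, C₂, variableChange_a₄, map_a₁, map_a₂, map_a₃, map_a₄, hV1, map_one, RingHom.comp_apply,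
        inv_one, Units.val_one, ht]
      have k := congrArg η₂ hi
      have hA := congrArg η₂ (congrArg η₁ ha')
      simp only [hb, map_add, map_sub, map_mul, map_pow, map_ofNat, map_one] at k hρ hA
      linear_combination (η₂ (η₁ a) * κ ^ 2) * hρ
        + (η₂ (η₁ a) * κ - η₂ (η₁ a) * (κ * ρ + 1)) * hκ
        + (-η₂ (η₁ a) * κ) * k - hA
    have e : U.c₄ = (1 + 4 * U.a₂) ^ 2 := by
      simp only [WeierstrassCurve.c₄, b₂, b₄, u1, u3, u4]
      ring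
    have hU : IsUnit U.c₄ := by
      simp only [U, variableChange_c₄, map_c₄, hV, map_mul, map_pow]
      exact ((Units.isUnit _).pow 4).mul (((Units.isUnit _).map (η₂.comp η₁)).pow 4 |>.mul hc')
    exact (isUnit_pow_iff two_ne_zero).1 (e ▸ hU)

theorem isoNear [IsAlgClosed K] (φ : A →+* K) (W₁ W₂ : WeierstrassCurve A) [W₁.IsElliptic]
    [W₂.IsElliptic] (hj : W₁.j = W₂.j) (h0 : IsUnit W₁.j) (h1728 : IsUnit (W₁.j - 1728)) :
    IsoNear φ W₁ W₂ := by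
  by_cases h2 : φ 2 = 0
  · obtain ⟨B, _, η, ψ, C, hη, hψ, x1, x3, x4, hx⟩ := two_norm h2 W₁ h0
    have h2' : ψ 2 = 0 := by rw [← map_ofNat η 2]; rw [← hψ] at h2; exact h2
    obtain ⟨D, _, η', ψ', C', hη', hψ', y1, y3, y4, hy⟩ := two_norm h2' (W₂.map η)
      (by rw [map_j, ← hj]; exact h0.map η)
    have h2'' : ψ' 2 = 0 := by rw [← map_ofNat η' 2]; rw [← hψ'] at h2'; exact h2'
    refine IsoNear.of_ext hη hψ (IsoNear.of_ext hη' hψ' (IsoNear.conj (C.map η') C' ?_))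
    rw [WeierstrassCurve.map_variableChange]
    refine two_case h2'' ?_ (by rw [map_a₁, x1, map_one]) (by rw [map_a₃, x3, map_zero])
      (by rw [map_a₄, x4, map_zero]) y1 y3 y4 ?_ hy
    · simp only [map_j, variableChange_j, hj]
    · simpa [map_ofNat] using hx.map η'
  · by_cases h3 : φ 3 = 0
    · obtain ⟨A₁, _, α, ψ₁, hα, hψ₁, hu⟩ := away φ 2 h2
      rw [map_ofNat] at hu
      have h31 : ψ₁ 3 = 0 := by rw [← map_ofNat α 3]; rw [← hψ₁] at h3; exact h3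
      obtain ⟨B, _, η, ψ, C, hη, hψ, x1, x3, x4, hx⟩ := three_norm hu h31 (W₁.map α)
        (by rw [map_j]; exact h0.map α)
      have h3' : ψ 3 = 0 := by rw [← map_ofNat η 3]; rw [← hψ] at h31; exact h31
      have hu' : IsUnit (2 : B) := by simpa [map_ofNat] using hu.map η
      obtain ⟨D, _, η', ψ', C', hη', hψ', y1, y3, y4, hy⟩ := three_norm hu' h3' ((W₂.map α).map η)
        (by rw [map_j, map_j, ← hj]; exact (h0.map α).map η)
      have h3'' : ψ' 3 = 0 := by rw [← map_ofNat η' 3]; rw [← hψ'] at h3'; exact h3'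
      have hu'' : IsUnit (2 : D) := by simpa [map_ofNat] using hu'.map η'
      refine IsoNear.of_ext hα hψ₁ (IsoNear.of_ext hη hψ (IsoNear.of_ext hη' hψ'
        (IsoNear.conj (C.map η') C' ?_)))
      rw [WeierstrassCurve.map_variableChange]
      refine three_case hu'' h3'' ?_ (by rw [map_a₁, x1, map_zero]) (by rw [map_a₃, x3, map_zero])
        (by rw [map_a₄, x4, map_zero]) y1 y3 y4 ?_ hy
      · simp only [map_j, variableChange_j, hj]
      · exact hx.map η'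
    · obtain ⟨B, _, η, ψ, hη, hψ, hu⟩ := away φ (2 * 3) (by rw [map_mul]; exact mul_ne_zero h2 h3)
      obtain ⟨hu2, hu3⟩ := IsUnit.mul_iff.1 (show IsUnit ((2 : B) * 3) by simpa [map_ofNat] using hu)
      letI : Invertible (2 : B) := hu2.invertible
      letI : Invertible (3 : B) := hu3.invertible
      obtain ⟨C, hC⟩ := (W₁.map η).exists_variableChange_isShortNF
      obtain ⟨C', hC'⟩ := (W₂.map η).exists_variableChange_isShortNF
      refine IsoNear.of_ext hη hψ (IsoNear.conj C C' ?_)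
      refine short_case (hu2.map ψ).ne_zero ?_ ?_ ?_
      · simp only [map_j, variableChange_j, hj]
      · simp only [map_j, variableChange_j]; exact h0.map η
      · simp only [map_j, variableChange_j]
        simpa [map_ofNat] using h1728.map η

theorem exists_etale_nhd (W₁ W₂ : WeierstrassCurve A) [W₁.IsElliptic] [W₂.IsElliptic]
    (hj : W₁.j = W₂.j) (h0 : IsUnit W₁.j) (h1728 : IsUnit (W₁.j - 1728)) (p : PrimeSpectrum A) :
    ∃ (B : Type u) (_ : CommRing B) (_ : Algebra A B), Algebra.Etale A B ∧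
      p ∈ Set.range (PrimeSpectrum.comap (algebraMap A B)) ∧
      ∃ C : WeierstrassCurve.VariableChange B,
        C • (W₁.map (algebraMap A B)) = W₂.map (algebraMap A B) := by
  let K := AlgebraicClosure (FractionRing (A ⧸ p.asIdeal))
  let φ : A →+* K := (algebraMap (FractionRing (A ⧸ p.asIdeal)) K).comp
    ((algebraMap (A ⧸ p.asIdeal) (FractionRing (A ⧸ p.asIdeal))).comp (Ideal.Quotient.mk p.asIdeal))
  obtain ⟨B, _, η, ψ, hη, hψ, C, hC⟩ := isoNear φ W₁ W₂ hj h0 h1728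
  letI := η.toAlgebra
  refine ⟨B, inferInstance, η.toAlgebra, hη, ⟨⟨RingHom.ker ψ, RingHom.ker_isPrime ψ⟩, ?_⟩, C, hC⟩
  apply PrimeSpectrum.ext
  ext a
  change η a ∈ RingHom.ker ψ ↔ _
  rw [RingHom.mem_ker, show ψ (η a) = φ a from congr($hψ a)]
  simp [φ, Ideal.Quotient.eq_zero_iff_mem,
    map_eq_zero_iff _ (IsFractionRing.injective (A ⧸ p.asIdeal) (FractionRing (A ⧸ p.asIdeal)))]

end Groth.Agent.H2.EllNear
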