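import Groth.Prelude.Def_W4c2filtblowupsingRees
import Groth.Agent.Lib.Excellent.FormalFibre
import Groth.Agent.Lib.Goren.Rings
import Groth.Agent.Lib.EGA75.SnTensor
import Groth.Agent.H18.CMPoly
import Mathlib

/-!
# The extended Rees algebra, its associated graded ring, and `A[T, T⁻¹]`

Local properties of the extended Rees algebra `R'` are governed by `Gr = R'/(u)` at primes
containing `u` and by `A[T, T⁻¹] = R'[1/u]` elsewhere.
-/

set_option autoImplicit false
set_option linter.style.haveILetI false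

universe u

open IsLocalRing LaurentPolynomial Polynomial
open Groth.Agent.Lib.Excellent (FormalFibre.IsoInvariant)

namespace Groth.Agent.H2.ExtRees

/-- A property holds on all local rings. -/
def LocallyAt (P : ∀ (B : Type u) [CommRing B], Prop) (R : Type u) [CommRing R] : Prop :=
  ∀ (p : Ideal R) [p.IsPrime], P (Localization.AtPrime p)

section Split

variable {R L : Type u} [CommRing R] [CommRing L] [Algebra R L] (x : R)

theorem quot_local_equiv' (I : Ideal R) (P : Ideal (R ⧸ I)) [P.IsPrime] :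
    Nonempty ((Localization.AtPrime (P.comap (Ideal.Quotient.mk I)) ⧸
      I.map (algebraMap R (Localization.AtPrime (P.comap (Ideal.Quotient.mk I)))))
        ≃+* Localization.AtPrime P) := by
  set Q := P.comap (Ideal.Quotient.mk I) with hQ
  set AQ := Localization.AtPrime Q
  have hsub : Algebra.algebraMapSubmonoid (R ⧸ I) Q.primeCompl = P.primeCompl := by
    ext z
    constructor
    · rintro ⟨a, ha, rfl⟩
      exact ha
    · intro hz
      obtain ⟨a, rfl⟩ := Ideal.Quotient.mk_surjective z
      exact ⟨a, hz, rfl⟩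
  have : IsLocalization P.primeCompl (AQ ⧸ I.map (algebraMap R AQ)) := hsub ▸
    (inferInstance : IsLocalization (Algebra.algebraMapSubmonoid (R ⧸ I) Q.primeCompl)
      (AQ ⧸ I.map (algebraMap R AQ)))
  exact ⟨(IsLocalization.algEquiv P.primeCompl (AQ ⧸ I.map (algebraMap R AQ))
      (Localization.AtPrime P)).toRingEquiv⟩

/-- The local ring of `R/(x)` at a prime is the local ring of `R` modulo `x`. -/
theorem quot_local_equiv (P : Ideal (R ⧸ Ideal.span {x})) [P.IsPrime] :
    Nonempty ((Localization.AtPrime (P.comap (Ideal.Quotient.mk (Ideal.span {x}))) ⧸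
      Ideal.span {algebraMap R (Localization.AtPrime (P.comap (Ideal.Quotient.mk (Ideal.span {x})))) x})
        ≃+* Localization.AtPrime P) := by
  obtain ⟨e⟩ := quot_local_equiv' (Ideal.span {x}) P
  exact ⟨(Ideal.quotEquivOfEq (by rw [Ideal.map_span, Set.image_singleton])).trans e⟩

/-- The local ring of a localisation at a prime. -/
theorem away_local_equiv (M : Submonoid R) [IsLocalization M L] (Q : Ideal L) [Q.IsPrime] :
    Nonempty (Localization.AtPrime (Q.comap (algebraMap R L)) ≃+* Localization.AtPrime Q) := by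
  haveI : IsLocalization.AtPrime (Localization.AtPrime Q) (Q.comap (algebraMap R L)) :=
    IsLocalization.isLocalization_isLocalization_atPrime_isLocalization M (Localization.AtPrime Q) Q
  exact ⟨(IsLocalization.algEquiv (Q.comap (algebraMap R L)).primeCompl _ _).toRingEquiv⟩

variable (P P' : ∀ (B : Type u) [CommRing B], Prop)

/-- At a prime containing `x`, the property follows from the one of `R/(x)`. -/
theorem at_mem [IsNoetherianRing R] (hx : IsSMulRegular R x) (hP' : FormalFibre.IsoInvariant.{u} P')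
    (hq : ∀ (B : Type u) [CommRing B] [IsLocalRing B] [IsNoetherianRing B] (y : B),
      y ∈ maximalIdeal B → IsSMulRegular B y → (P' (B ⧸ Ideal.span {y}) ↔ P B))
    (h : LocallyAt P' (R ⧸ Ideal.span {x})) (p : Ideal R) [p.IsPrime] (hxp : x ∈ p) :
    P (Localization.AtPrime p) := by
  haveI : IsNoetherianRing (Localization.AtPrime p) :=
    IsLocalization.isNoetherianRing p.primeCompl _ inferInstance
  have hker : RingHom.ker (Ideal.Quotient.mk (Ideal.span {x})) ≤ p := by
    rw [Ideal.mk_ker]; exact (Ideal.span_singleton_le_iff_mem _).2 hxp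
  haveI := Ideal.map_isPrime_of_surjective (f := Ideal.Quotient.mk (Ideal.span {x}))
    Ideal.Quotient.mk_surjective hker
  have hc : (p.map (Ideal.Quotient.mk (Ideal.span {x}))).comap
      (Ideal.Quotient.mk (Ideal.span {x})) = p := by
    rw [Ideal.comap_map_of_surjective' _ Ideal.Quotient.mk_surjective, sup_eq_left]
    exact hker
  obtain ⟨e⟩ := quot_local_equiv x (p.map (Ideal.Quotient.mk (Ideal.span {x})))
  have h' := hP' _ _ e.symm (h _)
  have transport : ∀ (q : Ideal R) [q.IsPrime], q = p →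
      P' (Localization.AtPrime q ⧸ Ideal.span {algebraMap R (Localization.AtPrime q) x}) →
      P' (Localization.AtPrime p ⧸ Ideal.span {algebraMap R (Localization.AtPrime p) x}) := by
    intro q _ hq hh; subst hq; exact hh
  exact (hq _ _ ((IsLocalization.AtPrime.to_map_mem_maximal_iff _ p x).mpr hxp)
    ((RingTheory.Sequence.isWeaklyRegular_singleton_iff _ _).mp
      (RingTheory.Sequence.IsWeaklyRegular.of_flat (S := Localization.AtPrime p)
        ((RingTheory.Sequence.isWeaklyRegular_singleton_iff R x).mpr hx)))).1 (transport _ hc h')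

/-- A property of local rings holds on `R` iff it holds on `R/(x)` (shifted) and on `R[1/x]`. -/
theorem split [IsNoetherianRing R] [IsLocalization.Away x L] (hx : IsSMulRegular R x)
    (hP : FormalFibre.IsoInvariant.{u} P) (hP' : FormalFibre.IsoInvariant.{u} P')
    (hq : ∀ (B : Type u) [CommRing B] [IsLocalRing B] [IsNoetherianRing B] (y : B),
      y ∈ maximalIdeal B → IsSMulRegular B y → (P' (B ⧸ Ideal.span {y}) ↔ P B)) :
    LocallyAt P R ↔ (LocallyAt P' (R ⧸ Ideal.span {x}) ∧ LocallyAt P L) := by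
  have key : ∀ (p : Ideal R) [p.IsPrime], x ∈ p →
      (P' (Localization.AtPrime p ⧸ Ideal.span {algebraMap R (Localization.AtPrime p) x}) ↔
        P (Localization.AtPrime p)) := by
    intro p _ hxp
    haveI : IsNoetherianRing (Localization.AtPrime p) :=
      IsLocalization.isNoetherianRing p.primeCompl _ inferInstance
    exact hq _ _ ((IsLocalization.AtPrime.to_map_mem_maximal_iff _ p x).mpr hxp)
      ((RingTheory.Sequence.isWeaklyRegular_singleton_iff _ _).mp
        (RingTheory.Sequence.IsWeaklyRegular.of_flat (S := Localization.AtPrime p)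
          ((RingTheory.Sequence.isWeaklyRegular_singleton_iff R x).mpr hx)))
  constructor
  · intro h
    refine ⟨fun p _ => ?_, fun Q _ => ?_⟩
    · obtain ⟨e⟩ := quot_local_equiv x p
      refine hP' _ _ e ((key _ ?_).2 (h _))
      simp [Ideal.Quotient.eq_zero_iff_mem.2 (Ideal.mem_span_singleton_self x)]
    · obtain ⟨e⟩ := away_local_equiv (Submonoid.powers x) Q
      exact hP _ _ e (h _)
  · rintro ⟨h1, h2⟩ p hp
    by_cases hxp : x ∈ p
    · exact at_mem x P P' hx hP' hq h1 p hxp
    · have hd : Disjoint (Submonoid.powers x : Set R) (p : Set R) := by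
        rw [Set.disjoint_left]
        rintro _ ⟨n, rfl⟩ hn
        exact hxp (hp.mem_of_pow_mem n hn)
      haveI := IsLocalization.isPrime_of_isPrime_disjoint (Submonoid.powers x) L p hp hd
      have hc : (p.map (algebraMap R L)).comap (algebraMap R L) = p :=
        IsLocalization.under_map_of_isPrime_disjoint (Submonoid.powers x) L hp hd
      obtain ⟨e⟩ := away_local_equiv (Submonoid.powers x) (p.map (algebraMap R L))
      have transport : ∀ (q : Ideal R) [q.IsPrime], q = p →
          P (Localization.AtPrime q) → P (Localization.AtPrime p) := by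
        intro q _ hq hh; subst hq; exact hh
      exact transport _ hc (hP _ _ e.symm (h2 _))

end Split

section Rees

variable {A : Type u} [CommRing A] (𝓕 : FiltBl.IdealFiltration A)

theorem mem_extRees {f : A[T;T⁻¹]} : f ∈ 𝓕.extRees ↔ ∀ n : ℤ, f.coeff n ∈ 𝓕.F n.toNat := Iff.rfl

theorem C_mul_T_mem {a : A} {n : ℤ} (h : a ∈ 𝓕.F n.toNat) : LaurentPolynomial.C a * T n ∈ 𝓕.extRees := by
  classical
  rw [mem_extRees]
  intro k
  rw [← single_eq_C_mul_T, AddMonoidAlgebra.coeff_single, Finsupp.single_apply]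
  split_ifs with hk
  · subst hk; exact h
  · exact Ideal.zero_mem _

theorem extRees_eq : 𝓕.extRees =
    𝓕.rees.map (Polynomial.toLaurentAlg (R := A)) ⊔ Algebra.adjoin A {(T (-1) : A[T;T⁻¹])} := by
  classical
  apply le_antisymm
  · intro f hf
    rw [mem_extRees] at hf
    rw [← AddMonoidAlgebra.sum_coeff_single f]
    refine Subalgebra.sum_mem _ fun n _ => ?_
    show AddMonoidAlgebra.single n (f.coeff n) ∈ _
    rw [single_eq_C_mul_T]
    rcases n with k | k
    · refine (le_sup_left : 𝓕.rees.map (Polynomial.toLaurentAlg (R := A)) ≤ _) ?_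
      refine ⟨Polynomial.monomial k (f.coeff (Int.ofNat k)), fun j => ?_, ?_⟩
      · rw [Polynomial.coeff_monomial]
        split_ifs with h
        · subst h; simpa using hf (Int.ofNat k)
        · exact Ideal.zero_mem _
      · simp [Polynomial.toLaurent_C_mul_T]
    · rw [LaurentPolynomial.C_eq_algebraMap]
      refine mul_mem (Subalgebra.algebraMap_mem _ _) ?_
      have h1 : (T (Int.negSucc k) : A[T;T⁻¹]) = T (-1) ^ (k + 1) := by
        rw [T_pow, Int.negSucc_eq]; congr 1; push_cast; ring
      rw [h1]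
      exact pow_mem ((le_sup_right : Algebra.adjoin A {(T (-1) : A[T;T⁻¹])} ≤ _)
        (Algebra.subset_adjoin rfl)) _
  · refine sup_le ?_ (Algebra.adjoin_le (Set.singleton_subset_iff.2 𝓕.u.2))
    rintro _ ⟨p, hp, rfl⟩
    show Polynomial.toLaurent p ∈ 𝓕.extRees
    rw [p.as_sum_range_C_mul_X_pow, map_sum]
    refine Subalgebra.sum_mem _ fun i _ => ?_
    rw [Polynomial.toLaurent_C_mul_X_pow]
    exact C_mul_T_mem 𝓕 (by simpa using hp i)

theorem isNoetherianRing_extRees [IsNoetherianRing A] (hfg : Algebra.FiniteType A 𝓕.rees) :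
    IsNoetherianRing 𝓕.extRees := by
  have h1 : 𝓕.rees.FG := (Subalgebra.fg_iff_finiteType _).2 hfg
  have h2 : 𝓕.extRees.FG := by
    rw [extRees_eq]
    exact (h1.map _).sup (Subalgebra.fg_adjoin_finset {(T (-1) : A[T;T⁻¹])} |> fun h => by simpa using h)
  haveI := (Subalgebra.fg_iff_finiteType _).1 h2
  exact Algebra.FiniteType.isNoetherianRing A _

theorem exists_pow_mul_mem (f : A[T;T⁻¹]) : ∃ N : ℕ, f * T (-1) ^ N ∈ 𝓕.extRees := by
  refine f.induction_on' ?_ fun n a => ?_
  · rintro p q ⟨m, hm⟩ ⟨n, hn⟩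
    refine ⟨m + n, ?_⟩
    rw [add_mul]
    refine add_mem ?_ ?_
    · rw [pow_add, ← mul_assoc]
      exact mul_mem hm (pow_mem 𝓕.u.2 n)
    · rw [pow_add, mul_comm (T (-1) ^ m), ← mul_assoc]
      exact mul_mem hn (pow_mem 𝓕.u.2 m)
  · refine ⟨n.toNat, ?_⟩
    rw [T_pow, mul_T_assoc]
    refine C_mul_T_mem 𝓕 ?_
    rw [show (n + (n.toNat : ℤ) * (-1)).toNat = 0 by omega, 𝓕.zero_eq]
    trivial

theorem isUnit_u : IsUnit (𝓕.u : A[T;T⁻¹]) := LaurentPolynomial.isUnit_T (-1)

theorem isAway : IsLocalization.Away 𝓕.u A[T;T⁻¹] := by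
  refine IsLocalization.Away.mk _ (isUnit_u 𝓕) (fun f => ?_) fun _ _ h => ⟨0, ?_⟩
  · obtain ⟨N, hN⟩ := exists_pow_mul_mem 𝓕 f
    exact ⟨N, ⟨_, hN⟩, rfl⟩
  · simp [Subtype.ext h]

theorem regular_u : IsSMulRegular 𝓕.extRees 𝓕.u := fun _ _ h =>
  Subtype.ext ((isUnit_u 𝓕).mul_left_cancel (congrArg Subtype.val h))

/-- Reduction of the properties of `R'` to those of `Gr` and of `A[T, T⁻¹]`. -/
theorem extRees_iff [IsNoetherianRing A] (hfg : Algebra.FiniteType A 𝓕.rees)
    (P P' : ∀ (B : Type u) [CommRing B], Prop)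
    (hP : FormalFibre.IsoInvariant.{u} P) (hP' : FormalFibre.IsoInvariant.{u} P')
    (hq : ∀ (B : Type u) [CommRing B] [IsLocalRing B] [IsNoetherianRing B] (y : B),
      y ∈ maximalIdeal B → IsSMulRegular B y → (P' (B ⧸ Ideal.span {y}) ↔ P B)) :
    LocallyAt P 𝓕.extRees ↔ (LocallyAt P' 𝓕.Gr ∧ LocallyAt P A[T;T⁻¹]) :=
  haveI := isNoetherianRing_extRees 𝓕 hfg
  haveI := isAway 𝓕
  split 𝓕.u P P' (regular_u 𝓕) hP hP' hq

instance [Nontrivial A] : Nontrivial A[T;T⁻¹] := inferInstance

/-- The property on `A` follows from the property on `Gr`. -/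
theorem base_of_Gr [IsNoetherianRing A] [IsLocalRing A] (hfg : Algebra.FiniteType A 𝓕.rees)
    (hsep : ⨅ n, 𝓕.F n = ⊥)
    (P P' : ∀ (B : Type u) [CommRing B], Prop)
    (hP : FormalFibre.IsoInvariant.{u} P) (hP' : FormalFibre.IsoInvariant.{u} P')
    (hq : ∀ (B : Type u) [CommRing B] [IsLocalRing B] [IsNoetherianRing B] (y : B),
      y ∈ maximalIdeal B → IsSMulRegular B y → (P' (B ⧸ Ideal.span {y}) ↔ P B))
    (hloc : ∀ (B : Type u) [CommRing B] [IsLocalRing B] [IsNoetherianRing B], P B →
      ∀ (p : Ideal B) [p.IsPrime], P (Localization.AtPrime p))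
    (hdesc : ∀ (B C : Type u) [CommRing B] [IsLocalRing B] [IsNoetherianRing B]
      [CommRing C] [IsLocalRing C] [IsNoetherianRing C] [Algebra B C]
      [IsLocalHom (algebraMap B C)] [Module.Flat B C], P C → P B)
    (hGr : LocallyAt P' 𝓕.Gr) : P A := by
  classical
  haveI := isNoetherianRing_extRees 𝓕 hfg
  haveI := isAway 𝓕
  -- `F 1` is a proper ideal
  have hF1 : 𝓕.F 1 ≤ maximalIdeal A := by
    refine IsLocalRing.le_maximalIdeal fun h => ?_
    have hall : ∀ n, 𝓕.F n = ⊤ := by
      intro n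
      induction n with
      | zero => exact 𝓕.zero_eq
      | succ n ih =>
        refine top_le_iff.1 (le_trans ?_ (𝓕.mul_le n 1))
        rw [ih, h, Ideal.top_mul]
    simp [hall] at hsep
  -- the prime `m A[T, T⁻¹]`
  let φ : A[T;T⁻¹] →+* (ResidueField A)[T;T⁻¹] :=
    AddMonoidAlgebra.mapRingHom ℤ (residue A)
  have hφ : ∀ (f : A[T;T⁻¹]) (n : ℤ), (φ f).coeff n = residue A (f.coeff n) := fun f n => by
    simp [φ]
  haveI : IsDomain (ResidueField A)[T;T⁻¹] :=
    IsLocalization.isDomain_of_le_nonZeroDivisors (M := Submonoid.powers (Polynomial.X : (ResidueField A)[X]))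
      (ResidueField A)[T;T⁻¹] (powers_le_nonZeroDivisors_of_noZeroDivisors Polynomial.X_ne_zero)
  let Q0 : Ideal A[T;T⁻¹] := RingHom.ker φ
  haveI : Q0.IsPrime := RingHom.ker_isPrime φ
  let p0 : Ideal 𝓕.extRees := Q0.comap (algebraMap 𝓕.extRees A[T;T⁻¹])
  have hne : p0 ⊔ Ideal.span {𝓕.u} ≠ ⊤ := by
    intro h
    obtain ⟨a, ha, b, hb, hab⟩ := Submodule.mem_sup.1 ((Ideal.eq_top_iff_one _).1 h)
    obtain ⟨g, rfl⟩ := Ideal.mem_span_singleton'.1 hb
    have hab' : (a : A[T;T⁻¹]) + (g : A[T;T⁻¹]) * T (-1) = 1 := congrArg Subtype.val hab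
    have h0 := congrArg (fun f : A[T;T⁻¹] => f.coeff 0) hab'
    have hg : ((g : A[T;T⁻¹]) * T (-1)).coeff 0 = (g : A[T;T⁻¹]).coeff 1 := by
      simp only [LaurentPolynomial.T]
      rw [AddMonoidAlgebra.coeff_mul_single_apply]
      simp
    have ha0 : (a : A[T;T⁻¹]).coeff 0 ∈ maximalIdeal A := by
      have : φ (a : A[T;T⁻¹]) = 0 := ha
      have := congrArg (fun f => f.coeff 0) this
      simpa [hφ, residue_eq_zero_iff] using this
    simp only [AddMonoidAlgebra.coeff_add, Finsupp.add_apply, hg] at h0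
    refine (maximalIdeal.isMaximal A).ne_top ((Ideal.eq_top_iff_one _).2 ?_)
    have h1 : (1 : A[T;T⁻¹]).coeff 0 = 1 := by rw [← T_zero, T_apply]; simp
    rw [← h1, ← h0]
    exact add_mem ha0 (hF1 (by simpa using g.2 1))
  obtain ⟨m, hm, hle⟩ := Ideal.exists_le_maximal _ hne
  have hu : 𝓕.u ∈ m := hle (Ideal.mem_sup_right (Ideal.mem_span_singleton_self _))
  haveI : IsNoetherianRing (Localization.AtPrime m) :=
    IsLocalization.isNoetherianRing m.primeCompl _ inferInstance
  -- `P` at `m`
  have hPm : P (Localization.AtPrime m) :=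
    at_mem 𝓕.u P P' (regular_u 𝓕) hP' hq hGr m hu
  -- `P` at `p0 ≤ m`
  have hd : Disjoint (m.primeCompl : Set 𝓕.extRees) (p0 : Set 𝓕.extRees) := by
    rw [Set.disjoint_left]
    exact fun z hz hz' => hz (hle (Ideal.mem_sup_left hz'))
  have hp0 : p0.IsPrime := inferInstance
  haveI := IsLocalization.isPrime_of_isPrime_disjoint m.primeCompl (Localization.AtPrime m) p0 hp0 hd
  have hc0 : (p0.map (algebraMap 𝓕.extRees (Localization.AtPrime m))).comap
      (algebraMap 𝓕.extRees (Localization.AtPrime m)) = p0 :=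
    IsLocalization.under_map_of_isPrime_disjoint m.primeCompl _ hp0 hd
  obtain ⟨e0⟩ := away_local_equiv (R := 𝓕.extRees) m.primeCompl
    (p0.map (algebraMap 𝓕.extRees (Localization.AtPrime m)))
  have hPp0 : P (Localization.AtPrime p0) := by
    have transport : ∀ (q : Ideal 𝓕.extRees) [q.IsPrime], q = p0 →
        P (Localization.AtPrime q) → P (Localization.AtPrime p0) := by
      intro q _ hq hh; subst hq; exact hh
    exact transport _ hc0 (hP _ _ e0.symm (hloc _ hPm _))
  obtain ⟨eQ⟩ := away_local_equiv (R := 𝓕.extRees) (Submonoid.powers 𝓕.u) Q0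
  have hPQ : P (Localization.AtPrime Q0) := hP _ _ eQ hPp0
  -- descend to `A`
  haveI : IsNoetherianRing A[T;T⁻¹] :=
    IsLocalization.isNoetherianRing (Submonoid.powers (Polynomial.X : A[X])) _ inferInstance
  haveI : IsNoetherianRing (Localization.AtPrime Q0) :=
    IsLocalization.isNoetherianRing Q0.primeCompl _ inferInstance
  haveI : Module.Flat A[T;T⁻¹] (Localization.AtPrime Q0) := IsLocalization.flat _ Q0.primeCompl
  haveI : Module.Flat A (Localization.AtPrime Q0) :=
    Module.Flat.trans A A[T;T⁻¹] (Localization.AtPrime Q0)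
  haveI : IsLocalHom (algebraMap A (Localization.AtPrime Q0)) := ⟨fun a ha => by
    by_contra hna
    have hmem : algebraMap A A[T;T⁻¹] a ∈ Q0 := by
      refine RingHom.mem_ker.2 (LaurentPolynomial.ext fun n => ?_)
      rw [hφ, ← LaurentPolynomial.C_eq_algebraMap, LaurentPolynomial.C_apply]
      split_ifs with h
      · simpa [residue_eq_zero_iff] using hna
      · simp
    rw [IsScalarTower.algebraMap_apply A A[T;T⁻¹] (Localization.AtPrime Q0)] at ha
    exact ((IsLocalization.AtPrime.isUnit_to_map_iff (Localization.AtPrime Q0) Q0 _).1 ha) hmem⟩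
  exact hdesc A (Localization.AtPrime Q0) hPQ

theorem faithfullyFlat [Nontrivial A] : Module.FaithfullyFlat A A[T;T⁻¹] :=
  haveI : Module.Free A A[T;T⁻¹] := Module.Free.of_basis (AddMonoidAlgebra.basis ℤ A)
  inferInstance

/-- a property on all local rings of `A[T, T⁻¹]` from `A[X]` -/
theorem laurent_of_poly (P : ∀ (B : Type u) [CommRing B], Prop)
    (hP : FormalFibre.IsoInvariant.{u} P)
    (h : LocallyAt P A[X]) : LocallyAt P A[T;T⁻¹] := by
  intro Q _
  obtain ⟨e⟩ := away_local_equiv (R := A[X]) (Submonoid.powers (Polynomial.X : A[X])) Q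
  exact hP _ _ e (h _)

end Rees

end Groth.Agent.H2.ExtRees
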