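import Groth.Agent.H2.ExtRees
import Groth.Agent.H21.SkDescent
import Groth.Agent.Lib.EGA75.DepthFlat
import Groth.Agent.Lib.EGA75.CM

/-!
# Cohen–Macaulay, Gorenstein and `(S₂)` extended Rees algebras
-/

set_option autoImplicit false
set_option linter.style.haveILetI false

universe u

open IsLocalRing Polynomial
open scoped LaurentPolynomial Pointwise
open Groth.Agent.Lib.EGA75 Groth.Agent.Lib.Depth

namespace Groth.Agent.H2.ExtRees

variable {A : Type u} [CommRing A] [IsNoetherianRing A] [IsLocalRing A]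
  (𝓕 : FiltBl.IdealFiltration A)

/-- `(S_{k+1})` for `B` is `(S_k)` for `B/(y)`, `y` regular. -/
theorem sn_step (k : ℕ) (B : Type u) [CommRing B] [IsLocalRing B] [IsNoetherianRing B] (y : B)
    (hy : y ∈ maximalIdeal B) (hreg : IsSMulRegular B y) :
    Sn.Local k (B ⧸ Ideal.span {y}) ↔ Sn.Local (k + 1) B := by
  haveI : IsLocalRing (B ⧸ Ideal.span {y}) := Groth.Agent.Lib.Goren.Basic.isLocalRing_quotient_span hy
  have hd := ringKrullDim_quotient_span_singleton_succ_eq_ringKrullDim_of_mem_jacobson hreg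
    (by rwa [IsLocalRing.ringJacobson_eq_maximalIdeal])
  have hdep : LocCoh.depth (B ⧸ Ideal.span {y}) (B ⧸ Ideal.span {y}) + 1 = LocCoh.depth B B := by
    rw [← CM.depth_quotient_eq, Basic.depth_congr (Submodule.quotEquivOfEq (Ideal.span {y})
      (y • ⊤) (by rw [← Submodule.ideal_span_singleton_smul, smul_eq_mul, Ideal.mul_top]))]
    exact SES.idealDepth_quotSMulTop _ hy hreg
  obtain ⟨d, hd'⟩ := WithBot.ne_bot_iff_exists.1 (ringKrullDim_ne_bot (R := B ⧸ Ideal.span {y}))
  rw [← hd'] at hd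
  constructor
  · rintro ⟨_, h⟩
    refine ⟨inferInstance, ?_⟩
    rw [← hd, ← hdep, Nat.cast_succ]
    rw [← hd'] at h
    norm_cast at h ⊢
    rw [Nat.cast_succ, min_add_add_right]
    exact add_le_add h le_rfl
  · rintro ⟨_, h⟩
    refine ⟨inferInstance, ?_⟩
    rw [← hd, ← hdep, Nat.cast_succ] at h
    rw [← hd']
    norm_cast at h ⊢
    rw [Nat.cast_succ, min_add_add_right] at h
    exact (ENat.add_le_add_iff_right ENat.one_ne_top).1 h

theorem sn_laurent (k : ℕ) (h : LocCoh.HasSk k A A) :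
    LocallyAt (fun B [CommRing B] => Sn.Local k B) A[T;T⁻¹] := by
  refine laurent_of_poly (fun B [CommRing B] => Sn.Local k B) (Sn.isoInvariant k) ?_
  refine (Sn.hasSk_iff k A[X]).1 (Sn.of_fibres k A A[X] h fun p _ => ?_)
  haveI : LocCoh.IsCohenMacaulayLocalRing p.ResidueField :=
    CM.isCohenMacaulayLocalRing_iff.2 ((ringKrullDim_eq_zero_of_field _).le.trans
      (WithBot.coe_le_coe.2 bot_le))
  haveI : LocCoh.IsCohenMacaulayRing p.ResidueField :=
    { isCohenMacaulayLocalRing_localization := fun q _ => CM.isCohenMacaulayLocalRing_localization q }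
  haveI := Groth.Agent.H18.CMPoly.polynomial (R := p.ResidueField)
  exact Sn.isoInvariant_ring k p.ResidueField[X] _ (polyEquivTensor' A p.ResidueField).toRingEquiv
    (SnTensor.hasSk_of_isCohenMacaulayRing k _ inferInstance)

theorem cm_ring_iff (R : Type u) [CommRing R] [IsNoetherianRing R] :
    LocCoh.IsCohenMacaulayRing R ↔
      LocallyAt (fun B [CommRing B] => LocCoh.IsCohenMacaulayLocalRing B) R :=
  ⟨fun h p _ => h.isCohenMacaulayLocalRing_localization p,
    fun h => { isCohenMacaulayLocalRing_localization := fun p _ => h p }⟩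

theorem gor_ring_iff (R : Type u) [CommRing R] [IsNoetherianRing R] :
    LocCoh.IsGorensteinRing R ↔
      LocallyAt (fun B [CommRing B] => LocCoh.IsGorensteinLocalRing B) R :=
  ⟨fun h p _ => h.isGorensteinLocalRing_localization p,
    fun h => { isGorensteinLocalRing_localization := fun p _ => h p }⟩

theorem gor_iso : Groth.Agent.Lib.Excellent.FormalFibre.IsoInvariant.{u}
    (fun B [CommRing B] => LocCoh.IsGorensteinLocalRing B) := fun _ _ _ _ e h =>
  haveI := h
  Groth.Agent.Lib.Goren.Flat.isGorensteinLocalRing_ringEquiv e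

/-- `R'` is Cohen–Macaulay iff `Gr` is. -/
theorem cm_iff (hsep : ⨅ n, 𝓕.F n = ⊥) (hfg : Algebra.FiniteType A 𝓕.rees) :
    LocCoh.IsCohenMacaulayRing 𝓕.extRees ↔ LocCoh.IsCohenMacaulayRing 𝓕.Gr := by
  haveI := isNoetherianRing_extRees 𝓕 hfg
  have hq : ∀ (B : Type u) [CommRing B] [IsLocalRing B] [IsNoetherianRing B] (y : B),
      y ∈ maximalIdeal B → IsSMulRegular B y →
        (LocCoh.IsCohenMacaulayLocalRing (B ⧸ Ideal.span {y}) ↔ LocCoh.IsCohenMacaulayLocalRing B) := by
    intro B _ _ _ y hy hreg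
    haveI : IsLocalRing (B ⧸ Ideal.span {y}) := Groth.Agent.Lib.Goren.Basic.isLocalRing_quotient_span hy
    exact CM.isCohenMacaulayLocalRing_quotient_span_singleton_iff hy hreg
  rw [cm_ring_iff, cm_ring_iff, extRees_iff 𝓕 hfg (fun B [CommRing B] => LocCoh.IsCohenMacaulayLocalRing B)
    (fun B [CommRing B] => LocCoh.IsCohenMacaulayLocalRing B) CM.isoInvariant CM.isoInvariant hq]
  refine ⟨fun h => h.1, fun h => ⟨h, ?_⟩⟩
  haveI : LocCoh.IsCohenMacaulayLocalRing A := base_of_Gr 𝓕 hfg hsep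
    (fun B [CommRing B] => LocCoh.IsCohenMacaulayLocalRing B)
    (fun B [CommRing B] => LocCoh.IsCohenMacaulayLocalRing B) CM.isoInvariant CM.isoInvariant hq
    (fun B _ _ _ hB p _ => haveI := hB; CM.isCohenMacaulayLocalRing_localization p)
    (fun B C _ _ _ _ _ _ _ _ _ hC => ((DepthFlat.isCohenMacaulay_flat_iff B C).1 hC).1) h
  haveI : LocCoh.IsCohenMacaulayRing A :=
    { isCohenMacaulayLocalRing_localization := fun p _ => CM.isCohenMacaulayLocalRing_localization p }
  haveI := Groth.Agent.H18.CMPoly.polynomial (R := A)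
  exact laurent_of_poly (fun B [CommRing B] => LocCoh.IsCohenMacaulayLocalRing B) CM.isoInvariant
    ((cm_ring_iff A[X]).1 inferInstance)

/-- `R'` is Gorenstein iff `Gr` is. -/
theorem gor_iff (hsep : ⨅ n, 𝓕.F n = ⊥) (hfg : Algebra.FiniteType A 𝓕.rees) :
    LocCoh.IsGorensteinRing 𝓕.extRees ↔ LocCoh.IsGorensteinRing 𝓕.Gr := by
  haveI := isNoetherianRing_extRees 𝓕 hfg
  have hq : ∀ (B : Type u) [CommRing B] [IsLocalRing B] [IsNoetherianRing B] (y : B),
      y ∈ maximalIdeal B → IsSMulRegular B y →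
        (LocCoh.IsGorensteinLocalRing (B ⧸ Ideal.span {y}) ↔ LocCoh.IsGorensteinLocalRing B) := by
    intro B _ _ _ y hy hreg
    exact (Groth.Agent.Lib.Goren.Basic.isGorensteinLocalRing_quotient_iff hy hreg).symm
  rw [gor_ring_iff, gor_ring_iff, extRees_iff 𝓕 hfg (fun B [CommRing B] => LocCoh.IsGorensteinLocalRing B)
    (fun B [CommRing B] => LocCoh.IsGorensteinLocalRing B) gor_iso gor_iso hq]
  refine ⟨fun h => h.1, fun h => ⟨h, ?_⟩⟩
  haveI : LocCoh.IsGorensteinLocalRing A := base_of_Gr 𝓕 hfg hsep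
    (fun B [CommRing B] => LocCoh.IsGorensteinLocalRing B)
    (fun B [CommRing B] => LocCoh.IsGorensteinLocalRing B) gor_iso gor_iso hq
    (fun B _ _ _ hB p _ => haveI := hB;
      Groth.Agent.Lib.Goren.Global.isGorensteinLocalRing_localization p)
    (fun B C _ _ _ _ _ _ _ _ _ hC =>
      ((Groth.Agent.Lib.Goren.Flat.isGorensteinLocalRing_flat_iff B C).1 hC).1) h
  haveI := Groth.Agent.Lib.Goren.Global.isGorensteinRing_of_local (A := A)
  haveI := Groth.Agent.Lib.Goren.Rings.isGorensteinRing_polynomial A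
  exact laurent_of_poly (fun B [CommRing B] => LocCoh.IsGorensteinLocalRing B) gor_iso
    ((gor_ring_iff A[X]).1 inferInstance)

/-- `R'` is `(S_{k+1})` iff `Gr` is `(S_k)` and `A` is `(S_{k+1})`. -/
theorem sk_iff (k : ℕ) (hfg : Algebra.FiniteType A 𝓕.rees) :
    LocCoh.HasSk (k + 1) 𝓕.extRees 𝓕.extRees ↔
      (LocCoh.HasSk k 𝓕.Gr 𝓕.Gr ∧ LocCoh.HasSk (k + 1) A A) := by
  haveI := isNoetherianRing_extRees 𝓕 hfg
  haveI : IsNoetherianRing A[T;T⁻¹] :=
    IsLocalization.isNoetherianRing (Submonoid.powers (Polynomial.X : A[X])) _ inferInstance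
  haveI := faithfullyFlat (A := A)
  have key := extRees_iff 𝓕 hfg (fun B [CommRing B] => Sn.Local (k + 1) B)
    (fun B [CommRing B] => Sn.Local k B) (Sn.isoInvariant _) (Sn.isoInvariant _)
    (fun B _ _ _ y hy hreg => sn_step k B y hy hreg)
  constructor
  · intro h
    obtain ⟨h1, h2⟩ := key.1 ((Sn.hasSk_iff _ _).1 h)
    exact ⟨(Sn.hasSk_iff _ _).2 h1,
      Groth.Agent.H21.SkDescent.hasSk A A[T;T⁻¹] ((Sn.hasSk_iff _ _).2 h2)⟩
  · rintro ⟨h1, h2⟩
    exact (Sn.hasSk_iff _ _).2 (key.2 ⟨(Sn.hasSk_iff _ _).1 h1, sn_laurent _ h2⟩)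

end Groth.Agent.H2.ExtRees
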