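import Groth.Agent.H2.ExtReesApps
import Mathlib

/-!
# The extended Rees algebra off the positive part
-/

set_option autoImplicit false
set_option linter.style.haveILetI false
set_option linter.unusedSectionVars false

universe u

open IsLocalRing Polynomial
open scoped LaurentPolynomial
open Groth.Agent.Lib.EGA75 Groth.Agent.Lib.Depth

namespace Groth.Agent.H2.ExtRees

/-- The local ring of `R/(x)`, given by a surjection, at a prime. -/
theorem quot_local_equiv_surj {R G : Type u} [CommRing R] [CommRing G] (x : R) (φ : R →+* G)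
    (hφ : Function.Surjective φ) (hker : RingHom.ker φ = Ideal.span {x}) (p : Ideal G) [p.IsPrime] :
    Nonempty ((Localization.AtPrime (p.comap φ) ⧸
      Ideal.span {algebraMap R (Localization.AtPrime (p.comap φ)) x}) ≃+* Localization.AtPrime p) := by
  let e : (R ⧸ Ideal.span {x}) ≃+* G :=
    (Ideal.quotEquivOfEq hker.symm).trans (RingHom.quotientKerEquivOfSurjective hφ)
  have he : ∀ r, e (Ideal.Quotient.mk _ r) = φ r := fun r => rfl
  let P0 : Ideal (R ⧸ Ideal.span {x}) := p.comap (e : (R ⧸ Ideal.span {x}) →+* G)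
  have hc : P0.comap (Ideal.Quotient.mk (Ideal.span {x})) = p.comap φ := by
    ext r; simp [P0, he]
  obtain ⟨e0⟩ := quot_local_equiv x P0
  have hmap : P0.primeCompl.map e.toMonoidHom = p.primeCompl := by
    ext g
    constructor
    · rintro ⟨z, hz, rfl⟩; exact hz
    · intro hg
      exact ⟨e.symm g, fun h => hg (by simpa [P0] using h), e.apply_symm_apply g⟩
  let e1 : Localization.AtPrime P0 ≃+* Localization.AtPrime p :=
    IsLocalization.ringEquivOfRingEquiv (Localization.AtPrime P0) (Localization.AtPrime p) e hmap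
  have transport : ∀ (q : Ideal R) [q.IsPrime], q = p.comap φ →
      Nonempty ((Localization.AtPrime q ⧸ Ideal.span {algebraMap R (Localization.AtPrime q) x}) ≃+*
        Localization.AtPrime p) →
      Nonempty ((Localization.AtPrime (p.comap φ) ⧸
        Ideal.span {algebraMap R (Localization.AtPrime (p.comap φ)) x}) ≃+* Localization.AtPrime p) := by
    intro q _ hq hh; subst hq; exact hh
  exact transport _ hc ⟨e0.trans e1⟩

theorem cm_at_iff {R : Type u} [CommRing R] [IsNoetherianRing R] (x : R) (hx : IsSMulRegular R x)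
    (P : Ideal R) [P.IsPrime] (hu : x ∈ P) :
    LocCoh.IsCohenMacaulayLocalRing
        (Localization.AtPrime P ⧸ Ideal.span {algebraMap R (Localization.AtPrime P) x}) ↔
      LocCoh.IsCohenMacaulayLocalRing (Localization.AtPrime P) := by
  haveI : IsNoetherianRing (Localization.AtPrime P) :=
    IsLocalization.isNoetherianRing P.primeCompl _ inferInstance
  have hy := (IsLocalization.AtPrime.to_map_mem_maximal_iff (Localization.AtPrime P) P x).mpr hu
  haveI := Groth.Agent.Lib.Goren.Basic.isLocalRing_quotient_span hy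
  exact CM.isCohenMacaulayLocalRing_quotient_span_singleton_iff hy
    ((RingTheory.Sequence.isWeaklyRegular_singleton_iff _ _).mp
      (RingTheory.Sequence.IsWeaklyRegular.of_flat (S := Localization.AtPrime P)
        ((RingTheory.Sequence.isWeaklyRegular_singleton_iff _ _).mpr hx)))

variable {A : Type u} [CommRing A] [IsNoetherianRing A]

/-- `A[X]` is Cohen–Macaulay over the Cohen–Macaulay points of `A`. -/
theorem cm_poly_local (Q : Ideal A[X]) [Q.IsPrime]
    (h : LocCoh.IsCohenMacaulayLocalRing (Localization.AtPrime (Q.comap Polynomial.C))) :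
    LocCoh.IsCohenMacaulayLocalRing (Localization.AtPrime Q) := by
  haveI := h
  let q := Q.comap Polynomial.C
  haveI : LocCoh.IsCohenMacaulayRing (Localization.AtPrime q) :=
    { isCohenMacaulayLocalRing_localization := fun p _ => CM.isCohenMacaulayLocalRing_localization p }
  haveI := Groth.Agent.H18.CMPoly.polynomial (R := Localization.AtPrime q)
  let S := (Localization.AtPrime q)[X]
  let pc := Submonoid.map Polynomial.C.toMonoidHom q.primeCompl
  let : Algebra A[X] S := Polynomial.algebra A (Localization.AtPrime q)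
  haveI : IsLocalization pc S := Polynomial.isLocalization _ _
  have disj : Disjoint (pc : Set A[X]) (Q : Set A[X]) := by
    rw [Set.disjoint_left]
    rintro _ ⟨a, ha, rfl⟩ hQ
    exact ha hQ
  haveI := IsLocalization.isPrime_of_isPrime_disjoint pc S Q ‹_› disj
  have hc : (Q.map (algebraMap A[X] S)).comap (algebraMap A[X] S) = Q :=
    IsLocalization.under_map_of_isPrime_disjoint pc S ‹_› disj
  obtain ⟨e⟩ := away_local_equiv (R := A[X]) (L := S) pc (Q.map (algebraMap A[X] S))
  have transport : ∀ (q' : Ideal A[X]) [q'.IsPrime], q' = Q →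
      LocCoh.IsCohenMacaulayLocalRing (Localization.AtPrime q') →
      LocCoh.IsCohenMacaulayLocalRing (Localization.AtPrime Q) := by
    intro q' _ hq hh; subst hq; exact hh
  exact transport _ hc (CM.isoInvariant _ _ e.symm
    (LocCoh.IsCohenMacaulayRing.isCohenMacaulayLocalRing_localization _))

variable (𝓕 : FiltBl.IdealFiltration A)

/-- The generators of the positive part. -/
theorem pos_le_iff (Rp : Ideal 𝓕.extRees)
    (hRp : Rp = Ideal.span {x : 𝓕.extRees | ∃ n : ℕ, 0 < n ∧ ∃ a ∈ 𝓕.F n,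
      (x : A[T;T⁻¹]) = LaurentPolynomial.C a * LaurentPolynomial.T (n : ℤ)})
    (Q : Ideal A[T;T⁻¹]) [Q.IsPrime] :
    Rp ≤ Q.comap (algebraMap 𝓕.extRees A[T;T⁻¹]) ↔ 𝓕.F 1 ≤ Q.comap (algebraMap A A[T;T⁻¹]) := by
  constructor
  · intro h a ha
    let z : 𝓕.extRees := ⟨LaurentPolynomial.C a * LaurentPolynomial.T ((1 : ℕ) : ℤ),
      C_mul_T_mem 𝓕 (by simpa using ha)⟩
    have hz : z ∈ Rp := hRp ▸ Ideal.subset_span ⟨1, one_pos, a, ha, rfl⟩
    exact (Ideal.mul_unit_mem_iff_mem Q (LaurentPolynomial.isUnit_T _)).1 (h hz)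
  · intro h
    rw [hRp, Ideal.span_le]
    rintro z ⟨n, hn, a, ha, hz⟩
    show (z : A[T;T⁻¹]) ∈ Q
    rw [hz]
    exact Ideal.mul_mem_right _ _ (h (𝓕.antitone hn ha))

/-- `R'` is Cohen–Macaulay off the positive part iff `Gr` and `A` are. -/
theorem cm_off_iff (hfg : Algebra.FiniteType A 𝓕.rees)
    {G : Type u} [CommRing G] (φ : 𝓕.extRees →+* G) (hφ : Function.Surjective φ)
    (hker : RingHom.ker φ = Ideal.span {𝓕.u}) (Rp : Ideal 𝓕.extRees)
    (hRp : Rp = Ideal.span {x : 𝓕.extRees | ∃ n : ℕ, 0 < n ∧ ∃ a ∈ 𝓕.F n,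
      (x : A[T;T⁻¹]) = LaurentPolynomial.C a * LaurentPolynomial.T (n : ℤ)}) :
    (∀ (P : Ideal 𝓕.extRees) [P.IsPrime], ¬ Rp ≤ P →
        LocCoh.IsCohenMacaulayLocalRing (Localization.AtPrime P)) ↔
      ((∀ (p : Ideal G) [p.IsPrime], ¬ Ideal.map φ Rp ≤ p →
          LocCoh.IsCohenMacaulayLocalRing (Localization.AtPrime p)) ∧
        (∀ (q : Ideal A) [q.IsPrime], ¬ 𝓕.F 1 ≤ q →
            LocCoh.IsCohenMacaulayLocalRing (Localization.AtPrime q))) := by
  haveI := isNoetherianRing_extRees 𝓕 hfg
  haveI := isAway 𝓕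
  haveI : IsNoetherianRing A[T;T⁻¹] :=
    IsLocalization.isNoetherianRing (Submonoid.powers (Polynomial.X : A[X])) _ inferInstance
  constructor
  · intro h
    refine ⟨fun p _ hp => ?_, fun q _ hq => ?_⟩
    · obtain ⟨e⟩ := quot_local_equiv_surj 𝓕.u φ hφ hker p
      refine CM.isoInvariant _ _ e ((cm_at_iff 𝓕.u (regular_u 𝓕) _ ?_).2 (h _ fun hle => hp (Ideal.map_le_iff_le_comap.2 hle)))
      show φ 𝓕.u ∈ p
      rw [RingHom.mem_ker.1 (hker ▸ Ideal.mem_span_singleton_self _)]
      exact zero_mem _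
    · haveI : Nontrivial A := Ideal.IsPrime.ne_top' (I := q) |> fun hne =>
        ⟨⟨0, 1, fun h01 => hne ((Ideal.eq_top_iff_one q).2 (h01 ▸ zero_mem q))⟩⟩
      haveI := faithfullyFlat (A := A)
      obtain ⟨⟨Q, hQ⟩, hQq⟩ := PrimeSpectrum.comap_surjective_of_faithfullyFlat (A := A) (B := A[T;T⁻¹]) ⟨q, ‹_›⟩
      have hcq : Q.comap (algebraMap A A[T;T⁻¹]) = q := congrArg PrimeSpectrum.asIdeal hQq
      have hP := h (Q.comap (algebraMap 𝓕.extRees A[T;T⁻¹]))
        fun hle => hq (hcq ▸ (pos_le_iff 𝓕 Rp hRp Q).1 hle)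
      obtain ⟨eQ⟩ := away_local_equiv (R := 𝓕.extRees) (Submonoid.powers 𝓕.u) Q
      have hCQ := CM.isoInvariant _ _ eQ hP
      letI : Algebra (Localization.AtPrime q) (Localization.AtPrime Q) :=
        (Localization.localRingHom q Q (algebraMap A A[T;T⁻¹]) hcq.symm).toAlgebra
      haveI : IsLocalHom (algebraMap (Localization.AtPrime q) (Localization.AtPrime Q)) :=
        inferInstanceAs (IsLocalHom (Localization.localRingHom q Q _ hcq.symm))
      haveI : Module.Flat (Localization.AtPrime q) (Localization.AtPrime Q) :=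
        RingHom.Flat.localRingHom (f := algebraMap A A[T;T⁻¹])
          (by rw [RingHom.flat_algebraMap_iff]; infer_instance) Q q hcq.symm
      haveI : IsNoetherianRing (Localization.AtPrime q) :=
        IsLocalization.isNoetherianRing q.primeCompl _ inferInstance
      haveI : IsNoetherianRing (Localization.AtPrime Q) :=
        IsLocalization.isNoetherianRing Q.primeCompl _ inferInstance
      exact ((DepthFlat.isCohenMacaulay_flat_iff _ _).1 hCQ).1
  · rintro ⟨h1, h2⟩ P hP hRP
    by_cases hu : 𝓕.u ∈ P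
    · have hkP : RingHom.ker φ ≤ P := hker ▸ (Ideal.span_singleton_le_iff_mem _).2 hu
      haveI := Ideal.map_isPrime_of_surjective (f := φ) hφ hkP
      have hc : (P.map φ).comap φ = P := by
        rw [Ideal.comap_map_of_surjective' _ hφ, sup_eq_left]; exact hkP
      have hnle : ¬ Ideal.map φ Rp ≤ P.map φ := fun hle =>
        hRP (hc ▸ Ideal.map_le_iff_le_comap.1 hle)
      obtain ⟨e⟩ := quot_local_equiv_surj 𝓕.u φ hφ hker (P.map φ)
      have h := (cm_at_iff 𝓕.u (regular_u 𝓕) ((P.map φ).comap φ) (by rw [hc]; exact hu)).1 (CM.isoInvariant _ _ e.symm (h1 _ hnle))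
      have transport : ∀ (q : Ideal 𝓕.extRees) [q.IsPrime], q = P →
          LocCoh.IsCohenMacaulayLocalRing (Localization.AtPrime q) →
          LocCoh.IsCohenMacaulayLocalRing (Localization.AtPrime P) := by
        intro q _ hq hh; subst hq; exact hh
      exact transport _ hc h
    · have hd : Disjoint (Submonoid.powers 𝓕.u : Set 𝓕.extRees) (P : Set 𝓕.extRees) := by
        rw [Set.disjoint_left]
        rintro _ ⟨n, rfl⟩ hn
        exact hu (hP.mem_of_pow_mem n hn)
      haveI := IsLocalization.isPrime_of_isPrime_disjoint (Submonoid.powers 𝓕.u) A[T;T⁻¹] P hP hd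
      have hc : (P.map (algebraMap 𝓕.extRees A[T;T⁻¹])).comap (algebraMap 𝓕.extRees A[T;T⁻¹]) = P :=
        IsLocalization.under_map_of_isPrime_disjoint (Submonoid.powers 𝓕.u) A[T;T⁻¹] hP hd
      set Q := P.map (algebraMap 𝓕.extRees A[T;T⁻¹]) with hQdef
      have hnq : ¬ 𝓕.F 1 ≤ Q.comap (algebraMap A A[T;T⁻¹]) := fun hle =>
        hRP (hc ▸ (pos_le_iff 𝓕 Rp hRp Q).2 hle)
      haveI : (Q.comap (algebraMap A A[T;T⁻¹])).IsPrime := inferInstance
      have hcc : (Q.comap (algebraMap A[X] A[T;T⁻¹])).comap Polynomial.C =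
          Q.comap (algebraMap A A[T;T⁻¹]) := by
        ext a
        show algebraMap A[X] A[T;T⁻¹] (Polynomial.C a) ∈ Q ↔ _
        rw [LaurentPolynomial.algebraMap_eq_toLaurent, Polynomial.toLaurent_C]
        rfl
      have transportA : ∀ (q : Ideal A) [q.IsPrime], q = Q.comap (algebraMap A A[T;T⁻¹]) →
          LocCoh.IsCohenMacaulayLocalRing (Localization.AtPrime (Q.comap (algebraMap A A[T;T⁻¹]))) →
          LocCoh.IsCohenMacaulayLocalRing (Localization.AtPrime q) := by
        intro q _ hq hh; subst hq; exact hh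
      have hX := cm_poly_local (Q.comap (algebraMap A[X] A[T;T⁻¹])) (transportA _ hcc (h2 _ hnq))
      obtain ⟨e1⟩ := away_local_equiv (R := A[X]) (Submonoid.powers (Polynomial.X : A[X])) Q
      obtain ⟨e2⟩ := away_local_equiv (R := 𝓕.extRees) (Submonoid.powers 𝓕.u) Q
      have transport : ∀ (q : Ideal 𝓕.extRees) [q.IsPrime], q = P →
          LocCoh.IsCohenMacaulayLocalRing (Localization.AtPrime q) →
          LocCoh.IsCohenMacaulayLocalRing (Localization.AtPrime P) := by
        intro q _ hq hh; subst hq; exact hh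
      exact transport _ hc (CM.isoInvariant _ _ e2.symm (CM.isoInvariant _ _ e1 hX))

end Groth.Agent.H2.ExtRees
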