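import Groth.Agent.H2.ExtReesApps
import Mathlib

/-!
# `(S₂)` passes from the extended Rees algebra to the Rees algebra
-/

set_option autoImplicit false
set_option linter.style.haveILetI false
set_option linter.unusedSectionVars false

universe u

open IsLocalRing Polynomial
open scoped LaurentPolynomial Pointwise
open Groth.Agent.Lib.EGA75 Groth.Agent.Lib.Depth

namespace Groth.Agent.H2.ExtRees

section Generic

theorem two_le_depth {B : Type u} [CommRing B] [IsLocalRing B] [IsNoetherianRing B] {a : B}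
    (ha : a ∈ maximalIdeal B) (hreg : IsSMulRegular B a)
    (h : ∀ w : B, (∀ e ∈ maximalIdeal B, a ∣ e * w) → a ∣ w) :
    (2 : ℕ∞) ≤ LocCoh.depth B B := by
  rw [LocCoh.depth, show (2 : ℕ∞) = ((1 + 1 : ℕ) : ℕ∞) from rfl,
    SES.succ_le_idealDepth_iff (maximalIdeal B) ha hreg, Nat.cast_one,
    Assoc.one_le_idealDepth_iff_forall]
  refine Or.inr fun p hp hle => ?_
  have hpm : p = maximalIdeal B :=
    le_antisymm (IsLocalRing.le_maximalIdeal (IsAssociatedPrime.isPrime hp).ne_top) hle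
  obtain ⟨-, f, hf⟩ := (isAssociatedPrime_iff_exists_injective_linearMap _ _).1 hp
  obtain ⟨w, hw⟩ := Submodule.Quotient.mk_surjective _ (f 1)
  have hkill : ∀ e ∈ maximalIdeal B, a ∣ e * w := by
    intro e he
    have h0 : e • f 1 = 0 := by
      rw [← map_smul, Algebra.smul_def, mul_one, Ideal.Quotient.algebraMap_eq,
        Ideal.Quotient.eq_zero_iff_mem.2 (hpm ▸ he), map_zero]
    rw [← hw, ← Submodule.Quotient.mk_smul, Submodule.Quotient.mk_eq_zero,
      Submodule.mem_smul_pointwise_iff_exists] at h0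
    obtain ⟨b, -, hb⟩ := h0
    exact ⟨b, hb.symm⟩
  obtain ⟨b, hb⟩ := h w hkill
  have h1 : f 1 = 0 := by
    rw [← hw, Submodule.Quotient.mk_eq_zero, Submodule.mem_smul_pointwise_iff_exists]
    exact ⟨b, trivial, hb.symm⟩
  have := hf (h1.trans (map_zero f).symm)
  exact (IsAssociatedPrime.isPrime hp).ne_top (Ideal.Quotient.subsingleton_iff.1
    (subsingleton_of_zero_eq_one this.symm))

variable {R : Type u} [CommRing R] (P : Ideal R) [P.IsPrime]

theorem dvd_local_iff {x y : R} :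
    algebraMap R (Localization.AtPrime P) y ∣ algebraMap R (Localization.AtPrime P) x ↔
      ∃ s ∉ P, y ∣ s * x := by
  constructor
  · rintro ⟨b, hb⟩
    obtain ⟨⟨c, d⟩, hcd⟩ := IsLocalization.surj P.primeCompl b
    have h1 : algebraMap R (Localization.AtPrime P) (x * d) =
        algebraMap R (Localization.AtPrime P) (y * c) := by
      rw [map_mul, map_mul, hb, mul_assoc, hcd]
    obtain ⟨t, ht⟩ := IsLocalization.exists_of_eq (M := P.primeCompl) h1
    exact ⟨t * d, (t * d).2, c * t, by rw [show (t : R) * (d : R) * x = t * (x * d) by ring, ht]; ring⟩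
  · rintro ⟨s, hs, b, hb⟩
    have hu : IsUnit (algebraMap R (Localization.AtPrime P) s) :=
      IsLocalization.map_units _ (⟨s, hs⟩ : P.primeCompl)
    rw [← hu.dvd_mul_left, ← map_mul, hb, map_mul]
    exact dvd_mul_right _ _

/-- At a prime of depth `≥ 2` minimal over the colon ideal `(y : x)`, `y` divides `x`. -/
theorem dvd_of_minimal [IsNoetherianRing R] {y x : R} (hy : IsSMulRegular R y)
    (hdep : (2 : ℕ∞) ≤ LocCoh.depth (Localization.AtPrime P) (Localization.AtPrime P))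
    (I : Ideal R) (hI : ∀ f ∈ I, y ∣ f * x) (hmin : P ∈ I.minimalPrimes) :
    ∃ s ∉ P, y ∣ s * x := by
  by_cases hyP : y ∈ P
  swap
  · exact ⟨y, hyP, dvd_mul_right _ _⟩
  set B := Localization.AtPrime P
  haveI : IsNoetherianRing B := IsLocalization.isNoetherianRing P.primeCompl _ inferInstance
  have hyB : algebraMap R B y ∈ maximalIdeal B :=
    (IsLocalization.AtPrime.to_map_mem_maximal_iff B P y).mpr hyP
  have hyreg : IsSMulRegular B (algebraMap R B y) :=
    (RingTheory.Sequence.isWeaklyRegular_singleton_iff _ _).mp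
      (RingTheory.Sequence.IsWeaklyRegular.of_flat (S := B)
        ((RingTheory.Sequence.isWeaklyRegular_singleton_iff _ _).mpr hy))
  have h1 : (1 : ℕ∞) ≤ LocCoh.idealDepth (maximalIdeal B) (QuotSMulTop (algebraMap R B y) B) := by
    have := (SES.succ_le_idealDepth_iff (maximalIdeal B) hyB hyreg 1).1 hdep
    exact_mod_cast this
  rw [Basic.one_le_idealDepth_iff] at h1
  obtain ⟨e, he, hereg⟩ := h1.resolve_left (by
    haveI : Nontrivial (QuotSMulTop (algebraMap R B y) B) := by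
      refine Submodule.Quotient.nontrivial_iff.2 fun h => ?_
      have h1 : (1 : B) ∈ algebraMap R B y • (⊤ : Submodule B B) := Submodule.eq_top_iff'.1 h 1
      obtain ⟨b, -, hb⟩ := (Submodule.mem_smul_pointwise_iff_exists _ _ _).1 h1
      exact (maximalIdeal.isMaximal B).ne_top ((Ideal.eq_top_iff_one _).2
        (hb ▸ Ideal.mul_mem_right b _ hyB))
    exact Basic.smul_top_ne_top Ideal.IsPrime.ne_top')
  obtain ⟨⟨r, s1⟩, hrs⟩ := IsLocalization.surj P.primeCompl e
  have hrP : r ∈ P := by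
    rw [← IsLocalization.AtPrime.to_map_mem_maximal_iff B P r, ← hrs]
    exact Ideal.mul_mem_right _ _ he
  -- some `s r ^ M` lies in `I`
  obtain ⟨s, hs, M, hM⟩ : ∃ s ∉ P, ∃ M : ℕ, s * r ^ M ∈ I := by
    by_contra hcon
    push Not at hcon
    have hd : Disjoint (I : Set R) ((P.primeCompl ⊔ Submonoid.powers r : Submonoid R) : Set R) := by
      rw [Set.disjoint_left]
      intro z hzI hz
      obtain ⟨s, hs, w, ⟨M, rfl⟩, rfl⟩ := Submonoid.mem_sup.1 hz
      exact hcon s hs M hzI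
    obtain ⟨P', hP', hIP', hdP'⟩ := Ideal.exists_le_prime_disjoint _ _ hd
    have hle : P' ≤ P := fun z hz => by
      by_contra hzP
      exact Set.disjoint_left.1 hdP' hz (Submonoid.mem_sup_left hzP)
    have hrP' : r ∉ P' := fun hr =>
      Set.disjoint_left.1 hdP' hr (Submonoid.mem_sup_right ⟨1, pow_one r⟩)
    exact hrP' (hmin.2 ⟨hP', hIP'⟩ hle hrP)
  have hdvd : algebraMap R B y ∣ algebraMap R B r ^ M * algebraMap R B (s * x) := by
    rw [← map_pow, ← map_mul]
    refine map_dvd _ ?_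
    rw [show r ^ M * (s * x) = s * r ^ M * x by ring]
    exact hI _ hM
  have hreg' : IsSMulRegular (QuotSMulTop (algebraMap R B y) B) (algebraMap R B r ^ M) := by
    refine IsSMulRegular.pow M ?_
    rw [← hrs]
    exact hereg.mul ((IsLocalization.map_units B s1).isSMulRegular _)
  have hx : algebraMap R B y ∣ algebraMap R B (s * x) := by
    have key : Submodule.Quotient.mk (p := algebraMap R B y • (⊤ : Submodule B B))
        (algebraMap R B (s * x)) = 0 := by
      refine hreg' ?_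
      simp only [smul_zero]
      rw [← Submodule.Quotient.mk_smul, Submodule.Quotient.mk_eq_zero,
        Submodule.mem_smul_pointwise_iff_exists]
      obtain ⟨b, hb⟩ := hdvd
      exact ⟨b, trivial, hb.symm⟩
    rw [Submodule.Quotient.mk_eq_zero, Submodule.mem_smul_pointwise_iff_exists] at key
    obtain ⟨b, -, hb⟩ := key
    exact ⟨b, hb.symm⟩
  obtain ⟨t, ht, htd⟩ := (dvd_local_iff P).1 hx
  exact ⟨t * s, fun h => ((‹P.IsPrime›).mem_or_mem h).elim ht hs, by rwa [mul_assoc]⟩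

end Generic

section Rees

variable {A : Type u} [CommRing A] (𝓕 : FiltBl.IdealFiltration A)

theorem coeff_toLaurent (p : A[X]) (k : ℕ) : (Polynomial.toLaurent p).coeff (k : ℤ) = p.coeff k := by
  induction p using Polynomial.induction_on' with
  | add p q hp hq =>
    rw [map_add, AddMonoidAlgebra.coeff_add, Finsupp.add_apply, hp, hq, Polynomial.coeff_add]
  | monomial n a =>
    rw [Polynomial.toLaurent_C_mul_T, ← LaurentPolynomial.single_eq_C_mul_T,
      AddMonoidAlgebra.coeff_single, Polynomial.coeff_monomial, Finsupp.single_apply]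
    by_cases h : n = k <;> simp [h]

/-- The inclusion of the Rees algebra. -/
noncomputable def toExt : 𝓕.rees →+* 𝓕.extRees :=
  ((Polynomial.toLaurent (R := A)).comp 𝓕.rees.val.toRingHom).codRestrict 𝓕.extRees fun p => by
    show Polynomial.toLaurent (p : A[X]) ∈ 𝓕.extRees
    rw [(p : A[X]).as_sum_range_C_mul_X_pow, map_sum]
    refine Subalgebra.sum_mem _ fun i _ => ?_
    rw [Polynomial.toLaurent_C_mul_X_pow]
    exact C_mul_T_mem 𝓕 (by simpa using p.2 i)

theorem toExt_val (p : 𝓕.rees) : (toExt 𝓕 p : A[T;T⁻¹]) = Polynomial.toLaurent (p : A[X]) := rfl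

theorem toExt_injective : Function.Injective (toExt 𝓕) := fun _ _ h =>
  Subtype.ext (Polynomial.toLaurent_injective (congrArg Subtype.val h))

theorem monomial_mem {n : ℕ} {a : A} (ha : a ∈ 𝓕.F n) : Polynomial.monomial n a ∈ 𝓕.rees := fun k => by
  rw [Polynomial.coeff_monomial]
  split_ifs with h
  · subst h; exact ha
  · exact Ideal.zero_mem _

/-- Away from the positive part the Rees algebra is the extended one. -/
theorem local_equiv_pos {n : ℕ} (hn : 1 ≤ n) {a : A} (ha : a ∈ 𝓕.F n) (P : Ideal 𝓕.rees) [P.IsPrime]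
    (hP : (⟨_, monomial_mem 𝓕 ha⟩ : 𝓕.rees) ∉ P) :
    ∃ (Q : Ideal 𝓕.extRees) (_ : Q.IsPrime),
      Nonempty (Localization.AtPrime Q ≃+* Localization.AtPrime P) := by
  let z : 𝓕.rees := ⟨_, monomial_mem 𝓕 ha⟩
  let L' := Localization.Away (toExt 𝓕 z)
  letI : Algebra 𝓕.rees L' := ((algebraMap 𝓕.extRees L').comp (toExt 𝓕)).toAlgebra
  have hz : (toExt 𝓕 z : A[T;T⁻¹]) = LaurentPolynomial.C a * LaurentPolynomial.T (n : ℤ) :=
    Polynomial.toLaurent_C_mul_T n a
  haveI : IsLocalization.Away z L' := by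
    refine IsLocalization.Away.mk _ ?_ (fun w => ?_) (fun p q h => ?_)
    · exact IsLocalization.Away.algebraMap_isUnit (toExt 𝓕 z)
    · obtain ⟨k, f, hf⟩ := IsLocalization.Away.surj (toExt 𝓕 z) w
      obtain ⟨M, p, hp⟩ := LaurentPolynomial.exists_T_pow (f : A[T;T⁻¹])
      let g := p * Polynomial.C (a ^ M) * X ^ ((n - 1) * M)
      have hg : Polynomial.toLaurent g = ((f * toExt 𝓕 z ^ M : 𝓕.extRees) : A[T;T⁻¹]) := by
        have hnM : ((n : ℤ) * M) = (M : ℤ) + (((n - 1) * M : ℕ) : ℤ) := by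
          push_cast [Nat.cast_sub hn]; ring
        simp only [g, map_mul, Polynomial.toLaurent_C, Polynomial.toLaurent_X_pow, hp]
        push_cast [hz]
        rw [mul_pow, LaurentPolynomial.T_pow, ← map_pow, mul_comm (M : ℤ) (n : ℤ), hnM,
          LaurentPolynomial.T_add]
        push_cast [Nat.cast_sub hn]
        ring
      have hgR : g ∈ 𝓕.rees := fun i => by
        rw [← coeff_toLaurent, hg]
        simpa using (f * toExt 𝓕 z ^ M).2 i
      refine ⟨k + M, ⟨g, hgR⟩, ?_⟩
      show w * algebraMap 𝓕.extRees L' (toExt 𝓕 z) ^ (k + M) = algebraMap 𝓕.extRees L' (toExt 𝓕 _)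
      rw [show toExt 𝓕 ⟨g, hgR⟩ = f * toExt 𝓕 z ^ M from Subtype.ext hg, map_mul, map_pow, ← hf,
        pow_add, mul_assoc]
    · obtain ⟨⟨_, k, rfl⟩, hk⟩ := IsLocalization.exists_of_eq (M := Submonoid.powers (toExt 𝓕 z)) (S := L') h
      exact ⟨k, toExt_injective 𝓕 (by rw [map_mul, map_mul, map_pow]; exact hk)⟩
  have hd : Disjoint (Submonoid.powers z : Set 𝓕.rees) (P : Set 𝓕.rees) := by
    rw [Set.disjoint_left]
    rintro _ ⟨k, rfl⟩ hk
    exact hP ((‹P.IsPrime›).mem_of_pow_mem k hk)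
  haveI := IsLocalization.isPrime_of_isPrime_disjoint (Submonoid.powers z) L' P ‹_› hd
  have hc : (P.map (algebraMap 𝓕.rees L')).comap (algebraMap 𝓕.rees L') = P :=
    IsLocalization.under_map_of_isPrime_disjoint (Submonoid.powers z) L' ‹_› hd
  obtain ⟨e1⟩ := away_local_equiv (R := 𝓕.rees) (Submonoid.powers z) (P.map (algebraMap 𝓕.rees L'))
  obtain ⟨e2⟩ := away_local_equiv (R := 𝓕.extRees) (Submonoid.powers (toExt 𝓕 z))
    (P.map (algebraMap 𝓕.rees L'))
  refine ⟨(P.map (algebraMap 𝓕.rees L')).comap (algebraMap 𝓕.extRees L'), inferInstance, ?_⟩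
  have transport : ∀ (q : Ideal 𝓕.rees) [q.IsPrime], q = P →
      Nonempty (Localization.AtPrime q ≃+* Localization.AtPrime P) := by
    intro q _ hq; subst hq; exact ⟨RingEquiv.refl _⟩
  obtain ⟨e3⟩ := transport _ hc
  exact ⟨(e2.trans e1.symm).trans e3⟩

/-- Off `F 1` the Rees algebra is `A[X]`. -/
theorem local_equiv_base {b : A} (hb : b ∈ 𝓕.F 1) (P : Ideal 𝓕.rees) [P.IsPrime]
    (hP : algebraMap A 𝓕.rees b ∉ P) :
    ∃ (Q : Ideal A[X]) (_ : Q.IsPrime),
      Nonempty (Localization.AtPrime Q ≃+* Localization.AtPrime P) := by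
  let S := (Localization.Away b)[X]
  let pc := Submonoid.map Polynomial.C.toMonoidHom (Submonoid.powers b)
  let : Algebra A[X] S := Polynomial.algebra A (Localization.Away b)
  haveI : IsLocalization pc S := Polynomial.isLocalization _ _
  letI : Algebra 𝓕.rees S := ((algebraMap A[X] S).comp 𝓕.rees.val.toRingHom).toAlgebra
  let y : 𝓕.rees := algebraMap A 𝓕.rees b
  have hy : (y : A[X]) = Polynomial.C b := rfl
  have hbn : ∀ i, b ^ i ∈ 𝓕.F i := by
    intro i
    induction i with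
    | zero => rw [𝓕.zero_eq]; trivial
    | succ i ih => rw [pow_succ]; exact 𝓕.mul_le i 1 (Ideal.mul_mem_mul ih hb)
  haveI : IsLocalization.Away y S := by
    refine IsLocalization.Away.mk _ ?_ (fun w => ?_) (fun p q h => ?_)
    · exact IsLocalization.map_units S (⟨_, b, Submonoid.mem_powers b, rfl⟩ : pc)
    · obtain ⟨⟨p, ⟨_, _, ⟨k, rfl⟩, rfl⟩⟩, hp⟩ := IsLocalization.surj pc w
      have hgR : p * Polynomial.C (b ^ p.natDegree) ∈ 𝓕.rees := fun i => by
        rw [Polynomial.coeff_mul_C]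
        rcases le_or_gt i p.natDegree with h | h
        · exact Ideal.mul_mem_left _ _ (𝓕.antitone h (hbn _))
        · rw [Polynomial.coeff_eq_zero_of_natDegree_lt h, zero_mul]; exact zero_mem _
      refine ⟨k + p.natDegree, ⟨_, hgR⟩, ?_⟩
      show w * algebraMap A[X] S (y : A[X]) ^ (k + p.natDegree) =
        algebraMap A[X] S (p * Polynomial.C (b ^ p.natDegree))
      change w * algebraMap A[X] S (Polynomial.C (b ^ k)) = algebraMap A[X] S p at hp
      rw [map_mul, ← hp, hy, pow_add]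
      simp only [map_pow]
      ring
    · obtain ⟨⟨_, _, ⟨k, rfl⟩, rfl⟩, hk⟩ := IsLocalization.exists_of_eq (M := pc) (S := S) h
      refine ⟨k, Subtype.ext ?_⟩
      simp only [MulMemClass.coe_mul, SubmonoidClass.coe_pow, hy, ← map_pow]
      exact hk
  have hd : Disjoint (Submonoid.powers y : Set 𝓕.rees) (P : Set 𝓕.rees) := by
    rw [Set.disjoint_left]
    rintro _ ⟨k, rfl⟩ hk
    exact hP ((‹P.IsPrime›).mem_of_pow_mem k hk)
  haveI := IsLocalization.isPrime_of_isPrime_disjoint (Submonoid.powers y) S P ‹_› hd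
  have hc : (P.map (algebraMap 𝓕.rees S)).comap (algebraMap 𝓕.rees S) = P :=
    IsLocalization.under_map_of_isPrime_disjoint (Submonoid.powers y) S ‹_› hd
  obtain ⟨e1⟩ := away_local_equiv (R := 𝓕.rees) (L := S) (Submonoid.powers y)
    (P.map (algebraMap 𝓕.rees S))
  obtain ⟨e2⟩ := away_local_equiv (R := A[X]) (L := S) pc (P.map (algebraMap 𝓕.rees S))
  refine ⟨(P.map (algebraMap 𝓕.rees S)).comap (algebraMap A[X] S), inferInstance, ?_⟩
  have transport : ∀ (q : Ideal 𝓕.rees) [q.IsPrime], q = P →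
      Nonempty (Localization.AtPrime q ≃+* Localization.AtPrime P) := by
    intro q _ hq; subst hq; exact ⟨RingEquiv.refl _⟩
  obtain ⟨e3⟩ := transport _ hc
  exact ⟨(e2.trans e1.symm).trans e3⟩

variable [IsNoetherianRing A]

theorem depth_of_hasSk {R : Type u} [CommRing R] [IsNoetherianRing R] (h : LocCoh.HasSk 2 R R)
    (P : Ideal R) [P.IsPrime] (hP : (2 : ℕ∞) ≤ P.height) :
    (2 : ℕ∞) ≤ LocCoh.depth (Localization.AtPrime P) (Localization.AtPrime P) := by
  obtain ⟨_, h'⟩ := (Sn.hasSk_iff 2 R).1 h P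
  rw [IsLocalization.AtPrime.ringKrullDim_eq_height P (Localization.AtPrime P), min_eq_left] at h'
  · exact WithBot.coe_le_coe.1 h'
  · exact WithBot.coe_le_coe.2 hP

theorem exists_regular_of_hasSk {I : Ideal A} (h : LocCoh.HasSk 2 A A) (hI : (2 : ℕ∞) ≤ I.height) :
    ∃ a ∈ I, IsSMulRegular A a := by
  have h1 := (Assoc.exists_isSMulRegular_iff (R := A) (M := A) (I := I)).2 fun p hp hle => ?_
  · exact h1
  haveI := IsAssociatedPrime.isPrime hp
  have h2 := depth_of_hasSk h p (hI.trans (Ideal.height_mono hle))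
  haveI : IsNoetherianRing (Localization.AtPrime p) :=
    IsLocalization.isNoetherianRing p.primeCompl _ inferInstance
  have hass : maximalIdeal (Localization.AtPrime p) ∈
      associatedPrimes (Localization.AtPrime p) (Localization.AtPrime p) := by
    refine Module.associatedPrimes.mem_associatedPrimes_of_comap_mem_associatedPrimes_of_isLocalizedModule
      p.primeCompl (Algebra.linearMap A (Localization.AtPrime p)) _ ?_
    show (maximalIdeal (Localization.AtPrime p)).comap (algebraMap A (Localization.AtPrime p)) ∈ _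
    rwa [show (maximalIdeal (Localization.AtPrime p)).comap (algebraMap A (Localization.AtPrime p)) = p from
      IsLocalization.AtPrime.under_maximalIdeal (Localization.AtPrime p) p]
  have h3 : LocCoh.depth (Localization.AtPrime p) (Localization.AtPrime p) = 0 :=
    (Assoc.depth_eq_zero_iff _).2 hass
  rw [h3] at h2
  exact absurd h2 (by norm_num)

/-- A monomial multiplied into `R'` by all of `P` already lies in it. -/
theorem mem_of_conductor (hfg : Algebra.FiniteType A 𝓕.rees) (h : LocCoh.HasSk 2 𝓕.extRees 𝓕.extRees)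
    (q : Ideal A) [q.IsPrime] (hq : (2 : ℕ∞) ≤ q.height) (c : A) (n : ℕ)
    (hc0 : ∀ d ∈ q, d * c ∈ 𝓕.F n)
    (hc1 : ∀ m, 1 ≤ m → ∀ d ∈ 𝓕.F m, d * c ∈ 𝓕.F (n + m)) : c ∈ 𝓕.F n := by
  classical
  haveI := isNoetherianRing_extRees 𝓕 hfg
  haveI := isAway 𝓕
  haveI : IsNoetherianRing A[T;T⁻¹] :=
    IsLocalization.isNoetherianRing (Submonoid.powers (Polynomial.X : A[X])) _ inferInstance
  set g : A[T;T⁻¹] := LaurentPolynomial.C c * LaurentPolynomial.T (n : ℤ) with hgdef
  let φ : A[T;T⁻¹] →+* (A ⧸ q)[T;T⁻¹] := AddMonoidAlgebra.mapRingHom ℤ (Ideal.Quotient.mk q)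
  have hφ : ∀ (f : A[T;T⁻¹]) (k : ℤ), (φ f).coeff k = Ideal.Quotient.mk q (f.coeff k) := fun f k => by
    simp [φ]
  haveI : IsDomain (A ⧸ q)[T;T⁻¹] :=
    IsLocalization.isDomain_of_le_nonZeroDivisors (M := Submonoid.powers (Polynomial.X : (A ⧸ q)[X]))
      (A ⧸ q)[T;T⁻¹] (powers_le_nonZeroDivisors_of_noZeroDivisors Polynomial.X_ne_zero)
  let Q0 : Ideal A[T;T⁻¹] := RingHom.ker φ
  haveI : Q0.IsPrime := RingHom.ker_isPrime φ
  have hQ0A : Q0.comap (algebraMap A A[T;T⁻¹]) = q := by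
    ext d
    show φ (LaurentPolynomial.C d) = 0 ↔ d ∈ q
    constructor
    · intro hd
      have := congrArg (fun f => f.coeff 0) hd
      simpa [hφ, Ideal.Quotient.eq_zero_iff_mem] using this
    · intro hd
      refine LaurentPolynomial.ext fun k => ?_
      rw [hφ, LaurentPolynomial.C_apply]
      split_ifs <;> simp [Ideal.Quotient.eq_zero_iff_mem, hd]
  let I : Ideal 𝓕.extRees :=
    { carrier := {f | (f : A[T;T⁻¹]) * g ∈ 𝓕.extRees}
      add_mem' := fun {a b} ha hb => by
        simp only [Set.mem_ofPred_eq, AddMemClass.coe_add, add_mul] at *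
        exact add_mem ha hb
      zero_mem' := by
        simp only [Set.mem_ofPred_eq, ZeroMemClass.coe_zero, zero_mul]
        exact zero_mem _
      smul_mem' := fun r a ha => by
        simp only [Set.mem_ofPred_eq, smul_eq_mul, MulMemClass.coe_mul, mul_assoc] at *
        exact mul_mem r.2 ha }
  have hp0 : Q0.comap (algebraMap 𝓕.extRees A[T;T⁻¹]) ≤ I := by
    intro f hf
    show (f : A[T;T⁻¹]) * g ∈ 𝓕.extRees
    have hfq : ∀ k, (f : A[T;T⁻¹]).coeff k ∈ q := fun k => by
      have := congrArg (fun e => e.coeff k) (hf : φ (f : A[T;T⁻¹]) = 0)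
      simpa [hφ, Ideal.Quotient.eq_zero_iff_mem] using this
    rw [← AddMonoidAlgebra.sum_coeff_single (f : A[T;T⁻¹]), Finsupp.sum, Finset.sum_mul]
    refine Subalgebra.sum_mem _ fun k _ => ?_
    rw [LaurentPolynomial.single_eq_C_mul_T, hgdef, mul_mul_mul_comm, ← map_mul, ← LaurentPolynomial.T_add]
    refine C_mul_T_mem 𝓕 ?_
    rcases le_or_gt k 0 with hk | hk
    · exact 𝓕.antitone (show (k + n).toNat ≤ n by omega) (hc0 _ (hfq k))
    · rw [show (k + n).toNat = n + k.toNat by omega]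
      exact hc1 _ (by omega) _ (f.2 k)
  by_cases hI : I = ⊤
  · have h1 : (1 : 𝓕.extRees) ∈ I := hI ▸ trivial
    change ((1 : 𝓕.extRees) : A[T;T⁻¹]) * g ∈ 𝓕.extRees at h1
    rw [OneMemClass.coe_one, one_mul] at h1
    have := h1 n
    rw [hgdef, ← LaurentPolynomial.single_eq_C_mul_T, AddMonoidAlgebra.coeff_single,
      Finsupp.single_eq_same] at this
    simpa using this
  obtain ⟨P', hP'⟩ := Ideal.nonempty_minimalPrimes hI
  haveI := hP'.1.1
  have hht : (2 : ℕ∞) ≤ P'.height := by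
    refine hq.trans (le_trans ?_ (Ideal.height_mono (hp0.trans hP'.1.2)))
    show q.height ≤ (Ideal.under _ Q0).height
    rw [IsLocalization.height_under (Submonoid.powers 𝓕.u)]
    haveI : Q0.LiesOver q := ⟨hQ0A.symm⟩
    haveI : Module.Free A A[T;T⁻¹] := Module.Free.of_basis (AddMonoidAlgebra.basis ℤ A)
    rw [Ideal.height_eq_height_add_of_liesOver_of_hasGoingDown q Q0]
    exact le_self_add
  let x : 𝓕.extRees := ⟨LaurentPolynomial.C c * LaurentPolynomial.T 0,
    C_mul_T_mem 𝓕 (by simp [𝓕.zero_eq])⟩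
  have hgx : (x : A[T;T⁻¹]) = g * ((𝓕.u ^ n : 𝓕.extRees) : A[T;T⁻¹]) := by
    show LaurentPolynomial.C c * LaurentPolynomial.T 0 = g * LaurentPolynomial.T (-1) ^ n
    rw [hgdef, LaurentPolynomial.T_pow, LaurentPolynomial.mul_T_assoc]
    simp
  obtain ⟨s, hs, b, hb⟩ := dvd_of_minimal P' (y := 𝓕.u ^ n) (x := x)
    (IsSMulRegular.pow n (regular_u 𝓕)) (depth_of_hasSk h P' hht) I
    (fun f hf => ⟨⟨(f : A[T;T⁻¹]) * g, hf⟩, Subtype.ext (by
      show (f : A[T;T⁻¹]) * (x : A[T;T⁻¹]) = ((𝓕.u ^ n : 𝓕.extRees) : A[T;T⁻¹]) * ((f : A[T;T⁻¹]) * g)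
      rw [hgx]; ring)⟩) hP'
  refine absurd (hP'.1.2 (show (s : A[T;T⁻¹]) * g ∈ 𝓕.extRees from ?_)) hs
  have hbs : (s : A[T;T⁻¹]) * g = b := by
    have h1 := congrArg Subtype.val hb
    simp only [MulMemClass.coe_mul, hgx] at h1
    rw [← mul_assoc, mul_comm ((𝓕.u ^ n : 𝓕.extRees) : A[T;T⁻¹]) (b : A[T;T⁻¹])] at h1
    have hu : IsUnit ((𝓕.u ^ n : 𝓕.extRees) : A[T;T⁻¹]) := by
      rw [SubmonoidClass.coe_pow]; exact (isUnit_u 𝓕).pow n
    exact hu.mul_right_cancel h1
  rw [hbs]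
  exact b.2

/-- Depth at a prime of the Rees algebra containing the positive part and `F 1`. -/
theorem two_le_depth_rees (hfg : Algebra.FiniteType A 𝓕.rees)
    (h : LocCoh.HasSk 2 𝓕.extRees 𝓕.extRees) (hA : LocCoh.HasSk 2 A A)
    (hht : 2 ≤ (𝓕.F 1).height) (P : Ideal 𝓕.rees) [P.IsPrime]
    (h1 : ∀ n, 1 ≤ n → ∀ (a : A) (ha : a ∈ 𝓕.F n), (⟨_, monomial_mem 𝓕 ha⟩ : 𝓕.rees) ∈ P)
    (h0 : ∀ b ∈ 𝓕.F 1, algebraMap A 𝓕.rees b ∈ P) :
    (2 : ℕ∞) ≤ LocCoh.depth (Localization.AtPrime P) (Localization.AtPrime P) := by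
  classical
  haveI : IsNoetherianRing 𝓕.rees := Algebra.FiniteType.isNoetherianRing A _
  haveI : IsNoetherianRing (Localization.AtPrime P) :=
    IsLocalization.isNoetherianRing P.primeCompl _ inferInstance
  let q := P.comap (algebraMap A 𝓕.rees)
  have hq1 : 𝓕.F 1 ≤ q := fun b hb => h0 b hb
  have hq : (2 : ℕ∞) ≤ q.height := hht.trans (Ideal.height_mono hq1)
  obtain ⟨a, ha, hareg⟩ := exists_regular_of_hasSk hA hht
  have haX : IsSMulRegular A[X] (Polynomial.C a) := fun f g hfg => by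
    ext k
    have := congrArg (fun f => Polynomial.coeff f k) hfg
    simp only [smul_eq_mul, Polynomial.coeff_C_mul] at this
    exact hareg this
  let α : 𝓕.rees := algebraMap A 𝓕.rees a
  have hαreg : IsSMulRegular 𝓕.rees α := fun f g hfg =>
    Subtype.ext (haX (congrArg Subtype.val hfg))
  refine two_le_depth ((IsLocalization.AtPrime.to_map_mem_maximal_iff _ P α).mpr (h0 a ha))
    ((RingTheory.Sequence.isWeaklyRegular_singleton_iff _ _).mp
      (RingTheory.Sequence.IsWeaklyRegular.of_flat (S := Localization.AtPrime P)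
        ((RingTheory.Sequence.isWeaklyRegular_singleton_iff _ _).mpr hαreg))) fun w hw => ?_
  obtain ⟨⟨x, d⟩, hxd⟩ := IsLocalization.surj P.primeCompl w
  have hdu : IsUnit (algebraMap 𝓕.rees (Localization.AtPrime P) d) := IsLocalization.map_units _ d
  rw [← hdu.dvd_mul_right, hxd, dvd_local_iff P]
  -- a single multiplier for all of `P`
  have hsp : ∀ p : 𝓕.rees, p ∈ P → ∃ s ∉ P, α ∣ s * (p * x) := by
    intro p hp
    refine (dvd_local_iff P).1 ?_
    rw [map_mul, ← hxd, ← mul_assoc]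
    exact Dvd.dvd.mul_right
      (hw _ ((IsLocalization.AtPrime.to_map_mem_maximal_iff _ P p).mpr hp)) _
  choose sf hsf hsd using hsp
  obtain ⟨G, hG⟩ := (IsNoetherian.noetherian P)
  have hGP : ∀ g ∈ G, g ∈ P := fun g hg => hG ▸ Submodule.subset_span hg
  let s := ∏ g ∈ G.attach, sf g.1 (hGP g.1 g.2)
  have hs : s ∉ P := fun hc => by
    obtain ⟨g, -, hg⟩ := (Ideal.IsPrime.prod_mem_iff (hp := ‹P.IsPrime›)).1 hc
    exact hsf _ _ hg
  have hsG : ∀ p ∈ P, α ∣ p * (s * x) := by
    intro p hp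
    rw [← hG] at hp
    induction hp using Submodule.span_induction with
    | mem g hg =>
      obtain ⟨b, hb⟩ := Finset.dvd_prod_of_mem (fun g : G => sf g.1 (hGP g.1 g.2)) (Finset.mem_attach G ⟨g, hg⟩)
      obtain ⟨e, he⟩ := hsd g (hGP g hg)
      refine ⟨b * e, ?_⟩
      change s = sf g _ * b at hb
      rw [hb, show g * (sf g (hGP g hg) * b * x) = b * (sf g (hGP g hg) * (g * x)) by ring, he]
      ring
    | zero => simp
    | add u v _ _ hu hv => rw [add_mul]; exact dvd_add hu hv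
    | smul r u _ hu => rw [smul_eq_mul, mul_assoc]; exact hu.mul_left r
  -- coefficients lie in `a A_q`
  have hcoef : ∀ k, ∃ t ∉ q, a ∣ t * (((s * x : 𝓕.rees) : A[X]).coeff k) := by
    intro k
    haveI : IsNoetherianRing (Localization.AtPrime q) :=
      IsLocalization.isNoetherianRing q.primeCompl _ inferInstance
    refine dvd_of_minimal q hareg (depth_of_hasSk hA q hq) q (fun f hf => ?_)
      ⟨⟨inferInstance, le_rfl⟩, fun _ hJ _ => hJ.2⟩
    obtain ⟨e, he⟩ := hsG _ (hf : algebraMap A 𝓕.rees f ∈ P)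
    refine ⟨(e : A[X]).coeff k, ?_⟩
    have := congrArg (fun z : 𝓕.rees => (z : A[X]).coeff k) he
    simpa [α] using this
  choose tf htf htd using hcoef
  let N := ((s * x : 𝓕.rees) : A[X]).support
  let t0 := ∏ k ∈ N, tf k
  have ht0 : t0 ∉ q := fun hc => by
    obtain ⟨k, -, hk⟩ := (Ideal.IsPrime.prod_mem_iff (hp := inferInstanceAs q.IsPrime)).1 hc
    exact htf _ hk
  have hdiv : Polynomial.C a ∣ Polynomial.C t0 * ((s * x : 𝓕.rees) : A[X]) := by
    rw [Polynomial.C_dvd_iff_dvd_coeff]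
    intro k
    rw [Polynomial.coeff_C_mul]
    by_cases hk : k ∈ N
    · exact dvd_trans (htd k) (mul_dvd_mul_right (Finset.dvd_prod_of_mem _ hk) _)
    · rw [Polynomial.notMem_support_iff.1 hk, mul_zero]; exact dvd_zero _
  obtain ⟨y, hy⟩ := hdiv
  have hPy : ∀ p ∈ P, (p : A[X]) * y ∈ 𝓕.rees := by
    intro p hp
    obtain ⟨e, he⟩ := hsG p hp
    have h2 : Polynomial.C a * ((p : A[X]) * y) = Polynomial.C a * (Polynomial.C t0 * (e : A[X])) := by
      have he' := congrArg Subtype.val he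
      simp only [MulMemClass.coe_mul] at he'
      rw [← mul_assoc, mul_comm (Polynomial.C a) (p : A[X]), mul_assoc, ← hy, MulMemClass.coe_mul,
        ← mul_assoc (p : A[X]), mul_comm (p : A[X]) (Polynomial.C t0), mul_assoc, he']
      show Polynomial.C t0 * (Polynomial.C a * (e : A[X])) = _
      ring
    rw [haX h2]
    exact mul_mem (𝓕.rees.algebraMap_mem t0) e.2
  have hyR : y ∈ 𝓕.rees := by
    intro k
    refine mem_of_conductor 𝓕 hfg h q hq (y.coeff k) k (fun d hd => ?_) (fun m hm d hd => ?_)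
    · have := hPy _ (hd : algebraMap A 𝓕.rees d ∈ P) k
      simpa using this
    · have := hPy _ (h1 m hm d hd) (k + m)
      rw [mul_comm d]
      simpa [Polynomial.monomial_mul_X_pow, mul_comm (Polynomial.monomial m d),
        Polynomial.coeff_mul_monomial] using this
  refine ⟨algebraMap A 𝓕.rees t0 * s, fun hc => ((‹P.IsPrime›).mem_or_mem hc).elim ht0 hs, ⟨y, hyR⟩,
    Subtype.ext ?_⟩
  show Polynomial.C t0 * (s : A[X]) * (x : A[X]) = Polynomial.C a * y
  rw [mul_assoc]
  exact hy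

/-- `(S₂)` for the Rees algebra. -/
theorem hasSk_rees [IsLocalRing A] (hfg : Algebra.FiniteType A 𝓕.rees)
    (h : LocCoh.HasSk 2 𝓕.extRees 𝓕.extRees) (hht : 2 ≤ (𝓕.F 1).height) :
    LocCoh.HasSk 2 𝓕.rees 𝓕.rees := by
  haveI : IsNoetherianRing 𝓕.rees := Algebra.FiniteType.isNoetherianRing A _
  have hA : LocCoh.HasSk 2 A A := ((sk_iff 𝓕 1 hfg).1 h).2
  rw [Sn.hasSk_iff]
  intro P _
  by_cases hc : ∃ n, 1 ≤ n ∧ ∃ (a : A) (ha : a ∈ 𝓕.F n), (⟨_, monomial_mem 𝓕 ha⟩ : 𝓕.rees) ∉ P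
  · obtain ⟨n, hn, a, ha, hP⟩ := hc
    obtain ⟨Q, _, ⟨e⟩⟩ := local_equiv_pos 𝓕 hn ha P hP
    exact Sn.isoInvariant 2 _ _ e ((Sn.hasSk_iff 2 _).1 h Q)
  push Not at hc
  by_cases hb : ∃ b ∈ 𝓕.F 1, algebraMap A 𝓕.rees b ∉ P
  · obtain ⟨b, hb, hP⟩ := hb
    obtain ⟨Q, _, ⟨e⟩⟩ := local_equiv_base 𝓕 hb P hP
    refine Sn.isoInvariant 2 _ _ e ((Sn.hasSk_iff 2 A[X]).1 (Sn.of_fibres 2 A A[X] hA fun p _ => ?_) Q)
    haveI : LocCoh.IsCohenMacaulayLocalRing p.ResidueField :=
      CM.isCohenMacaulayLocalRing_iff.2 ((ringKrullDim_eq_zero_of_field _).le.trans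
        (WithBot.coe_le_coe.2 bot_le))
    haveI : LocCoh.IsCohenMacaulayRing p.ResidueField :=
      { isCohenMacaulayLocalRing_localization := fun q _ => CM.isCohenMacaulayLocalRing_localization q }
    haveI := Groth.Agent.H18.CMPoly.polynomial (R := p.ResidueField)
    exact Sn.isoInvariant_ring 2 p.ResidueField[X] _ (polyEquivTensor' A p.ResidueField).toRingEquiv
      (SnTensor.hasSk_of_isCohenMacaulayRing 2 _ inferInstance)
  push Not at hb
  exact ⟨inferInstance, (min_le_left _ _).trans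
    (WithBot.coe_le_coe.2 (two_le_depth_rees 𝓕 hfg h hA hht P hc hb))⟩

end Rees

end Groth.Agent.H2.ExtRees
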