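import Groth.Agent.H2.ExtRees
import Mathlib

/-!
# Factoriality of extended Rees algebras
-/

set_option autoImplicit false
set_option linter.style.haveILetI false
set_option linter.unusedSectionVars false

universe u

open IsLocalRing Polynomial
open scoped LaurentPolynomial

namespace Groth.Agent.H2.ExtRees

variable {A : Type u} [CommRing A] [IsDomain A] (𝓕 : FiltBl.IdealFiltration A)

theorem laurent_unit {x : A[T;T⁻¹]} (hx : IsUnit x) :
    ∃ (c : A) (i : ℤ), IsUnit c ∧ x = LaurentPolynomial.C c * LaurentPolynomial.T i := by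
  obtain ⟨y, hxy⟩ := hx.exists_right_inv
  obtain ⟨N, f, hf⟩ := LaurentPolynomial.exists_T_pow x
  obtain ⟨M, g, hg⟩ := LaurentPolynomial.exists_T_pow y
  have hfg : f * g = X ^ (N + M) := by
    apply Polynomial.toLaurent_injective
    rw [map_mul, hf, hg, Polynomial.toLaurent_X_pow, mul_mul_mul_comm, hxy, one_mul,
      ← LaurentPolynomial.T_add]
    simp
  obtain ⟨i, -, hi⟩ := (dvd_prime_pow Polynomial.prime_X (N + M)).1 ⟨g, hfg.symm⟩
  obtain ⟨v, hv⟩ := hi.symm
  obtain ⟨c, hc, hcv⟩ := Polynomial.isUnit_iff.1 v.isUnit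
  refine ⟨c, (i : ℤ) - N, hc, ?_⟩
  have h : x * LaurentPolynomial.T (N : ℤ) = LaurentPolynomial.C c * LaurentPolynomial.T (i : ℤ) := by
    rw [← hf, ← hv, ← hcv, mul_comm, Polynomial.toLaurent_C_mul_X_pow]
  calc x = x * LaurentPolynomial.T (N : ℤ) * LaurentPolynomial.T (-(N : ℤ)) := by
        rw [LaurentPolynomial.mul_T_assoc]; simp
    _ = _ := by rw [h, LaurentPolynomial.mul_T_assoc, sub_eq_add_neg]

variable [IsNoetherianRing A] [IsLocalRing A]

theorem F_le_maximalIdeal (hsep : ⨅ n, 𝓕.F n = ⊥) {n : ℕ} (hn : 1 ≤ n) : 𝓕.F n ≤ maximalIdeal A := by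
  refine (𝓕.antitone hn).trans (IsLocalRing.le_maximalIdeal fun h => ?_)
  have hall : ∀ n, 𝓕.F n = ⊤ := by
    intro n
    induction n with
    | zero => exact 𝓕.zero_eq
    | succ n ih =>
      refine top_le_iff.1 (le_trans ?_ (𝓕.mul_le n 1))
      rw [ih, h, Ideal.top_mul]
  simp [hall] at hsep

/-- `u` is irreducible. -/
theorem irreducible_u (hsep : ⨅ n, 𝓕.F n = ⊥) : Irreducible 𝓕.u := by
  -- units of `A[T, T⁻¹]` in `R'` have nonpositive degree
  have deg_le : ∀ (z : 𝓕.extRees) (c : A) (i : ℤ), IsUnit c →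
      (z : A[T;T⁻¹]) = LaurentPolynomial.C c * LaurentPolynomial.T i → i ≤ 0 := by
    intro z c i hc hz
    by_contra hi
    have h := z.2 i
    rw [hz, ← LaurentPolynomial.single_eq_C_mul_T, AddMonoidAlgebra.coeff_single,
      Finsupp.single_eq_same] at h
    exact (F_le_maximalIdeal 𝓕 hsep (by omega) h) hc
  constructor
  · intro hu
    obtain ⟨y, hy⟩ := hu.exists_right_inv
    have h : (y : A[T;T⁻¹]) = LaurentPolynomial.C 1 * LaurentPolynomial.T 1 := by
      have h' : LaurentPolynomial.T (-1) * (y : A[T;T⁻¹]) = 1 := congrArg Subtype.val hy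
      calc (y : A[T;T⁻¹]) = LaurentPolynomial.T 1 * (LaurentPolynomial.T (-1) * (y : A[T;T⁻¹])) := by
            rw [← mul_assoc, ← LaurentPolynomial.T_add, add_neg_cancel, LaurentPolynomial.T_zero, one_mul]
        _ = _ := by rw [h', mul_one, map_one, one_mul]
    exact absurd (deg_le y 1 1 isUnit_one h) (by omega)
  · intro a b hab
    have hab' : (a : A[T;T⁻¹]) * (b : A[T;T⁻¹]) = LaurentPolynomial.T (-1) :=
      (congrArg Subtype.val hab).symm
    have hu : IsUnit ((a : A[T;T⁻¹]) * (b : A[T;T⁻¹])) := by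
      rw [hab']; exact LaurentPolynomial.isUnit_T _
    obtain ⟨c, i, hc, hci⟩ := laurent_unit (isUnit_of_mul_isUnit_left hu)
    obtain ⟨d, j, hd, hdj⟩ := laurent_unit (isUnit_of_mul_isUnit_right hu)
    have hi := deg_le a c i hc hci
    have hj := deg_le b d j hd hdj
    have hij : i + j = -1 := by
      have h := congrArg (fun f : A[T;T⁻¹] => f.coeff (-1)) hab'
      rw [hci, hdj, mul_mul_mul_comm, ← map_mul, ← LaurentPolynomial.T_add,
        ← LaurentPolynomial.single_eq_C_mul_T] at h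
      by_contra hne
      rw [AddMonoidAlgebra.coeff_single, Finsupp.single_eq_of_ne (Ne.symm hne), LaurentPolynomial.T_apply,
        if_pos rfl] at h
      exact zero_ne_one h
    have key : ∀ (z : 𝓕.extRees) (e : A), IsUnit e →
        (z : A[T;T⁻¹]) = LaurentPolynomial.C e * LaurentPolynomial.T 0 → IsUnit z := by
      intro z e he hz
      have : z = algebraMap A 𝓕.extRees e := Subtype.ext (by
        rw [hz, LaurentPolynomial.T_zero, mul_one]; rfl)
      rw [this]
      exact he.map _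
    rcases (show i = 0 ∨ j = 0 by omega) with h | h
    · exact Or.inl (key a c hc (h ▸ hci))
    · exact Or.inr (key b d hd (h ▸ hdj))

theorem ufd_base_iff :
    UniqueFactorizationMonoid A ↔ UniqueFactorizationMonoid A[T;T⁻¹] := by
  rw [← UniqueFactorizationMonoid.iff_of_isLocalizationAway_of_prime
    (Polynomial.prime_X : Prime (X : A[X])) A[T;T⁻¹]]
  refine ⟨fun _ => inferInstance, fun h => ?_⟩
  refine ufm_of_wfDvd fun a ha => ?_
  have hC : Irreducible (Polynomial.C a) := by
    refine ⟨fun hu => ha.not_isUnit (Polynomial.isUnit_C.1 hu), fun p q hpq => ?_⟩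
    have hpq0 : p * q ≠ 0 := by rw [← hpq]; exact Polynomial.C_ne_zero.2 ha.ne_zero
    have hd : p.natDegree + q.natDegree = 0 := by
      rw [← Polynomial.natDegree_mul (left_ne_zero_of_mul hpq0) (right_ne_zero_of_mul hpq0), ← hpq,
        Polynomial.natDegree_C]
    have hp := Polynomial.eq_C_of_natDegree_eq_zero (show p.natDegree = 0 by omega)
    have hq := Polynomial.eq_C_of_natDegree_eq_zero (show q.natDegree = 0 by omega)
    rw [hp, hq, ← map_mul, Polynomial.C_inj] at hpq
    rw [hp, hq]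
    exact (ha.isUnit_or_isUnit hpq).imp (fun h => Polynomial.isUnit_C.2 h)
      (fun h => Polynomial.isUnit_C.2 h)
  exact Polynomial.prime_C_iff.1 (UniqueFactorizationMonoid.irreducible_iff_prime.1 hC)
where
  ufm_of_wfDvd (h : ∀ a : A, Irreducible a → Prime a) : UniqueFactorizationMonoid A :=
    haveI : WfDvdMonoid A := IsNoetherianRing.wfDvdMonoid
    { irreducible_iff_prime := fun {a} => ⟨h a, fun hp => hp.irreducible⟩ }

/-- `R'` is factorial iff `A` is and `Gr` is a domain. -/
theorem ufd_iff (hsep : ⨅ n, 𝓕.F n = ⊥) (hfg : Algebra.FiniteType A 𝓕.rees) [IsDomain 𝓕.extRees] :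
    UniqueFactorizationMonoid 𝓕.extRees ↔ (UniqueFactorizationMonoid A ∧ IsDomain 𝓕.Gr) := by
  haveI := isNoetherianRing_extRees 𝓕 hfg
  haveI := isAway 𝓕
  have hne : 𝓕.u ≠ 0 := (irreducible_u 𝓕 hsep).ne_zero
  have hdom : IsDomain 𝓕.Gr ↔ Prime 𝓕.u := by
    rw [← Ideal.span_singleton_prime hne]
    exact Ideal.Quotient.isDomain_iff_prime _
  rw [hdom]
  constructor
  · intro h
    have hp : Prime 𝓕.u := UniqueFactorizationMonoid.irreducible_iff_prime.1 (irreducible_u 𝓕 hsep)
    exact ⟨ufd_base_iff.2 ((UniqueFactorizationMonoid.iff_of_isLocalizationAway_of_prime hp A[T;T⁻¹]).1 h), hp⟩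
  · rintro ⟨hA, hp⟩
    exact (UniqueFactorizationMonoid.iff_of_isLocalizationAway_of_prime hp A[T;T⁻¹]).2
      (ufd_base_iff.1 hA)

end Groth.Agent.H2.ExtRees
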