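import Groth.Agent.H2.SectLim
import Groth.Agent.Lib.Adic.Complete
import Mathlib.RingTheory.Filtration
import Mathlib.RingTheory.Nakayama

/-!
# Colimit of sections near `V(f)` and limit of sections of `(M/f^n M)~`
-/

set_option autoImplicit false
set_option linter.style.haveILetI false

universe u

open CategoryTheory CategoryTheory.Limits AlgebraicGeometry TopologicalSpace Opposite
open Groth.Agent.H20.TildeSections (Sec res toU D res_toU res_res ext_of_generators basicOpen_le)
open Groth.Agent.H2.SectLim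

namespace Groth.Agent.H2.FormalColim

variable {A : Type u} [CommRing A] {M : Type u} [AddCommGroup M] [Module A M]

theorem mem_span_pow (f : A) (k : ℕ) (v : M) :
    v ∈ (Ideal.span {f}) ^ k • (⊤ : Submodule A M) ↔ ∃ w, f ^ k • w = v := by
  rw [show (Ideal.span {f}) ^ k • (⊤ : Submodule A M) = (Ideal.span {f ^ k}) • (⊤ : Submodule A M) by
      rw [Ideal.span_singleton_pow],
    Submodule.ideal_span_singleton_smul, Submodule.mem_smul_pointwise_iff_exists]
  simp

/-- Krull intersection at a prime containing `f`. -/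
theorem krull [IsNoetherianRing A] [Module.Finite A M] (f : A) (p : Ideal A) [p.IsPrime] (hfp : f ∈ p)
    (m : M) (h : ∀ n : ℕ, ∃ s ∉ p, ∃ w : M, s • m = f ^ n • w) : ∃ t ∉ p, t • m = 0 := by
  let Ap := Localization.AtPrime p
  let f' : Ap := algebraMap A Ap f
  have hne : Ideal.span {f'} ≠ ⊤ := by
    refine ne_top_of_le_ne_top (IsLocalRing.maximalIdeal.isMaximal Ap).ne_top ?_
    rw [Ideal.span_le, Set.singleton_subset_iff]
    exact (IsLocalization.AtPrime.to_map_mem_maximal_iff Ap p f).2 hfp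
  have hz : LocalizedModule.mk m 1 ∈
      (⨅ n : ℕ, (Ideal.span {f'}) ^ n • (⊤ : Submodule Ap (LocalizedModule p.primeCompl M))) := by
    refine Submodule.mem_iInf _ |>.2 fun n => ?_
    obtain ⟨s, hs, w, hw⟩ := h n
    have e : LocalizedModule.mk m (1 : p.primeCompl) =
        (f' ^ n) • LocalizedModule.mk w (⟨s, hs⟩ : p.primeCompl) := by
      rw [show f' ^ n = algebraMap A Ap (f ^ n) from (map_pow _ _ _).symm, algebraMap_smul,
        LocalizedModule.smul'_mk]
      exact LocalizedModule.mk_eq.2 ⟨1, by simp [Submonoid.smul_def, hw]⟩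
    rw [e]
    exact Submodule.smul_mem_smul (Ideal.pow_mem_pow (Ideal.mem_span_singleton_self f') n)
      Submodule.mem_top
  rw [Ideal.iInf_pow_smul_eq_bot_of_isLocalRing _ hne, Submodule.mem_bot,
    ← LocalizedModule.mkLinearMap_apply, IsLocalizedModule.eq_zero_iff p.primeCompl] at hz
  obtain ⟨⟨t, ht⟩, htm⟩ := hz
  exact ⟨t, ht, htm⟩

/-- Nakayama at a prime containing `f`. -/
theorem nakayama {Q : Type u} [AddCommGroup Q] [Module A Q] [Module.Finite A Q] (f : A) (p : Ideal A)
    [p.IsPrime] (hfp : f ∈ p) (h : ∀ q : Q, ∃ s ∉ p, ∃ q' : Q, s • q = f • q') (q : Q) :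
    ∃ s ∉ p, s • q = 0 := by
  let Ap := Localization.AtPrime p
  let f' : Ap := algebraMap A Ap f
  have hle : (⊤ : Submodule Ap (LocalizedModule p.primeCompl Q)) ≤ Ideal.span {f'} • ⊤ := by
    intro z _
    obtain ⟨q, u, rfl⟩ : ∃ (q : Q) (u : p.primeCompl), LocalizedModule.mk q u = z := by
      induction z using LocalizedModule.induction_on with
      | _ a b => exact ⟨a, b, rfl⟩
    obtain ⟨s, hs, q', hq⟩ := h q
    have e : LocalizedModule.mk q u = f' • LocalizedModule.mk q' (u * ⟨s, hs⟩) := by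
      rw [show f' = algebraMap A Ap f from rfl, algebraMap_smul, LocalizedModule.smul'_mk]
      exact LocalizedModule.mk_eq.2 ⟨1, by simp [Submonoid.smul_def, mul_smul, hq]⟩
    rw [e]
    exact Submodule.smul_mem_smul (Ideal.mem_span_singleton_self f') Submodule.mem_top
  haveI : Module.Finite Ap (LocalizedModule p.primeCompl Q) :=
    Module.Finite.of_isLocalizedModule p.primeCompl (LocalizedModule.mkLinearMap p.primeCompl Q)
  have hbot := Submodule.eq_bot_of_le_smul_of_le_jacobson_bot (Ideal.span {f'}) ⊤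
    Module.Finite.fg_top hle (by
      rw [IsLocalRing.jacobson_eq_maximalIdeal ⊥ bot_ne_top, Ideal.span_le, Set.singleton_subset_iff]
      exact (IsLocalization.AtPrime.to_map_mem_maximal_iff Ap p f).2 hfp)
  have hz : LocalizedModule.mk q (1 : p.primeCompl) ∈ (⊤ : Submodule Ap (LocalizedModule p.primeCompl Q)) :=
    Submodule.mem_top
  rw [hbot, Submodule.mem_bot, ← LocalizedModule.mkLinearMap_apply,
    IsLocalizedModule.eq_zero_iff p.primeCompl] at hz
  obtain ⟨⟨t, ht⟩, htm⟩ := hz
  exact ⟨t, ht, htm⟩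

/-! ### The levels -/

variable (f : A) (M)

/-- `M/f^(n+1)M`. -/
abbrev Q (n : ℕ) : Type u := Formal2.quotPow A (Ideal.span {f}) M n

/-- The projection. -/
abbrev π (n : ℕ) : M →ₗ[A] Q M f n := Formal2.quotPowπ A (Ideal.span {f}) M n

/-- The transition map. -/
abbrev tr (n : ℕ) : Q M f (n + 1) →ₗ[A] Q M f n := Formal2.quotPowTrans A (Ideal.span {f}) M n

theorem tr_π (n : ℕ) : tr M f n ∘ₗ π M f (n + 1) = π M f n :=
  LinearMap.ext fun m => by simp [Formal2.quotPowTrans, Submodule.mapQ_apply]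

/-- The reduction modulo `f`. -/
noncomputable def q (n : ℕ) : Q M f n →ₗ[A] M ⧸ (Ideal.span {f} • (⊤ : Submodule A M)) :=
  Submodule.mapQ _ _ LinearMap.id (by
    rw [Submodule.comap_id]
    refine Submodule.smul_mono_left ?_
    exact Ideal.pow_le_self (Nat.succ_ne_zero n))

theorem q_π (n : ℕ) (m : M) : q M f n (π M f n m) = Submodule.Quotient.mk m := by
  simp [q, Submodule.mapQ_apply]

/-- Multiplication by `f` between successive levels. -/
noncomputable def φ (n : ℕ) : Q M f n →ₗ[A] Q M f (n + 1) :=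
  Submodule.mapQ _ _ (f • LinearMap.id) fun v hv => by
    obtain ⟨w, rfl⟩ := (mem_span_pow f _ v).1 hv
    refine Submodule.mem_comap.2 ((mem_span_pow f _ _).2 ⟨w, ?_⟩)
    rw [LinearMap.smul_apply, LinearMap.id_apply, smul_smul, ← pow_succ']

theorem φ_π (n : ℕ) (m : M) : φ M f n (π M f n m) = π M f (n + 1) (f • m) := by
  simp [φ, Submodule.mapQ_apply]

theorem tr_φ (n : ℕ) : tr M f n ∘ₗ φ M f n = f • LinearMap.id := LinearMap.ext fun z => by
  obtain ⟨m, rfl⟩ := Submodule.Quotient.mk_surjective _ z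
  show tr M f n (φ M f n (π M f n m)) = f • π M f n m
  rw [φ_π, ← LinearMap.comp_apply (g := π M f (n + 1)) (f := tr M f n), tr_π, map_smul]

theorem φ_tr (n : ℕ) : φ M f n ∘ₗ tr M f n = f • LinearMap.id := LinearMap.ext fun z => by
  obtain ⟨m, rfl⟩ := Submodule.Quotient.mk_surjective _ z
  show φ M f n (tr M f n (π M f (n + 1) m)) = f • π M f (n + 1) m
  rw [← LinearMap.comp_apply (g := π M f (n + 1)) (f := tr M f n), tr_π, φ_π, map_smul]

theorem tr_φ_succ (n : ℕ) : φ M f n ∘ₗ tr M f n = tr M f (n + 1) ∘ₗ φ M f (n + 1) := by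
  rw [φ_tr, tr_φ]

theorem q_tr (n : ℕ) : q M f n ∘ₗ tr M f n = q M f (n + 1) := LinearMap.ext fun z => by
  obtain ⟨m, rfl⟩ := Submodule.Quotient.mk_surjective _ z
  show q M f n (tr M f n (π M f (n + 1) m)) = q M f (n + 1) (π M f (n + 1) m)
  rw [← LinearMap.comp_apply (g := π M f (n + 1)) (f := tr M f n), tr_π, q_π, q_π]

theorem q_zero_injective : Function.Injective (q M f 0) := by
  refine (injective_iff_map_eq_zero _).2 fun z hz => ?_
  obtain ⟨m, rfl⟩ := Submodule.Quotient.mk_surjective _ z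
  rw [show q M f 0 (Submodule.Quotient.mk m) = Submodule.Quotient.mk m from q_π M f 0 m,
    Submodule.Quotient.mk_eq_zero] at hz
  rw [Submodule.Quotient.mk_eq_zero, zero_add, pow_one]
  exact hz

theorem killed (n : ℕ) (z : Q M f n) : f ^ (n + 1) • z = 0 := by
  obtain ⟨m, rfl⟩ := Submodule.Quotient.mk_surjective _ z
  rw [← Submodule.Quotient.mk_smul, Submodule.Quotient.mk_eq_zero]
  exact (mem_span_pow f _ _).2 ⟨m, rfl⟩

variable {M f}

theorem φ_injective (hreg : IsSMulRegular M f) (n : ℕ) : Function.Injective (φ M f n) := by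
  refine (injective_iff_map_eq_zero _).2 fun z hz => ?_
  obtain ⟨m, rfl⟩ := Submodule.Quotient.mk_surjective _ z
  rw [show φ M f n (Submodule.Quotient.mk m) = Submodule.Quotient.mk (f • m) from φ_π M f n m,
    Submodule.Quotient.mk_eq_zero, mem_span_pow] at hz
  obtain ⟨w, hw⟩ := hz
  rw [Submodule.Quotient.mk_eq_zero, mem_span_pow]
  refine ⟨w, hreg ?_⟩
  show f • (f ^ (n + 1) • w) = f • m
  rw [← hw, smul_smul, ← pow_succ']

theorem φ_exact (n : ℕ) : Function.Exact (φ M f n) (q M f (n + 1)) := by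
  intro z
  obtain ⟨m, rfl⟩ := Submodule.Quotient.mk_surjective _ z
  rw [show q M f (n + 1) (Submodule.Quotient.mk m) = Submodule.Quotient.mk m from q_π M f _ m,
    Submodule.Quotient.mk_eq_zero]
  constructor
  · intro h
    rw [← pow_one (Ideal.span {f}), mem_span_pow] at h
    obtain ⟨w, hw⟩ := h
    refine ⟨π M f n w, ?_⟩
    rw [φ_π, ← pow_one f, hw]
    rfl
  · rintro ⟨x, hx⟩
    obtain ⟨w, rfl⟩ := Submodule.Quotient.mk_surjective _ x
    rw [show φ M f n (Submodule.Quotient.mk w) = Submodule.Quotient.mk (f • w) from φ_π M f n w,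
      Submodule.Quotient.eq] at hx
    obtain ⟨v, hv⟩ := (mem_span_pow f _ _).1 hx
    rw [← pow_one (Ideal.span {f}), mem_span_pow]
    refine ⟨w - f ^ (n + 1) • v, ?_⟩
    rw [pow_one, smul_sub, smul_smul, ← pow_succ', hv, sub_sub_cancel]

/-! ### The limit of sections -/

variable (M f) (U : (Spec (CommRingCat.of A)).Opens)

/-- Compatible families of sections. -/
def lim : Submodule A (∀ n, S (Q M f n) U) where
  carrier := {y | ∀ n, smap (tr M f n) U (y (n + 1)) = y n}
  add_mem' := fun {a b} ha hb n => by rw [Pi.add_apply, map_add, ha n, hb n, Pi.add_apply]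
  zero_mem' := fun n => by rw [Pi.zero_apply, map_zero, Pi.zero_apply]
  smul_mem' := fun c y hy n => by rw [Pi.smul_apply, map_smul, hy n, Pi.smul_apply]

/-- The canonical map to the limit. -/
noncomputable def ι : M →ₗ[A] lim M f U :=
  LinearMap.codRestrict _ (LinearMap.pi fun n => toU (ModuleCat.of A (Q M f n)) U ∘ₗ π M f n) fun m n => by
    show smap (tr M f n) U (toU (ModuleCat.of A (Q M f (n + 1))) U (π M f (n + 1) m)) = _
    rw [smap_toU, ← LinearMap.comp_apply (g := π M f (n + 1)) (f := tr M f n), tr_π]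
    rfl

theorem ι_apply (m : M) (n : ℕ) :
    ((ι M f U m : lim M f U) : ∀ n, S (Q M f n) U) n = toU (ModuleCat.of A (Q M f n)) U (π M f n m) :=
  rfl

/-- The first component. -/
noncomputable def pr : lim M f U →ₗ[A] S (M ⧸ (Ideal.span {f} • (⊤ : Submodule A M))) U :=
  smap (q M f 0) U ∘ₗ LinearMap.proj 0 ∘ₗ (lim M f U).subtype

theorem pr_apply (y : lim M f U) (n : ℕ) : pr M f U y = smap (q M f n) U (y.1 n) := by
  induction n with
  | zero => rfl
  | succ n ih => rw [ih, ← y.2 n, smap_comp, q_tr]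

variable {M f}

theorem exists_div (hreg : IsSMulRegular M f) (y : lim M f U) (h : pr M f U y = 0) :
    ∃ z : lim M f U, y = f • z := by
  have h' : ∀ n, ∃ z, smap (φ M f n) U z = y.1 (n + 1) := fun n =>
    smap_exact (φ_injective hreg n) (φ_exact n) U ((pr_apply M f U y (n + 1)).symm.trans h)
  choose z hz using h'
  have hmem : z ∈ lim M f U := fun n => by
    refine smap_injective (φ_injective hreg n) U ?_
    rw [hz, smap_comp, tr_φ_succ, ← smap_comp, hz, y.2]
  refine ⟨⟨z, hmem⟩, Subtype.ext (funext fun n => ?_)⟩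
  show y.1 n = f • z n
  rw [← y.2 n, ← hz, smap_comp, tr_φ, smap_smul_id]

theorem lim_finite [IsNoetherianRing A] [IsAdicComplete (Ideal.span {f}) A] (hreg : IsSMulRegular M f)
    [Module.Finite A (S (M ⧸ (Ideal.span {f} • (⊤ : Submodule A M))) U)] :
    Module.Finite A (lim M f U) := by
  classical
  obtain ⟨d, g, hg⟩ : ∃ (d : ℕ) (g : Fin d → (LinearMap.range (pr M f U))),
      Submodule.span A (Set.range g) = ⊤ := Module.Finite.exists_fin
  choose l hl using fun i => (g i).2
  have hdec : ∀ y : lim M f U, ∃ (c : Fin d → A) (z : lim M f U), y = ∑ i, c i • l i + f • z := by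
    intro y
    have h0 : (⟨pr M f U y, LinearMap.mem_range_self _ y⟩ : LinearMap.range (pr M f U)) ∈
        Submodule.span A (Set.range g) := hg.ge Submodule.mem_top
    obtain ⟨c, hc⟩ := Submodule.mem_span_range_iff_exists_fun A |>.1 h0
    obtain ⟨z, hz⟩ := exists_div U hreg (y - ∑ i, c i • l i) (by
      rw [map_sub, map_sum, sub_eq_zero]
      refine (congrArg Subtype.val hc).symm.trans ?_
      rw [Submodule.coe_sum]
      exact Finset.sum_congr rfl fun i _ => by rw [map_smul, hl]; rfl)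
    exact ⟨c, z, eq_add_of_sub_eq' hz⟩
  choose c z hcz using hdec
  refine ⟨Submodule.fg_def.2 ⟨Set.range l, Set.finite_range l, ?_⟩⟩
  refine eq_top_iff.2 fun y _ => ?_
  let Y : ℕ → lim M f U := fun k => z^[k] y
  let C : Fin d → ℕ → A := fun i N => ∑ k ∈ Finset.range N, f ^ k * c (Y k) i
  have hY : ∀ N, y = ∑ i, C i N • l i + f ^ N • Y N := by
    intro N
    induction N with
    | zero => simp [C, Y]
    | succ N ih =>
      have e : f ^ N • Y N = ∑ i, (f ^ N * c (Y N) i) • l i + f ^ (N + 1) • Y (N + 1) := by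
        conv_lhs => rw [hcz (Y N)]
        rw [smul_add, Finset.smul_sum, smul_smul, ← pow_succ]
        simp only [Y, Function.iterate_succ', Function.comp_apply, smul_smul]
      rw [ih, e, ← add_assoc, ← Finset.sum_add_distrib]
      congr 1
      exact Finset.sum_congr rfl fun i _ => by
        rw [← add_smul]
        congr 1
        simp only [C, Finset.sum_range_succ]
  have hex : ∀ i, ∃ L : A, ∀ N, C i N ≡ L [SMOD ((Ideal.span {f}) ^ N • ⊤ : Submodule A A)] := fun i =>
    IsPrecomplete.prec (IsAdicComplete.toIsPrecomplete (I := Ideal.span {f}) (M := A)) fun {m n} hmn => by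
      rw [SModEq.sub_mem, mem_span_pow]
      obtain ⟨e, rfl⟩ := Nat.exists_eq_add_of_le hmn
      refine ⟨-∑ k ∈ Finset.range e, f ^ k * c (Y (m + k)) i, ?_⟩
      simp only [C, Finset.sum_range_add, sub_add_cancel_left, smul_eq_mul]
      rw [mul_neg, Finset.mul_sum]
      congr 1
      exact Finset.sum_congr rfl fun k _ => by rw [pow_add]; ring
  choose L hL using hex
  refine (Submodule.mem_span_range_iff_exists_fun A).2 ⟨L, Subtype.ext (funext fun n => ?_)⟩
  have hn := congrArg (fun v : lim M f U => (v : ∀ n, S (Q M f n) U) n) (hY (n + 1))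
  simp only [Submodule.coe_add, Submodule.coe_sum, Submodule.coe_smul, Pi.add_apply, Pi.smul_apply,
    Finset.sum_apply, smul_eq_zero_of_killed _ (killed M f n), add_zero] at hn
  rw [Submodule.coe_sum, Finset.sum_apply, hn]
  refine Finset.sum_congr rfl fun i _ => ?_
  obtain ⟨w, hw⟩ := (mem_span_pow f _ _).1 (SModEq.sub_mem.1 (hL i (n + 1)))
  rw [Submodule.coe_smul, Pi.smul_apply, ← sub_eq_zero, ← sub_smul,
    show L i - C i (n + 1) = -(C i (n + 1) - L i) by ring, ← hw, smul_eq_mul, neg_smul, mul_comm, mul_smul,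
    smul_eq_zero_of_killed _ (killed M f n), smul_zero, neg_zero]

theorem pr_ι (m : M) : pr M f U (ι M f U m) =
    toU (ModuleCat.of A (M ⧸ (Ideal.span {f} • (⊤ : Submodule A M)))) U (Submodule.Quotient.mk m) := by
  show smap (q M f 0) U (toU (ModuleCat.of A (Q M f 0)) U (π M f 0 m)) = _
  rw [smap_toU, q_π]

/-- Clearing denominators in a section. -/
theorem exists_pow_smul_eq [IsNoetherianRing A] {N : Type u} [AddCommGroup N] [Module A N]
    {g : A} (hgU : D g ≤ U) (y : S N U) :
    ∃ (k : ℕ) (m : N), g ^ k • y = toU (ModuleCat.of A N) U m := by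
  haveI := Groth.Agent.H20.TildeSections.isLocalizedModule_toU (ModuleCat.of A N) g
  obtain ⟨⟨m, ⟨_, k, rfl⟩⟩, hk⟩ := IsLocalizedModule.surj (Submonoid.powers g)
    (toU (ModuleCat.of A N) (D g)) (res (ModuleCat.of A N) hgU y)
  replace hk : g ^ k • res (ModuleCat.of A N) hgU y = toU (ModuleCat.of A N) (D g) m := hk
  obtain ⟨j, hj⟩ := Groth.Agent.H20.TildeSections.exists_pow_smul (ModuleCat.of A N)
    (g ^ k • y - toU (ModuleCat.of A N) U m) hgU (by rw [map_sub, map_smul, res_toU, hk, sub_self])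
  refine ⟨j + k, g ^ j • m, ?_⟩
  rw [smul_sub, sub_eq_zero, smul_smul, ← pow_add] at hj
  rw [hj]
  exact (map_smul (toU (ModuleCat.of A N) U) (g ^ j) m).symm

theorem exists_mem_range [IsNoetherianRing A] [IsAdicComplete (Ideal.span {f}) A] (hreg : IsSMulRegular M f)
    [Module.Finite A (S (M ⧸ (Ideal.span {f} • (⊤ : Submodule A M))) U)] (p : PrimeSpectrum A)
    (hfp : f ∈ p.asIdeal) (hp : p ∈ U) (y : lim M f U) :
    ∃ s ∉ p.asIdeal, ∃ m, s • y = ι M f U m := by
  haveI := lim_finite U hreg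
  obtain ⟨g, hgU, hgp⟩ := exists_basic hp
  have hstep : ∀ q' : lim M f U ⧸ LinearMap.range (ι M f U),
      ∃ s ∉ p.asIdeal, ∃ q'', s • q' = f • q'' := fun q' => by
    obtain ⟨y, rfl⟩ := Submodule.Quotient.mk_surjective _ q'
    obtain ⟨k, m0, hk⟩ := exists_pow_smul_eq U hgU (pr M f U y)
    obtain ⟨m, rfl⟩ := Submodule.Quotient.mk_surjective _ m0
    obtain ⟨z, hz⟩ := exists_div U hreg (g ^ k • y - ι M f U m) (by
      rw [map_sub, map_smul, pr_ι, hk, sub_self])
    refine ⟨g ^ k, fun h => hgp (p.isPrime.mem_of_pow_mem _ h), Submodule.Quotient.mk z, ?_⟩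
    rw [← Submodule.Quotient.mk_smul, ← Submodule.Quotient.mk_smul, Submodule.Quotient.eq]
    exact ⟨m, by rw [← hz, sub_sub_cancel]⟩
  obtain ⟨s, hs, hsy⟩ := nakayama f p.asIdeal hfp hstep (Submodule.Quotient.mk y)
  rw [← Submodule.Quotient.mk_smul, Submodule.Quotient.mk_eq_zero] at hsy
  obtain ⟨m, hm⟩ := hsy
  exact ⟨s, hs, m, hm.symm⟩

theorem exists_kill_ker [IsNoetherianRing A] [Module.Finite A M] (p : PrimeSpectrum A)
    (hfp : f ∈ p.asIdeal) (hp : p ∈ U) :
    ∃ t ∉ p.asIdeal, ∀ m, ι M f U m = 0 → t • m = 0 := by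
  classical
  obtain ⟨g, hgU, hgp⟩ := exists_basic hp
  have h1 : ∀ m, ι M f U m = 0 → ∃ t ∉ p.asIdeal, t • m = 0 := fun m hm => by
    refine krull f p.asIdeal hfp m fun n => ?_
    rcases Nat.eq_zero_or_pos n with rfl | hn
    · exact ⟨1, fun h => p.isPrime.ne_top ((Ideal.eq_top_iff_one _).2 h), m, by simp⟩
    obtain ⟨n, rfl⟩ := Nat.exists_eq_add_of_le' hn
    have h0 : toU (ModuleCat.of A (Q M f n)) (D g) (π M f n m) = 0 := by
      rw [← res_toU (ModuleCat.of A (Q M f n)) hgU, ← ι_apply, hm]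
      exact map_zero _
    haveI := Groth.Agent.H20.TildeSections.isLocalizedModule_toU (ModuleCat.of A (Q M f n)) g
    obtain ⟨⟨_, k, rfl⟩, hk⟩ := (IsLocalizedModule.eq_zero_iff (Submonoid.powers g) _).1 h0
    replace hk : g ^ k • π M f n m = 0 := hk
    rw [← map_smul] at hk
    obtain ⟨w, hw⟩ := (mem_span_pow f _ _).1 ((Submodule.Quotient.mk_eq_zero _).1 hk)
    exact ⟨g ^ k, fun h => hgp (p.isPrime.mem_of_pow_mem _ h), w, hw.symm⟩
  obtain ⟨G, hG⟩ : (LinearMap.ker (ι M f U)).FG := IsNoetherian.noetherian _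
  choose t ht htm using fun m : G => h1 m.1 (LinearMap.mem_ker.1 (hG ▸ Submodule.subset_span m.2))
  refine ⟨∏ m, t m, fun h => ?_, fun m hm => ?_⟩
  · obtain ⟨m, -, hm⟩ := p.isPrime.prod_mem_iff.1 h
    exact ht m hm
  · have hm' : m ∈ Submodule.span A (G : Set M) := hG ▸ (LinearMap.mem_ker.2 hm)
    refine LinearMap.mem_ker.1 (Submodule.span_le.2 (fun x hx => ?_) hm' :
      m ∈ LinearMap.ker ((∏ m, t m) • (LinearMap.id : M →ₗ[A] M)))
    rw [SetLike.mem_coe, LinearMap.mem_ker, LinearMap.smul_apply, LinearMap.id_apply,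
      ← Finset.mul_prod_erase Finset.univ t (Finset.mem_univ ⟨x, hx⟩), mul_comm, mul_smul, htm ⟨x, hx⟩,
      smul_zero]

end Groth.Agent.H2.FormalColim
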