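import Groth.Agent.H2.FormalColim

/-!
# The colimit of sections near `V(f)` is the limit of sections of the levels
-/

set_option autoImplicit false
set_option linter.style.haveILetI false

universe u

open CategoryTheory CategoryTheory.Limits AlgebraicGeometry TopologicalSpace Opposite
open Groth.Agent.H20.TildeSections (Sec res toU D res_toU res_res ext_of_generators basicOpen_le)
open Groth.Agent.H2.SectLim Groth.Agent.H2.FormalColim

namespace Groth.Agent.H2.FormalColimMain

variable {A : Type u} [CommRing A] {M : Type u} [AddCommGroup M] [Module A M] {f : A}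

/-- Degree zero cohomology as sections. -/
noncomputable def ev (N : Type u) [AddCommGroup N] [Module A N] (V : (Spec (CommRingCat.of A)).Opens) :
    Formal2.HV A N 0 V ≃+ S N V :=
  Groth.Agent.Lib.Koszul.Stable.Supp.e0 (X := (Spec (CommRingCat.of A)).toPresheafedSpace.carrier)
    ((Groth.Agent.Lib.PuncturedLC.G A).obj (ModuleCat.of A N)) V

theorem ev_res (N : Type u) [AddCommGroup N] [Module A N] {V W : (Spec (CommRingCat.of A)).Opens}
    (h : W ≤ V) (x : Formal2.HV A N 0 V) :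
    ev N W (Formal2.HVres A N 0 h x) = res (ModuleCat.of A N) h (ev N V x) :=
  Groth.Agent.Lib.Koszul.Stable.Supp.e0_pre
    (X := (Spec (CommRingCat.of A)).toPresheafedSpace.carrier) _ h x

open CategoryTheory.Abelian in
theorem ev_map {N P : Type u} [AddCommGroup N] [Module A N] [AddCommGroup P] [Module A P]
    (φ : N →ₗ[A] P) (V : (Spec (CommRingCat.of A)).Opens) (x : Formal2.HV A N 0 V) :
    ev P V (Formal2.HVmap A φ 0 V x) = smap φ V (ev N V x) := by
  let F := (Groth.Agent.Lib.PuncturedLC.G A).obj (ModuleCat.of A P)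
  obtain ⟨h, hh⟩ := (Ext.mk₀_bijective _ _).2 x
  rw [← hh]
  show Groth.Agent.Lib.Koszul.Stable.Supp.homSect F V
      (Ext.addEquiv₀ ((Ext.mk₀ h).comp (Ext.mk₀ _) (add_zero 0))) =
    smap φ V (Groth.Agent.Lib.Koszul.Stable.Supp.homSect _ V (Ext.addEquiv₀ (Ext.mk₀ h)))
  refine ((congrArg (fun z => Groth.Agent.Lib.Koszul.Stable.Supp.homSect F V (Ext.addEquiv₀ z))
    (Ext.mk₀_comp_mk₀ h _)).trans
    (congrArg (Groth.Agent.Lib.Koszul.Stable.Supp.homSect F V) (Ext.addEquiv₀.apply_symm_apply _))).trans ?_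
  refine Eq.trans ?_ (congrArg (fun z => smap φ V (Groth.Agent.Lib.Koszul.Stable.Supp.homSect _ V z))
    (Ext.addEquiv₀.apply_symm_apply h).symm)
  rfl

theorem inj_part [IsNoetherianRing A] [Module.Finite A M] {U V : (Spec (CommRingCat.of A)).Opens}
    (hV : Formal2.Admissible A (Ideal.span {f}) U V) (x : S M V)
    (h : ∀ n, smap (π M f n) V x = 0) :
    ∃ (V' : (Spec (CommRingCat.of A)).Opens) (hV' : Formal2.Admissible A (Ideal.span {f}) U V' ∧ V' ≤ V),
      res (ModuleCat.of A M) hV'.2 x = 0 := by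
  let G : Set A := {r | ∃ hr : D r ≤ V, res (ModuleCat.of A M) hr x = 0}
  let V' : (Spec (CommRingCat.of A)).Opens := ⨆ r : G, D r.1
  have hle : V' ≤ V := iSup_le fun r => r.2.1
  refine ⟨V', ⟨⟨hle.trans hV.1, fun p hpU hpI => ?_⟩, hle⟩, ?_⟩
  · have hfp : f ∈ p.asIdeal := hpI (Ideal.mem_span_singleton_self f)
    obtain ⟨g, hgV, hgp⟩ := exists_basic (hV.2 p hpU hpI)
    haveI := Groth.Agent.H20.TildeSections.isLocalizedModule_toU (ModuleCat.of A M) g
    obtain ⟨⟨m, ⟨_, k, rfl⟩⟩, hk⟩ := IsLocalizedModule.surj (Submonoid.powers g)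
      (toU (ModuleCat.of A M) (D g)) (res (ModuleCat.of A M) hgV x)
    replace hk : g ^ k • res (ModuleCat.of A M) hgV x = toU (ModuleCat.of A M) (D g) m := hk
    haveI : p.asIdeal.IsPrime := p.isPrime
    obtain ⟨t, ht, htm⟩ : ∃ t ∉ p.asIdeal, t • m = 0 := krull f p.asIdeal hfp m fun n => by
      rcases Nat.eq_zero_or_pos n with rfl | hn
      · exact ⟨1, fun h => p.isPrime.ne_top ((Ideal.eq_top_iff_one _).2 h), m, by simp⟩
      obtain ⟨n, rfl⟩ := Nat.exists_eq_add_of_le' hn
      have h0 : toU (ModuleCat.of A (Q M f n)) (D g) (π M f n m) = 0 := by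
        rw [← smap_toU, ← hk, map_smul, smap_res, h n, map_zero]
        exact smul_zero _
      haveI := Groth.Agent.H20.TildeSections.isLocalizedModule_toU (ModuleCat.of A (Q M f n)) g
      obtain ⟨⟨_, j, rfl⟩, hj⟩ := (IsLocalizedModule.eq_zero_iff (Submonoid.powers g) _).1 h0
      replace hj : g ^ j • π M f n m = 0 := hj
      rw [← map_smul] at hj
      obtain ⟨w, hw⟩ := (mem_span_pow f _ _).1 ((Submodule.Quotient.mk_eq_zero _).1 hj)
      exact ⟨g ^ j, fun h => hgp (p.isPrime.mem_of_pow_mem _ h), w, hw.symm⟩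
    have hle1 : D (g * t) ≤ D g := PrimeSpectrum.basicOpen_mul_le_left g t
    have hmem : g * t ∈ G := by
      refine ⟨hle1.trans hgV, ?_⟩
      have e : (g * t) ^ (k + 1) • res (ModuleCat.of A M) (hle1.trans hgV) x = 0 := by
        rw [show (g * t) ^ (k + 1) = (g * t ^ k) * t * g ^ k by ring, mul_smul, mul_smul,
          ← res_res (ModuleCat.of A M) hgV hle1, ← map_smul, hk, res_toU]
        rw [← map_smul, htm]
        exact (congrArg _ (map_zero _)).trans (smul_zero _)
      exact Groth.Agent.H20.TildeSections.eq_zero_of_le_basicOpen (ModuleCat.of A M) rfl _ e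
    exact Opens.mem_iSup.2 ⟨⟨g * t, hmem⟩, fun h => (p.isPrime.mem_or_mem h).elim hgp ht⟩
  · refine ext_of_generators (ModuleCat.of A M) _ _ G (fun r hr => le_iSup (fun r : G => D r.1) ⟨r, hr⟩)
      (fun p hp => ?_) fun r hr => ?_
    · obtain ⟨r, hr⟩ := Opens.mem_iSup.1 hp
      exact ⟨r.1, r.2, hr⟩
    · rw [res_res, map_zero]
      exact hr.2

theorem glue_compat {V W O : (Spec (CommRingCat.of A)).Opens} (hV : O ≤ V) (hW : O ≤ W)
    {a b : A} (hOa : O ≤ D a) (hOb : O ≤ D b) (m m' : M) (key : a • b • m = a • a • m')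
    (x : S M V) (x' : S M W) (hx : a • x = toU (ModuleCat.of A M) V m)
    (hx' : b • x' = toU (ModuleCat.of A M) W m') :
    res (ModuleCat.of A M) hV x = res (ModuleCat.of A M) hW x' := by
  have ei : a • res (ModuleCat.of A M) hV x = toU (ModuleCat.of A M) O m :=
    ((map_smul _ _ _).symm.trans (congrArg _ hx)).trans (res_toU _ _ _)
  have ej : b • res (ModuleCat.of A M) hW x' = toU (ModuleCat.of A M) O m' :=
    ((map_smul _ _ _).symm.trans (congrArg _ hx')).trans (res_toU _ _ _)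
  refine cancel (r := a) hOa (cancel (r := b) hOb (cancel (r := a) hOa ?_))
  have e2 : a • b • toU (ModuleCat.of A M) O m = a • a • toU (ModuleCat.of A M) O m' :=
    (((map_smul (toU (ModuleCat.of A M) O) a _).trans (congrArg _ (map_smul _ _ _))).symm.trans
      (congrArg (toU (ModuleCat.of A M) O) key)).trans
      ((map_smul (toU (ModuleCat.of A M) O) a _).trans (congrArg _ (map_smul _ _ _)))
  rw [smul_comm b a (res (ModuleCat.of A M) hW x'), ej, ei]
  exact e2

theorem level_eq {U V : (Spec (CommRingCat.of A)).Opens} (hVU : V ≤ U) {r : A} (hr : D r ≤ V)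
    (n : ℕ) (m : M) (X : S M V) (yn : S (Q M f n) U)
    (hy : r • yn = toU (ModuleCat.of A (Q M f n)) U (π M f n m))
    (hX : r • res (ModuleCat.of A M) hr X = toU (ModuleCat.of A M) (D r) m) :
    res (ModuleCat.of A (Q M f n)) hr (res (ModuleCat.of A (Q M f n)) hVU yn) =
      res (ModuleCat.of A (Q M f n)) hr (smap (π M f n) V X) := by
  refine cancel (r := r) le_rfl ?_
  rw [res_res, ← smap_res]
  refine ((map_smul _ _ _).symm.trans (congrArg _ hy)).trans ((res_toU _ _ _).trans ?_)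
  exact (smap_toU _ _ _).symm.trans ((congrArg _ hX.symm).trans (map_smul _ _ _))

theorem surj_part [IsNoetherianRing A] [Module.Finite A M] (𝔞 : Ideal A)
    [IsAdicComplete (Ideal.span {f}) A] (hreg : IsSMulRegular M f)
    [Module.Finite A (S (M ⧸ (Ideal.span {f} • (⊤ : Submodule A M))) (LocCoh.puncturedOpen A 𝔞))]
    (y : lim M f (LocCoh.puncturedOpen A 𝔞)) :
    ∃ (V : (Spec (CommRingCat.of A)).Opens)
      (hV : Formal2.Admissible A (Ideal.span {f}) (LocCoh.puncturedOpen A 𝔞) V) (x : S M V),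
      ∀ n, res (ModuleCat.of A (Q M f n)) hV.1 (y.1 n) = smap (π M f n) V x := by
  let U := LocCoh.puncturedOpen A 𝔞
  let T : Type u := {rm : A × M // rm.1 ∈ 𝔞 ∧ rm.1 • y = ι M f U rm.2 ∧
    ∀ m, ι M f U m = 0 → rm.1 • m = 0}
  let O : T → (Spec (CommRingCat.of A)).Opens := fun i => D i.1.1
  have hOU : ∀ i, O i ≤ U := fun i => basicOpen_le 𝔞 i.2.1
  let V : (Spec (CommRingCat.of A)).Opens := ⨆ i, O i
  have hadm : Formal2.Admissible A (Ideal.span {f}) U V := by
    refine ⟨iSup_le hOU, fun p hpU hpI => ?_⟩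
    have hfp : f ∈ p.asIdeal := hpI (Ideal.mem_span_singleton_self f)
    obtain ⟨g, hg, hgp⟩ : ∃ g ∈ (𝔞 : Set A), g ∉ p.asIdeal :=
      Groth.Agent.H20.TildeSections.exists_gen_notMem 𝔞 _ (Ideal.span_eq 𝔞) p hpU
    obtain ⟨s, hs, m, hsm⟩ := exists_mem_range U hreg p hfp hpU y
    obtain ⟨t, ht, htk⟩ := exists_kill_ker (M := M) (f := f) U p hfp hpU
    refine Opens.mem_iSup.2 ⟨⟨(g * t * s, (g * t) • m), ?_, ?_, ?_⟩, ?_⟩
    · exact Ideal.mul_mem_right _ _ (Ideal.mul_mem_right _ _ hg)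
    · show (g * t * s) • y = ι M f U ((g * t) • m)
      rw [mul_smul, hsm, map_smul]
    · intro m' hm'
      show (g * t * s) • m' = 0
      rw [show g * t * s = g * s * t by ring, mul_smul, htk m' hm', smul_zero]
    · exact fun h => (p.isPrime.mem_or_mem h).elim (fun h => (p.isPrime.mem_or_mem h).elim hgp ht) hs
  have hx : ∀ i : T, ∃ x : S M (O i), i.1.1 • x = toU (ModuleCat.of A M) (O i) i.1.2 := fun i => by
    haveI := Groth.Agent.H20.TildeSections.isLocalizedModule_toU (ModuleCat.of A M) i.1.1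
    have hu := IsLocalizedModule.map_units (toU (ModuleCat.of A M) (O i))
      (⟨i.1.1, Submonoid.mem_powers _⟩ : Submonoid.powers i.1.1)
    rw [Module.End.isUnit_iff] at hu
    exact hu.2 _
  choose x hx using hx
  have hcompat : ∀ (i j : T), res (ModuleCat.of A M) (inf_le_left : O i ⊓ O j ≤ O i) (x i) =
      res (ModuleCat.of A M) (inf_le_right : O i ⊓ O j ≤ O j) (x j) := fun i j => by
    refine glue_compat (O := O i ⊓ O j) _ _ inf_le_left inf_le_right i.1.2 j.1.2 ?_ (x i) (x j) (hx i) (hx j)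
    rw [← sub_eq_zero, ← smul_sub]
    refine i.2.2.2 _ ?_
    rw [map_sub, map_smul, map_smul, ← i.2.2.1, ← j.2.2.1, smul_comm, sub_self]
  obtain ⟨X, hX, -⟩ := TopCat.Sheaf.existsUnique_gluing'
    (modulesSpecToSheaf.obj (tilde (R := CommRingCat.of A) (ModuleCat.of A M))) O V
    (fun i => homOfLE (le_iSup O i)) le_rfl x hcompat
  replace hX : ∀ i, res (ModuleCat.of A M) (le_iSup O i) X = x i := hX
  refine ⟨V, hadm, X, fun n => ?_⟩
  refine ext_of_generators (ModuleCat.of A (Q M f n)) _ _ {r | ∃ i : T, i.1.1 = r}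
    (fun r hr => hr.choose_spec ▸ le_iSup O hr.choose)
    (fun p hp => by
      obtain ⟨i, hi⟩ := Opens.mem_iSup.1 hp
      exact ⟨i.1.1, ⟨i, rfl⟩, hi⟩) fun r hr => ?_
  obtain ⟨i, rfl⟩ := hr
  refine level_eq hadm.1 _ n i.1.2 X (y.1 n)
    (congrArg (fun v : lim M f U => (v : ∀ n, S (Q M f n) U) n) i.2.2.1) ?_
  rw [hX i]
  exact hx i

end Groth.Agent.H2.FormalColimMain
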