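import Groth.Agent.H81.PushLocFree
import Mathlib.AlgebraicGeometry.Restrict

/-!
# Finite locally free morphisms are locally free on functions
-/

universe u

open CategoryTheory CategoryTheory.Limits AlgebraicGeometry TopologicalSpace

namespace Groth.Agent.H2.FreeLocal

/-- The functions of the source form a finite free module over those of the target. -/
def FreeFin {A B : CommRingCat.{u}} (φ : A ⟶ B) : Prop :=
  letI := φ.hom.toAlgebra
  Module.Finite A B ∧ Module.Free A B

theorem FreeFin.of_iso {A B A' B' : CommRingCat.{u}} {φ : A ⟶ B} {ψ : A' ⟶ B'} (eA : A ≅ A')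
    (eB : B ≅ B') (h : φ ≫ eB.hom = eA.hom ≫ ψ) (hφ : FreeFin φ) : FreeFin ψ := by
  let := φ.hom.toAlgebra
  let := ψ.hom.toAlgebra
  obtain ⟨h1, h2⟩ := hφ
  let b := Module.Free.chooseBasis A B
  have key : ∀ a : Module.Free.ChooseBasisIndex A B → A',
      Fintype.linearCombination A' (fun i => eB.hom (b i)) a =
        eB.hom (Fintype.linearCombination A b fun i => eA.inv (a i)) := by
    intro a
    simp only [Fintype.linearCombination_apply, map_sum, Algebra.smul_def, map_mul,
      RingHom.algebraMap_toAlgebra]
    refine Finset.sum_congr rfl fun i _ => congrArg (· * _) ?_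
    exact ((congr($(h).hom (eA.inv (a i)))).trans (congrArg ψ (eA.inv_hom_id_apply (a i)))).symm
  have hb : Function.Bijective (Fintype.linearCombination A' fun i => eB.hom (b i)) := by
    rw [show ⇑(Fintype.linearCombination A' fun i => eB.hom (b i)) =
      eB.hom ∘ b.equivFun.symm ∘ fun a i => eA.inv (a i) from funext fun a => (key a).trans
        (congrArg eB.hom (by simp [Fintype.linearCombination_apply, Module.Basis.equivFun_symm_apply]))]
    exact (ConcreteCategory.bijective_of_isIso eB.hom).comp
      (b.equivFun.symm.bijective.comp (Function.Bijective.comp_left (ConcreteCategory.bijective_of_isIso eA.inv)))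
  let b' := Module.Basis.ofEquivFun (LinearEquiv.ofBijective _ hb).symm
  exact ⟨Module.Finite.of_basis b', Module.Free.of_basis b'⟩

/-- Every point has an affine neighbourhood over which the functions are finite free, in the form
stable under pullback. -/
theorem exists_affine_free {X X' : Scheme.{u}} (f : X' ⟶ X) [IsFinite f] [Flat f]
    [LocallyOfFinitePresentation f] {T : Scheme.{u}} (g : T ⟶ X) (t : T) :
    ∃ (V : T.Opens), IsAffineOpen V ∧ t ∈ V ∧ FreeFin (pullback.fst (V.ι ≫ g) f).appTop := by
  let q := pullback.fst g f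
  haveI : IsFinite q := inferInstanceAs (IsFinite (pullback.fst g f))
  haveI : Flat q := inferInstanceAs (Flat (pullback.fst g f))
  haveI : LocallyOfFinitePresentation q :=
    inferInstanceAs (LocallyOfFinitePresentation (pullback.fst g f))
  obtain ⟨U, n, htU, ⟨i⟩⟩ := H81.PushLocFree.isFinLocFree_push q t
  obtain ⟨V, hV, htV, hVU⟩ := exists_isAffineOpen_mem_and_subset htU
  refine ⟨V, hV, htV, ?_⟩
  have h0 : FreeFin (q.app V) := by
    let := (q.app V).hom.toAlgebra
    obtain ⟨b⟩ := H81.PushLocFree.nonempty_basis (f := q) (show V ≤ U from hVU) i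
    exact ⟨Module.Finite.of_basis b, Module.Free.of_basis b⟩
  have h1 : FreeFin (q ∣_ V).appTop := by
    rw [morphismRestrict_appTop]
    have e : (V.ι ''ᵁ ⊤) = V := V.ι_image_top
    have h0' : FreeFin (q.app (V.ι ''ᵁ ⊤)) := e.symm ▸ h0
    exact h0'.of_iso (Iso.refl _)
      ((pullback g f).presheaf.mapIso (eqToIso (image_morphismRestrict_preimage q V ⊤)).op)
      (Category.id_comp _).symm
  let sq := (isPullback_morphismRestrict q V).flip.paste_horiz (IsPullback.of_hasPullback g f).flip
  have hP : IsPullback (q ∣_ V) ((q ⁻¹ᵁ V).ι ≫ pullback.snd g f) (V.ι ≫ g) f := sq.flip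
  refine h1.of_iso (Iso.refl _) (Scheme.Γ.mapIso hP.isoPullback.symm.op) ?_
  change (q ∣_ V).appTop ≫ hP.isoPullback.inv.appTop = 𝟙 _ ≫ _
  rw [Category.id_comp, ← Scheme.Hom.comp_appTop]
  exact congrArg Scheme.Hom.appTop hP.isoPullback_inv_fst

end Groth.Agent.H2.FreeLocal
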