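import Groth.Prelude.Def_DualLC
import Groth.Agent.Lib.Depth.Local
import Groth.Agent.Lib.Depth.LocalCoh
import Groth.Agent.Lib.LCFin.Seq
import Groth.Agent.Lib.LCFin.Cd
import Groth.Agent.Lib.Dim.Local
import Groth.Agent.Lib.Dim.Integral
import Groth.Agent.H80.PuncturedExt
import Groth.Agent.S10862
import Mathlib.RingTheory.GradedAlgebra.Radical
import Mathlib.RingTheory.Polynomial.IsIntegral
import Mathlib.RingTheory.FiniteLength

/-! The normalization of a graded domain and the first local cohomology at the irrelevant ideal. -/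

set_option autoImplicit false
set_option linter.style.haveILetI false

universe u

open DirectSum IsLocalRing
open Groth.Agent.Lib
open scoped Polynomial

namespace Groth.Agent.H2.GrNormalization

variable {k : Type u} [Field k] {G : Type u} [CommRing G] [Algebra k G]
  (𝒢 : ℕ → Submodule k G) [GradedAlgebra 𝒢]

section Scale

variable {L : Type u} [CommRing L] (f : G →+* L)

/-- Scaling by degree: `g ↦ Σ gₙ Xⁿ`. -/
noncomputable def scale : G →+* L[X] :=
  (DirectSum.toSemiring (A := fun n => 𝒢 n)
    (fun n => ((Polynomial.monomial n).toAddMonoidHom.comp f.toAddMonoidHom).comp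
      (𝒢 n).subtype.toAddMonoidHom)
    (by show Polynomial.monomial 0 (f 1) = 1; rw [map_one]; rfl)
    (fun {i j} a b => by
      show Polynomial.monomial (i + j) (f ((a : G) * (b : G))) = _
      rw [map_mul]
      exact (Polynomial.monomial_mul_monomial i j _ _).symm)).comp
    (DirectSum.decomposeRingEquiv 𝒢).toRingHom

theorem scale_homogeneous {n : ℕ} {g : G} (hg : g ∈ 𝒢 n) : scale 𝒢 f g = Polynomial.monomial n (f g) := by
  rw [scale, RingHom.comp_apply]
  have : (DirectSum.decomposeRingEquiv 𝒢).toRingHom g = DirectSum.of _ n ⟨g, hg⟩ :=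
    DirectSum.decompose_of_mem 𝒢 hg
  rw [this, DirectSum.toSemiring_of]
  rfl

theorem coeff_scale (g : G) (n : ℕ) :
    (scale 𝒢 f g).coeff n = f (DirectSum.decompose 𝒢 g n : G) := by
  induction g using DirectSum.Decomposition.inductionOn 𝒢 with
  | zero => simp
  | @homogeneous i m =>
    rw [scale_homogeneous 𝒢 f m.2, Polynomial.coeff_monomial]
    by_cases h : i = n
    · subst h
      rw [if_pos rfl, DirectSum.decompose_of_mem_same 𝒢 m.2]
    · rw [if_neg h, DirectSum.decompose_of_mem_ne 𝒢 m.2 h, map_zero]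
  | add a b ha hb =>
    rw [map_add, Polynomial.coeff_add, ha, hb, DirectSum.decompose_add]
    simp

theorem eval_one_scale (g : G) : (scale 𝒢 f g).eval 1 = f g := by
  induction g using DirectSum.Decomposition.inductionOn 𝒢 with
  | zero => simp
  | @homogeneous i m => rw [scale_homogeneous 𝒢 f m.2, Polynomial.eval_monomial, one_pow, mul_one]
  | add a b ha hb => rw [map_add, Polynomial.eval_add, ha, hb, map_add]

end Scale

/-- Multiplying a homogeneous element into a component. -/
theorem decompose_mul_homogeneous {a b : G} {j : ℕ} (hb : b ∈ 𝒢 j) (i : ℕ) :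
    (DirectSum.decompose 𝒢 (a * b) (i + j) : G) = (DirectSum.decompose 𝒢 a i : G) * b := by
  rw [DirectSum.coe_decompose_mul_of_right_mem_of_le 𝒢 hb (Nat.le_add_left j i), Nat.add_sub_cancel]

/-- The conductor of the normalization is homogeneous. -/
theorem conductor_homogeneous [IsDomain G] (L : Type u) [Field L] [Algebra G L] [IsFractionRing G L]
    (c : G) (hc : ∀ z : L, IsIntegral G z → ∃ g : G, algebraMap G L g = algebraMap G L c * z)
    (m : ℕ) (z : L) (hz : IsIntegral G z) :
    ∃ g : G, algebraMap G L g = algebraMap G L (DirectSum.decompose 𝒢 c m : G) * z := by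
  classical
  let ι := algebraMap G L
  have hι : Function.Injective ι := IsFractionRing.injective G L
  let K := FractionRing L[X]
  let ψ : G →+* L[X] := scale 𝒢 ι
  have hψ : Function.Injective ψ := fun x y h => hι (by
    rw [← eval_one_scale 𝒢 ι x, ← eval_one_scale 𝒢 ι y]; exact congrArg (Polynomial.eval 1) h)
  let Ψ : L →+* K := IsFractionRing.lift (g := (algebraMap L[X] K).comp ψ)
    ((IsFractionRing.injective L[X] K).comp hψ)
  have hΨ : ∀ g : G, Ψ (ι g) = algebraMap L[X] K (ψ g) := fun g => IsFractionRing.lift_algebraMap _ g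
  -- `Ψ z` is a polynomial
  obtain ⟨p, hpm, hp0⟩ := hz
  have hroot : Polynomial.eval₂ ((algebraMap L[X] K).comp ψ) (Ψ z) p = 0 := by
    have h1 : Ψ (Polynomial.eval₂ ι z p) = 0 := by rw [show Polynomial.eval₂ ι z p = 0 from hp0, map_zero]
    rwa [Polynomial.hom_eval₂, show Ψ.comp ι = (algebraMap L[X] K).comp ψ from RingHom.ext hΨ] at h1
  have hint : IsIntegral L[X] (Ψ z) :=
    ⟨p.map ψ, hpm.map _, by rw [Polynomial.eval₂_map]; exact hroot⟩
  obtain ⟨P, hP⟩ := IsIntegrallyClosed.isIntegral_iff.mp hint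
  have hProot : Polynomial.eval₂ ψ P p = 0 := IsFractionRing.injective L[X] K (by
    rw [Polynomial.hom_eval₂, map_zero, hP]; exact hroot)
  -- its coefficients are integral
  have hcoef : ∀ i, IsIntegral G (P.coeff i) := by
    letI : Algebra G[X] L[X] := (Polynomial.mapRingHom ι).toAlgebra
    let ψ' : G →+* G[X] := scale 𝒢 (RingHom.id G)
    have hcomp : (Polynomial.mapRingHom ι).comp ψ' = ψ := RingHom.ext fun g => Polynomial.ext fun i => by
      simp only [RingHom.comp_apply, Polynomial.coe_mapRingHom, Polynomial.coeff_map, ψ', ψ, coeff_scale,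
        RingHom.id_apply]
    have hPi : IsIntegral G[X] P := ⟨p.map ψ', hpm.map _, by
      rw [Polynomial.eval₂_map, RingHom.algebraMap_toAlgebra, hcomp]; exact hProot⟩
    exact fun i => IsIntegral.coeff hPi i
  obtain ⟨a, b, hb, hab⟩ := IsFractionRing.div_surjective (A := G) z
  have hb0 : ι b ≠ 0 := IsFractionRing.to_map_ne_zero_of_mem_nonZeroDivisors hb
  have hzb : z * ι b = ι a := by rw [← hab]; exact div_mul_cancel₀ _ hb0
  have hPb : P * ψ b = ψ a := IsFractionRing.injective L[X] K (by
    rw [map_mul, hP, ← hΨ, ← hΨ, ← map_mul, hzb])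
  have hz1 : P.eval 1 = z := by
    have h1 := congrArg (Polynomial.eval 1) hPb
    rw [Polynomial.eval_mul, eval_one_scale, eval_one_scale, ← hzb] at h1
    exact mul_right_cancel₀ hb0 h1
  -- homogeneous denominators
  have hne : ∃ j, (DirectSum.decompose 𝒢 b j : G) ≠ 0 := by
    by_contra h
    push Not at h
    exact hb0 (by
      rw [← DirectSum.sum_support_decompose 𝒢 b, Finset.sum_eq_zero fun i _ => h i, map_zero])
  let j₀ := Nat.find hne
  let β : G := DirectSum.decompose 𝒢 b j₀
  have hβ : β ∈ 𝒢 j₀ := (DirectSum.decompose 𝒢 b j₀).2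
  have hβ0 : ι β ≠ 0 := (map_ne_zero_iff ι hι).2 (Nat.find_spec hne)
  have hlow : ∀ j < j₀, (DirectSum.decompose 𝒢 b j : G) = 0 := fun j hj => not_not.1 (Nat.find_min hne hj)
  have hfrac : ∀ i, ∃ α ∈ 𝒢 ((i + 1) * j₀ + i), P.coeff i * ι β ^ (i + 1) = ι α := by
    intro i
    induction i using Nat.strong_induction_on with
    | _ i ih =>
      have h1 := congrArg (fun q : L[X] => q.coeff (i + j₀)) hPb
      simp only [Polynomial.coeff_mul, ψ, coeff_scale] at h1
      have hmem : (i, j₀) ∈ Finset.HasAntidiagonal.antidiagonal (i + j₀) := Finset.HasAntidiagonal.mem_antidiagonal.2 rfl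
      rw [← Finset.add_sum_erase _ _ hmem] at h1
      choose! α hα hαe using ih
      let term : ℕ × ℕ → G := fun x =>
        if x.1 < i then β ^ (i - x.1 - 1) * α x.1 * (DirectSum.decompose 𝒢 b x.2 : G) else 0
      refine ⟨β ^ i * (DirectSum.decompose 𝒢 a (i + j₀) : G) -
        ∑ x ∈ (Finset.HasAntidiagonal.antidiagonal (i + j₀)).erase (i, j₀), term x, ?_, ?_⟩
      · refine sub_mem ?_ (sum_mem fun x hx => ?_)
        · have h := SetLike.mul_mem_graded (SetLike.pow_mem_graded i hβ)
            (DirectSum.decompose 𝒢 a (i + j₀)).2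
          rwa [smul_eq_mul, show i * j₀ + (i + j₀) = (i + 1) * j₀ + i by ring] at h
        · simp only [term]
          split_ifs with hlt
          · have hsum := Finset.HasAntidiagonal.mem_antidiagonal.1 (Finset.mem_of_mem_erase hx)
            obtain ⟨e, he⟩ := Nat.exists_eq_add_of_lt hlt
            have h := SetLike.mul_mem_graded (SetLike.mul_mem_graded
              (SetLike.pow_mem_graded (i - x.1 - 1) hβ) (hα x.1 hlt)) (DirectSum.decompose 𝒢 b x.2).2
            rw [show i - x.1 - 1 = e by omega] at h ⊢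
            rw [smul_eq_mul] at h
            convert h using 2
            rw [show x.2 = e + 1 + j₀ by omega, he]
            ring
          · exact zero_mem _
      · rw [map_sub, map_sum, map_mul, map_pow, ← h1, mul_add, Finset.mul_sum]
        have hterm : ∀ x ∈ (Finset.HasAntidiagonal.antidiagonal (i + j₀)).erase (i, j₀),
            ι (term x) = ι β ^ i * (P.coeff x.1 * ι (DirectSum.decompose 𝒢 b x.2 : G)) := fun x hx => by
          obtain ⟨hxne, hxm⟩ := Finset.mem_erase.1 hx
          have hsum := Finset.HasAntidiagonal.mem_antidiagonal.1 hxm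
          simp only [term]
          split_ifs with hlt
          · obtain ⟨e, he⟩ := Nat.exists_eq_add_of_lt hlt
            rw [map_mul, map_mul, map_pow, ← hαe x.1 hlt, show i - x.1 - 1 = e by omega,
              show i = e + (x.1 + 1) by omega, pow_add]
            ring
          · have hj : x.2 < j₀ := by
              rcases lt_or_ge x.2 j₀ with h | h
              · exact h
              · exact absurd (Prod.ext (by omega : x.1 = i) (by omega : x.2 = j₀)) hxne
            rw [hlow x.2 hj, map_zero, mul_zero, mul_zero]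
        rw [Finset.sum_congr rfl hterm, add_sub_cancel_right, pow_succ]
        ring
  -- each component of `c` multiplies each coefficient into `G`
  rw [← hz1]
  have hmain : ∀ i, ∃ g : G, ι g = ι (DirectSum.decompose 𝒢 c m : G) * P.coeff i := by
    intro i
    obtain ⟨α, hα, hαe⟩ := hfrac i
    obtain ⟨g, hg⟩ := hc (P.coeff i) (hcoef i)
    have hgβ : g * β ^ (i + 1) = c * α := hι (by
      rw [map_mul, map_mul, map_pow, hg, mul_assoc, hαe])
    have h := congrArg (fun x : G => (DirectSum.decompose 𝒢 x (m + ((i + 1) * j₀ + i)) : G)) hgβ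
    dsimp only at h
    rw [decompose_mul_homogeneous 𝒢 hα m, show m + ((i + 1) * j₀ + i) = (m + i) + (i + 1) • j₀ by
      rw [smul_eq_mul]; ring, decompose_mul_homogeneous 𝒢 (SetLike.pow_mem_graded (i + 1) hβ) (m + i)] at h
    refine ⟨DirectSum.decompose 𝒢 g (m + i), mul_right_cancel₀ (pow_ne_zero (i + 1) hβ0) ?_⟩
    rw [mul_assoc, hαe, ← map_pow, ← map_mul, ← map_mul, h]
  choose g hg using hmain
  refine ⟨∑ i ∈ Finset.range (P.natDegree + 1), g i, ?_⟩
  rw [map_sum, Polynomial.eval_eq_sum_range, Finset.mul_sum]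
  exact Finset.sum_congr rfl fun i _ => by rw [hg, one_pow, mul_one]

/-- A Noetherian graded algebra connected over a field is of finite type. -/
theorem finiteType [IsNoetherianRing G] (h0 : ∀ x ∈ 𝒢 0, x ∈ Set.range (algebraMap k G)) :
    Algebra.FiniteType k G := by
  classical
  obtain ⟨s, hs⟩ := (IsNoetherian.noetherian (HomogeneousIdeal.irrelevant 𝒢).toIdeal)
  let T : Finset G := s.biUnion fun x =>
    ((DirectSum.decompose 𝒢 x).support.filter (0 < ·)).image fun i => (DirectSum.decompose 𝒢 x i : G)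
  have hT : ∀ t ∈ T, ∃ d, 0 < d ∧ t ∈ 𝒢 d := fun t ht => by
    simp only [T, Finset.mem_biUnion, Finset.mem_image, Finset.mem_filter] at ht
    obtain ⟨x, -, i, ⟨-, hi⟩, rfl⟩ := ht
    exact ⟨i, hi, SetLike.coe_mem _⟩
  have hspan : (HomogeneousIdeal.irrelevant 𝒢).toIdeal ≤ Ideal.span (T : Set G) := by
    rw [← hs]
    refine Submodule.span_le.2 fun x hx => ?_
    rw [SetLike.mem_coe, ← DirectSum.sum_support_decompose 𝒢 x]
    refine sum_mem fun i hi => ?_
    rcases Nat.eq_zero_or_pos i with rfl | hpos
    · have h00 : (DirectSum.decompose 𝒢 x 0 : G) = 0 := by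
        have hxirr : x ∈ (HomogeneousIdeal.irrelevant 𝒢).toIdeal := hs ▸ Submodule.subset_span hx
        exact (HomogeneousIdeal.mem_irrelevant_iff 𝒢 x).1 hxirr
      rw [h00]; exact zero_mem _
    · exact Ideal.subset_span (Finset.mem_biUnion.2 ⟨x, hx,
        Finset.mem_image.2 ⟨i, Finset.mem_filter.2 ⟨hi, hpos⟩, rfl⟩⟩)
  refine ⟨⟨T, ?_⟩⟩
  have main : ∀ n, ∀ x ∈ 𝒢 n, x ∈ Algebra.adjoin k (T : Set G) := by
    intro n
    induction n using Nat.strong_induction_on with
    | _ n ih =>
      intro x hx
      rcases Nat.eq_zero_or_pos n with rfl | hn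
      · obtain ⟨c, rfl⟩ := h0 x hx
        exact Subalgebra.algebraMap_mem _ c
      have hxirr : x ∈ Ideal.span (T : Set G) := hspan ((HomogeneousIdeal.mem_irrelevant_iff 𝒢 x).2
        (DirectSum.decompose_of_mem_ne 𝒢 hx hn.ne'))
      obtain ⟨c, -, hc⟩ := Submodule.mem_span_finset.1 hxirr
      rw [← DirectSum.decompose_of_mem_same 𝒢 hx, ← hc, DirectSum.decompose_sum]
      rw [DFinsupp.finsetSum_apply, AddSubmonoidClass.coe_finsetSum]
      refine sum_mem fun t ht => ?_
      obtain ⟨d, hd, htd⟩ := hT t ht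
      rw [smul_eq_mul, DirectSum.coe_decompose_mul_of_right_mem 𝒢 n htd]
      split_ifs with hdn
      · exact mul_mem (ih (n - d) (by omega) _ (SetLike.coe_mem _)) (Algebra.subset_adjoin ht)
      · exact zero_mem _
  refine eq_top_iff.2 fun x _ => ?_
  rw [← DirectSum.sum_support_decompose 𝒢 x]
  exact sum_mem fun i _ => main i _ (SetLike.coe_mem _)

theorem irrelevant_isMaximal [Nontrivial G] (h0 : ∀ x ∈ 𝒢 0, x ∈ Set.range (algebraMap k G)) :
    (HomogeneousIdeal.irrelevant 𝒢).toIdeal.IsMaximal := by
  refine Ideal.isMaximal_iff.2 ⟨fun h => one_ne_zero (α := G) ?_, fun J x hJ hx hxJ => ?_⟩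
  · have h1 := (HomogeneousIdeal.mem_irrelevant_iff 𝒢 (1 : G)).1 h
    exact (DirectSum.decompose_of_mem_same 𝒢 SetLike.GradedOne.one_mem).symm.trans h1
  · obtain ⟨c, hc⟩ := h0 _ (DirectSum.decompose 𝒢 x 0).2
    have hc0 : c ≠ 0 := fun h => hx ((HomogeneousIdeal.mem_irrelevant_iff 𝒢 x).2 (by
      show (DirectSum.decompose 𝒢 x 0 : G) = 0
      rw [← hc, h, map_zero]))
    have hmem : algebraMap k G c ∈ J := by
      have : x - algebraMap k G c ∈ (HomogeneousIdeal.irrelevant 𝒢).toIdeal := by
        refine (HomogeneousIdeal.mem_irrelevant_iff 𝒢 _).2 ?_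
        show (DirectSum.decompose 𝒢 (x - algebraMap k G c) 0 : G) = 0
        rw [DirectSum.decompose_sub, DirectSum.sub_apply, AddSubgroupClass.coe_sub,
          DirectSum.decompose_of_mem_same 𝒢 (SetLike.algebraMap_mem_graded 𝒢 c), hc, sub_self]
      simpa using J.sub_mem hxJ (hJ this)
    simpa [← map_mul, inv_mul_cancel₀ hc0] using J.mul_mem_left (algebraMap k G c⁻¹) hmem

/-- A homogeneous ideal of finite colength contains a power of the irrelevant ideal. -/
theorem irrelevant_le_radical [Nontrivial G] (h0 : ∀ x ∈ 𝒢 0, x ∈ Set.range (algebraMap k G))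
    (J : Ideal G) (hJ : J.IsHomogeneous 𝒢) [IsArtinianRing (G ⧸ J)] :
    (HomogeneousIdeal.irrelevant 𝒢).toIdeal ≤ J.radical := by
  rw [Ideal.radical_eq_sInf]
  refine le_sInf fun P ⟨hJP, hP⟩ => ?_
  let C := P.homogeneousCore 𝒢
  have hCP : C.toIdeal ≤ P := Ideal.toIdeal_homogeneousCore_le 𝒢 P
  have hC : C.toIdeal.IsPrime := hP.homogeneousCore
  have hJC : J ≤ C.toIdeal := by
    rw [← hJ.toIdeal_homogeneousCore_eq_self]
    exact Ideal.homogeneousCore_mono 𝒢 hJP
  have hmax : C.toIdeal.IsMaximal := by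
    haveI : (C.toIdeal.map (Ideal.Quotient.mk J)).IsPrime :=
      Ideal.map_isPrime_of_surjective Ideal.Quotient.mk_surjective (by rwa [Ideal.mk_ker])
    have h := Ideal.comap_isMaximal_of_surjective (Ideal.Quotient.mk J) Ideal.Quotient.mk_surjective
      (K := C.toIdeal.map (Ideal.Quotient.mk J))
      (H := IsArtinianRing.isPrime_iff_isMaximal _ |>.1 inferInstance)
    rwa [Ideal.comap_map_of_surjective' _ Ideal.Quotient.mk_surjective, Ideal.mk_ker, sup_eq_left.2 hJC] at h
  have hle : C.toIdeal ≤ (HomogeneousIdeal.irrelevant 𝒢).toIdeal := fun x hx => by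
    refine (HomogeneousIdeal.mem_irrelevant_iff 𝒢 x).2 ?_
    show (DirectSum.decompose 𝒢 x 0 : G) = 0
    obtain ⟨c, hc⟩ := h0 _ (DirectSum.decompose 𝒢 x 0).2
    by_contra hne
    have hc0 : c ≠ 0 := fun h => hne (by rw [← hc, h, map_zero])
    refine hC.ne_top (Ideal.eq_top_of_isUnit_mem _ (C.isHomogeneous 0 hx) ?_)
    rw [← hc]
    exact hc0.isUnit.map _
  exact (hmax.eq_of_le (irrelevant_isMaximal 𝒢 h0).ne_top hle).ge.trans hCP

variable [IsDomain G] [IsNoetherianRing G] (h0 : ∀ x ∈ 𝒢 0, x ∈ Set.range (algebraMap k G))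

include h0 in
theorem main (hdim : 2 ≤ ringKrullDim G) (L : Type u) [Field L] [Algebra G L] [IsFractionRing G L]
    (hfin : IsFiniteLength G (↥(integralClosure G L) ⧸
      LinearMap.range (Algebra.linearMap G ↥(integralClosure G L)))) :
    Nonempty ((↥(integralClosure G L) ⧸
        LinearMap.range (Algebra.linearMap G ↥(integralClosure G L))) ≃ₗ[G]
      LocCoh.H (HomogeneousIdeal.irrelevant 𝒢).toIdeal 1 G) := by
  classical
  let m := (HomogeneousIdeal.irrelevant 𝒢).toIdeal
  let B := integralClosure G L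
  let N := LinearMap.range (Algebra.linearMap G B)
  haveI := finiteType 𝒢 h0
  haveI := irrelevant_isMaximal 𝒢 h0
  haveI : Module.Finite G B := Groth.Agent.S10862.result k G L L
  haveI : IsFractionRing B L := IsIntegralClosure.isFractionRing_of_finite_extension G L L B
  haveI : IsIntegrallyClosed B := integralClosure.isIntegrallyClosedOfFiniteExtension L
  haveI : IsNoetherianRing B := IsNoetherianRing.of_finite G B
  letI : Algebra k B := ((algebraMap G B).comp (algebraMap k G)).toAlgebra
  haveI : IsScalarTower k G B := .of_algebraMap_eq' rfl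
  haveI : Algebra.FiniteType k B := Algebra.FiniteType.trans (S := G) inferInstance (inferInstanceAs (Algebra.FiniteType G B))
  have hinj : Function.Injective (algebraMap G B) := fun x y h =>
    IsFractionRing.injective G L (congrArg Subtype.val h)
  -- the quotient is torsion
  let J := Module.annihilator G (B ⧸ N)
  have hJ : J.IsHomogeneous 𝒢 := by
    intro i c hc
    refine Module.mem_annihilator.2 fun q => ?_
    obtain ⟨z, rfl⟩ := Submodule.mkQ_surjective N q
    have hcc : ∀ w : L, IsIntegral G w → ∃ g : G, algebraMap G L g = algebraMap G L c * w := fun w hw => by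
      have h1 := Module.mem_annihilator.1 hc (N.mkQ ⟨w, hw⟩)
      rw [← map_smul, Submodule.mkQ_apply, Submodule.Quotient.mk_eq_zero] at h1
      obtain ⟨g, hg⟩ := h1
      refine ⟨g, ?_⟩
      rw [← Algebra.smul_def]
      exact congrArg Subtype.val hg
    obtain ⟨g, hg⟩ := conductor_homogeneous 𝒢 L c hcc i z.1 z.2
    rw [← map_smul, Submodule.mkQ_apply, Submodule.Quotient.mk_eq_zero]
    refine ⟨g, Subtype.ext ?_⟩
    show algebraMap G L g = (DirectSum.decompose 𝒢 c i : G) • z.1
    rw [hg, Algebra.smul_def]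
  obtain ⟨hnoeth, hart⟩ := isFiniteLength_iff_isNoetherian_isArtinian.1 hfin
  haveI : IsArtinianRing (G ⧸ J) := by
    obtain ⟨n, q, hq⟩ := Module.Finite.exists_fin (R := G) (M := B ⧸ N)
    let ev : G →ₗ[G] (Fin n → B ⧸ N) := LinearMap.pi fun i => LinearMap.toSpanSingleton G _ (q i)
    have hk : LinearMap.ker ev = J := by
      ext a
      rw [LinearMap.mem_ker, Module.mem_annihilator]
      constructor
      · intro h x
        have hx : x ∈ Submodule.span G (Set.range q) := hq ▸ Submodule.mem_top
        induction hx using Submodule.span_induction with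
        | mem y hy => obtain ⟨i, rfl⟩ := hy; exact congrFun h i
        | zero => exact smul_zero a
        | add x y _ _ hx hy => rw [smul_add, hx, hy, add_zero]
        | smul r x _ hx => rw [smul_comm, hx, smul_zero]
      · exact fun h => funext fun i => h (q i)
    haveI : IsArtinian G (G ⧸ J) := hk ▸ isArtinian_of_injective _
      (LinearMap.ker_eq_bot.1 (Submodule.ker_liftQ_eq_bot _ ev le_rfl le_rfl))
    exact isArtinian_of_tower G inferInstance
  obtain ⟨e, he⟩ := Ideal.exists_pow_le_of_le_radical_of_fg (irrelevant_le_radical 𝒢 h0 J hJ)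
    (Ideal.fg_of_isNoetherianRing _)
  have htors : DRing.torsionSub m (B ⧸ N) = ⊤ := eq_top_iff.2 fun q _ =>
    ⟨e, fun r hr => Module.mem_annihilator.1 (he hr) q⟩
  -- two vanishings
  have hdepth : (2 : ℕ∞) ≤ LocCoh.idealDepth m B := by
    rw [Depth.Local.idealDepth_eq_map_of_finite B m B, Depth.Local.idealDepth_eq_iInf]
    refine le_iInf₂ fun P hP => ?_
    haveI : IsNoetherianRing (Localization.AtPrime P.asIdeal) :=
      IsLocalization.isNoetherianRing P.asIdeal.primeCompl _ inferInstance
    haveI : IsIntegrallyClosed (Localization.AtPrime P.asIdeal) :=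
      isIntegrallyClosed_of_isLocalization _ P.asIdeal.primeCompl P.asIdeal.primeCompl_le_nonZeroDivisors
    have hPc : P.asIdeal.comap (algebraMap G B) = m :=
      ((inferInstance : m.IsMaximal).eq_of_le (Ideal.IsPrime.comap _).ne_top
        (Ideal.map_le_iff_le_comap.1 hP)).symm
    haveI : P.asIdeal.IsMaximal :=
      Ideal.isMaximal_of_isIntegral_of_isMaximal_comap (R := G) P.asIdeal (hPc.symm ▸ inferInstance)
    have hd : (2 : WithBot ℕ∞) ≤ ringKrullDim (Localization.AtPrime P.asIdeal) := by
      rw [IsLocalization.AtPrime.ringKrullDim_eq_height P.asIdeal,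
        Dim.Local.height_maximal (k := k) P.asIdeal]
      refine hdim.trans (le_of_eq ?_)
      haveI : FaithfulSMul G B := (faithfulSMul_iff_algebraMap_injective G B).mpr hinj
      rw [← Dim.Integral.ringKrullDim_eq_of_isIntegral (R := G) (A := B), Dim.Basic.ringKrullDim_eq_trdegNat k B]
      norm_cast
    rw [Depth.Basic.depth_congr ((IsLocalizedModule.iso P.asIdeal.primeCompl
      (Algebra.linearMap B (Localization.AtPrime P.asIdeal))).extendScalarsOfIsLocalization
      P.asIdeal.primeCompl (Localization.AtPrime P.asIdeal))]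
    exact H80.PuncturedExt.two_le_depth hd
  have hvan := (Depth.LocalCoh.le_idealDepth_iff_H m B 2).1 (by exact_mod_cast hdepth)
  let f : G →ₗ[G] B := Algebra.linearMap G B
  have hex : Function.Exact f N.mkQ := LinearMap.exact_map_mkQ_range f
  let δ := LCFin.Seq.δ m (f := f) (g := N.mkQ) hinj (Submodule.mkQ_surjective _) hex 0
  have hδi : Function.Injective δ := by
    rw [← LinearMap.ker_eq_bot, eq_bot_iff]
    intro x hx
    obtain ⟨y, rfl⟩ := (LCFin.Seq.exact_map_δ m (f := f) (g := N.mkQ) hinj
      (Submodule.mkQ_surjective _) hex 0 x).1 hx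
    haveI := hvan 0 (by norm_num)
    rw [Subsingleton.elim y 0, map_zero]
    exact Submodule.zero_mem _
  have hδs : Function.Surjective δ := fun x => by
    haveI := hvan 1 (by norm_num)
    exact (LCFin.Seq.exact_δ_map m (f := f) (g := N.mkQ) hinj
      (Submodule.mkQ_surjective _) hex 0 x).1 (Subsingleton.elim _ _)
  exact ⟨((LinearEquiv.ofTop _ htors).symm.trans
    ((Lib.LocalCoh.lcZeroIso m).app (ModuleCat.of G (B ⧸ N))).toLinearEquiv.symm).trans
    (LinearEquiv.ofBijective δ ⟨hδi, hδs⟩)⟩

end Groth.Agent.H2.GrNormalization
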