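import Groth.Prelude.Def_CohB1
import Groth.Prelude.Def_GrQuot
import Groth.Agent.Lib.Lech.GrSeries
import Mathlib.RingTheory.Polynomial.HilbertPoly
import Mathlib.RingTheory.MvPolynomial.Homogeneous
import Mathlib.RingTheory.KrullDimension.Module

/-!
# Degree of the Hilbert polynomial of a homogeneous ideal
-/

set_option autoImplicit false
set_option linter.style.haveILetI false

noncomputable section

universe u

namespace Groth.Agent.H2.HilbDeg

open MvPolynomial Groth.Agent.Lib.Lech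

variable {k : Type u} [Field k] {n : ℕ} (I : Ideal (MvPolynomial (Fin (n + 1)) k))

local notation "S" => MvPolynomial (Fin (n + 1)) k
local notation "𝒢" => CohB1.polyGrading n k

/-- the images of the variables -/
def gens : Fin (n + 1) → S ⧸ I := fun i => Ideal.Quotient.mk I (X i)

theorem gens_mem (i : Fin (n + 1)) : gens I i ∈ GrQuot.quot 𝒢 I 1 :=
  GrQuot.mk_mem_quot _ _ (isHomogeneous_X k i)

theorem gens_gen (a : S ⧸ I) : ∃ t, a ∈ GrDim.W k (gens I) t := by
  obtain ⟨f, rfl⟩ := Ideal.Quotient.mk_surjective a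
  refine ⟨f.support.sup fun s => deg (⇑s), ?_⟩
  conv => arg 2; rw [MvPolynomial.as_sum f]
  rw [map_sum]
  refine Submodule.sum_mem _ fun s hs => ?_
  have h : Ideal.Quotient.mk I (monomial s (coeff s f)) = coeff s f • mon (gens I) (⇑s) := by
    rw [GradedHilbert.monomial_eq_smul_mon, ← Ideal.Quotient.mkₐ_eq_mk k, map_smul]
    congr 1
    simp [mon, gens, map_prod]
  rw [h]
  exact Submodule.smul_mem _ _ (Submodule.subset_span
    ⟨_, Finset.le_sup (f := fun s : Fin (n + 1) →₀ ℕ => deg (⇑s)) hs, rfl⟩)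

theorem finrank_piece (j : ℕ) :
    (Module.finrank k ↥(GrQuot.quot 𝒢 I j) : ℚ) = (Module.finrank k ↥(𝒢 j) : ℚ) -
      Module.finrank k ↥(Submodule.restrictScalars k I ⊓ 𝒢 j) := by
  haveI : Module.Finite k ↥(𝒢 j) := Module.Finite.iff_fg.2 (homogeneousSubmodule_fg _ _ j)
  set f := (Ideal.Quotient.mkₐ k I).toLinearMap ∘ₗ (𝒢 j).subtype with hf
  have hr : LinearMap.range f = GrQuot.quot 𝒢 I j := by
    rw [hf, LinearMap.range_comp, Submodule.range_subtype]
    rfl
  have hk : LinearMap.ker f = (Submodule.restrictScalars k I).comap (𝒢 j).subtype := by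
    ext x
    simp [hf, Ideal.Quotient.eq_zero_iff_mem]
  have h := LinearMap.finrank_range_add_finrank_ker f
  rw [hr, hk] at h
  have h2 : Module.finrank k ↥((Submodule.restrictScalars k I).comap (𝒢 j).subtype) =
      Module.finrank k ↥(Submodule.restrictScalars k I ⊓ 𝒢 j) := by
    rw [← Submodule.finrank_map_subtype_eq, Submodule.map_comap_subtype, inf_comm]
  rw [h2] at h
  rw [← h]
  push_cast
  ring

theorem series_data (hIh : I.IsHomogeneous 𝒢) [Nontrivial (S ⧸ I)] :
    ∃ (q : Polynomial ℚ) (e : ℕ), q.eval 1 ≠ 0 ∧ ringKrullDim (S ⧸ I) = (e : WithBot ℕ∞) ∧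
      ∀ m : ℕ, PowerSeries.coeff (R := ℚ) m
          ((q : PowerSeries ℚ) * (PowerSeries.invOneSubPow ℚ e : PowerSeries ℚ)) =
        (Module.finrank k ↥(𝒢 m) : ℚ) -
          Module.finrank k ↥(Submodule.restrictScalars k I ⊓ 𝒢 m) := by
  classical
  haveI : GrQuot.IsHomog 𝒢 I := (GrQuot.isHomog_iff _ _).2 hIh
  obtain ⟨Q, e, hser, hQ1, hdim⟩ := GrSeries.exists_series (A₀ := k) (𝒜 := GrQuot.quot 𝒢 I)
    (GrQuot.quot 𝒢 I) (gens I) (gens_mem I) (gens_gen I)
  rw [Module.supportDim_self_eq_ringKrullDim] at hdim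
  set G := GrSeries.ofDecomp (A₀ := k) (𝒜 := GrQuot.quot 𝒢 I) (GrQuot.quot 𝒢 I)
  have hh : ∀ j, ((G.h j).toNat : ℚ) = (Module.finrank k ↥(GrQuot.quot 𝒢 I j) : ℚ) := fun j => by
    rw [GrSeries.Gr.h, GrSeries.piece_ofDecomp]
    haveI : Module.Finite k ↥(GrQuot.quot 𝒢 I j) :=
      Module.Finite.iff_fg.2 ((homogeneousSubmodule_fg _ _ j).map _)
    rw [Module.length_eq_finrank, ENat.toNat_natCast]
  refine ⟨Q.map (Int.castRingHom ℚ), e, ?_, hdim, fun m => ?_⟩
  · have h : (1 : ℚ) = Int.castRingHom ℚ 1 := (map_one _).symm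
    rw [h, Polynomial.eval_map, Polynomial.eval₂_at_apply]
    simpa using hQ1.ne'
  · have h := congrArg (PowerSeries.map (Int.castRingHom ℚ)) hser
    rw [map_mul, map_pow, map_sub, map_one, PowerSeries.map_X] at h
    have h' : PowerSeries.map (Int.castRingHom ℚ) G.series
        = ((Q.map (Int.castRingHom ℚ) : Polynomial ℚ) : PowerSeries ℚ) *
          (PowerSeries.invOneSubPow ℚ e : PowerSeries ℚ) := by
      rw [Polynomial.polynomial_map_coe, ← h, ← PowerSeries.invOneSubPow_inv_eq_one_sub_pow,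
        mul_assoc, Units.inv_val, mul_one]
    rw [← h', ← finrank_piece, PowerSeries.coeff_map, GrSeries.Gr.series, PowerSeries.coeff_mk, ← hh]
    simp

theorem exists_poly (hIh : I.IsHomogeneous 𝒢) :
    ∃ P : Polynomial ℚ, ∃ m₀ : ℕ, ∀ m : ℕ, m₀ ≤ m → P.eval (m : ℚ) =
      (Module.finrank k ↥(𝒢 m) : ℚ) -
        Module.finrank k ↥(Submodule.restrictScalars k I ⊓ 𝒢 m) := by
  rcases subsingleton_or_nontrivial (S ⧸ I) with h | h
  · refine ⟨0, 0, fun m _ => ?_⟩
    rw [← finrank_piece]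
    simp [Module.finrank_zero_of_subsingleton]
  · obtain ⟨q, e, -, -, hc⟩ := series_data I hIh
    refine ⟨Polynomial.hilbertPoly q e, q.natDegree + 1, fun m hm => ?_⟩
    rw [← hc, Polynomial.coeff_mul_invOneSubPow_eq_hilbertPoly_eval e (by omega)]

theorem ringKrullDim_eq (hIh : I.IsHomogeneous 𝒢) (P : Polynomial ℚ) (hP0 : P ≠ 0) (m₀ : ℕ)
    (hP : ∀ m : ℕ, m₀ ≤ m → P.eval (m : ℚ) =
      (Module.finrank k ↥(𝒢 m) : ℚ) -
        Module.finrank k ↥(Submodule.restrictScalars k I ⊓ 𝒢 m)) :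
    ringKrullDim (S ⧸ I) = (P.natDegree : WithBot ℕ∞) + 1 := by
  haveI : Nontrivial (S ⧸ I) := by
    by_contra hA
    rw [not_nontrivial_iff_subsingleton] at hA
    refine hP0 (Polynomial.eq_zero_of_infinite_isRoot _ ?_)
    refine ((Set.Ici_infinite m₀).image Nat.cast_injective.injOn).mono ?_
    rintro x ⟨m, hm, rfl⟩
    show P.eval (m : ℚ) = 0
    rw [hP m hm, ← finrank_piece]
    simp [Module.finrank_zero_of_subsingleton]
  obtain ⟨q, e, hq1, hdim, hc⟩ := series_data I hIh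
  have hPeq : P = Polynomial.hilbertPoly q e :=
    Polynomial.eq_hilbertPoly_of_forall_coeff_eq_eval m₀ fun m hm => by rw [hc, hP m hm.le]
  have he : 0 < e := by
    rcases Nat.eq_zero_or_pos e with rfl | h
    · exact absurd (by rw [hPeq, Polynomial.hilbertPoly_zero_right]) hP0
    · exact h
  have hdeg : P.natDegree + 1 = e := by
    rw [hPeq, Polynomial.natDegree_hilbertPoly_of_ne_zero (hPeq ▸ hP0),
      Polynomial.rootMultiplicity_eq_zero hq1]
    omega
  rw [hdim, ← hdeg]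
  simp

end Groth.Agent.H2.HilbDeg
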