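import Groth.Agent.H2.HilbDeg
import Groth.Agent.Lib.ProjDim.Graded
import Mathlib.RingTheory.Ideal.Colon
import Mathlib.RingTheory.Ideal.MinimalPrime.Basic
import Mathlib.Algebra.Module.LocalizedModule.Exact
import Mathlib.RingTheory.Spectrum.Prime.Module
import Mathlib.RingTheory.Length
import Groth.Agent.Lib.Cyc.LengthFormula

/-!
# The associativity formula for the degree of a homogeneous ideal
-/

set_option autoImplicit false
set_option linter.style.haveILetI false

noncomputable section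

universe u

namespace Groth.Agent.H2.HilbDegree

open MvPolynomial Groth.Agent.Lib.ProjDim.Graded Groth.Agent.Lib.Dim.Basic

variable {k : Type u} [Field k] {n : ℕ}

local notation "S" => MvPolynomial (Fin (n + 1)) k
local notation "𝒢" => CohB1.polyGrading n k

/-- Hilbert function -/
def hf (I : Ideal S) (m : ℕ) : ℚ :=
  (Module.finrank k ↥(𝒢 m) : ℚ) - Module.finrank k ↥(Submodule.restrictScalars k I ⊓ 𝒢 m)

/-- being the Hilbert polynomial -/
def IsHP (I : Ideal S) (P : Polynomial ℚ) : Prop :=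
  ∃ m₀ : ℕ, ∀ m : ℕ, m₀ ≤ m → P.eval (m : ℚ) = hf I m

theorem finite_piece (m : ℕ) : Module.Finite k ↥(𝒢 m) :=
  Module.Finite.iff_fg.2 (homogeneousSubmodule_fg _ _ m)

theorem exists_isHP {I : Ideal S} (hI : I.IsHomogeneous 𝒢) : ∃ P, IsHP I P :=
  H2.HilbDeg.exists_poly I hI

theorem eq_zero_of_eventually {P : Polynomial ℚ} (h : ∃ m₀ : ℕ, ∀ m : ℕ, m₀ ≤ m → P.eval (m : ℚ) = 0) :
    P = 0 := by
  obtain ⟨m₀, h⟩ := h
  refine Polynomial.eq_zero_of_infinite_isRoot _ ?_
  refine ((Set.Ici_infinite m₀).image Nat.cast_injective.injOn).mono ?_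
  rintro x ⟨m, hm, rfl⟩
  exact h m hm

theorem IsHP.unique {I : Ideal S} {P Q : Polynomial ℚ} (hP : IsHP I P) (hQ : IsHP I Q) : P = Q := by
  obtain ⟨a, ha⟩ := hP; obtain ⟨b, hb⟩ := hQ
  refine sub_eq_zero.1 (eq_zero_of_eventually ⟨max a b, fun m hm => ?_⟩)
  rw [Polynomial.eval_sub, ha m (le_of_max_le_left hm), hb m (le_of_max_le_right hm), sub_self]

theorem hf_anti {I J : Ideal S} (h : I ≤ J) (m : ℕ) : hf J m ≤ hf I m := by
  have := finite_piece (k := k) (n := n) m
  haveI : Module.Finite k ↥(Submodule.restrictScalars k J ⊓ 𝒢 m) :=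
    Submodule.finiteDimensional_of_le inf_le_right
  have h2 : Submodule.restrictScalars k I ⊓ 𝒢 m ≤ Submodule.restrictScalars k J ⊓ 𝒢 m :=
    inf_le_inf_right _ (fun _ hx => h hx)
  simp only [hf]
  gcongr
  exact Submodule.finrank_mono h2

theorem hf_nonneg (I : Ideal S) (m : ℕ) : 0 ≤ hf I m := by
  have := finite_piece (k := k) (n := n) m
  simp only [hf, sub_nonneg, Nat.cast_le]
  exact Submodule.finrank_mono inf_le_right

theorem hf_top (m : ℕ) : hf (⊤ : Ideal S) m = 0 := by
  rw [hf, Submodule.restrictScalars_top, top_inf_eq, sub_self]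

theorem IsHP.ne_zero_of_le {I J : Ideal S} {P Q : Polynomial ℚ} (hP : IsHP I P) (hQ : IsHP J Q)
    (h : I ≤ J) (hQ0 : Q ≠ 0) : P ≠ 0 := by
  rintro rfl
  refine hQ0 (eq_zero_of_eventually ?_)
  obtain ⟨a, ha⟩ := hP; obtain ⟨b, hb⟩ := hQ
  refine ⟨max a b, fun m hm => le_antisymm ?_ ?_⟩
  · rw [hb m (le_of_max_le_right hm)]
    refine (hf_anti h m).trans ?_
    rw [← ha m (le_of_max_le_left hm), Polynomial.eval_zero]
  · rw [hb m (le_of_max_le_right hm)]
    exact hf_nonneg J m

theorem IsHP.dim_eq {I : Ideal S} {P : Polynomial ℚ} (hI : I.IsHomogeneous 𝒢) (hP : IsHP I P)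
    (hP0 : P ≠ 0) : ringKrullDim (S ⧸ I) = ((P.natDegree + 1 : ℕ) : WithBot ℕ∞) := by
  obtain ⟨m₀, hm⟩ := hP
  rw [H2.HilbDeg.ringKrullDim_eq I hI P hP0 m₀ hm]
  simp

theorem IsHP.dimQ_eq {p : Ideal S} [p.IsPrime] {P : Polynomial ℚ} (hp : p.IsHomogeneous 𝒢)
    (hP : IsHP p P) (hP0 : P ≠ 0) : dimQ k p = P.natDegree + 1 := by
  have h := hP.dim_eq hp hP0
  rw [ringKrullDim_quotient_prime k] at h
  exact_mod_cast h

theorem IsHP.natDegree_le {I J : Ideal S} {P Q : Polynomial ℚ} (hI : I.IsHomogeneous 𝒢)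
    (hJ : J.IsHomogeneous 𝒢) (hP : IsHP I P) (hQ : IsHP J Q) (h : I ≤ J) :
    Q.natDegree ≤ P.natDegree := by
  rcases eq_or_ne Q 0 with rfl | hQ0
  · simp
  have hle := ringKrullDim_le_of_surjective (Ideal.Quotient.factor h)
    (Ideal.Quotient.factor_surjective h)
  rw [hP.dim_eq hI (hP.ne_zero_of_le hQ h hQ0), hQ.dim_eq hJ hQ0] at hle
  have h2 : Q.natDegree + 1 ≤ P.natDegree + 1 := by exact_mod_cast hle
  omega

theorem isHP_ne_zero_of_dimQ_pos {p : Ideal S} [p.IsPrime] {P : Polynomial ℚ} (hP : IsHP p P)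
    (hd : 0 < dimQ k p) : P ≠ 0 := by
  rintro rfl
  obtain ⟨a, ha⟩ := hP
  have hX : ∀ i, (X i : S) ∈ p := by
    intro i
    have := finite_piece (k := k) (n := n) (a + 1)
    have h := ha (a + 1) (by omega)
    rw [Polynomial.eval_zero, hf, eq_comm, sub_eq_zero, Nat.cast_inj] at h
    have h2 := Submodule.eq_of_le_of_finrank_eq
      (inf_le_right : Submodule.restrictScalars k p ⊓ 𝒢 (a + 1) ≤ _) h.symm
    have h3 : (X i : S) ^ (a + 1) ∈ Submodule.restrictScalars k p ⊓ 𝒢 (a + 1) := by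
      rw [h2]
      exact (mem_homogeneousSubmodule _ _).2 (isHomogeneous_X_pow i _)
    exact Ideal.IsPrime.mem_of_pow_mem ‹_› _ h3.1
  have hle : irr n k ≤ p := by
    intro f hf
    rw [mem_irr] at hf
    rw [MvPolynomial.as_sum f]
    refine Ideal.sum_mem _ fun s hs => ?_
    obtain ⟨i, hi⟩ : ∃ i, s i ≠ 0 := by
      by_contra hc
      push Not at hc
      exact (mem_support_iff.1 hs) (by rw [Finsupp.ext (f := s) (g := 0) hc]; exact hf)
    refine Ideal.mem_of_dvd _ (monomial_dvd_monomial.2 ⟨Or.inr ?_, one_dvd _⟩) (hX i)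
    exact Finsupp.single_le_iff.2 (Nat.one_le_iff_ne_zero.2 hi)
  have hmax := (irr_isMaximal (n := n) (k := k)).eq_of_le ‹p.IsPrime›.ne_top hle
  rw [← hmax, dimQ_irr] at hd
  exact lt_irrefl 0 hd

theorem colon_isHomogeneous {I : Ideal S} (hI : I.IsHomogeneous 𝒢) {f : S} {d : ℕ}
    (hf : f.IsHomogeneous d) : (I.colon ({f} : Set S)).IsHomogeneous 𝒢 := by
  intro i a ha
  rw [Submodule.mem_colon_singleton, smul_eq_mul] at ha ⊢
  have h := component_mem hI ha (i + d)
  rw [decompose_apply]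
  have e : homogeneousComponent (i + d) (a * f) = homogeneousComponent i a * f := by
    conv_lhs => rw [← sum_homogeneousComponent a, Finset.sum_mul, map_sum]
    rw [Finset.sum_eq_single i]
    · rw [homogeneousComponent_of_mem ((homogeneousComponent_isHomogeneous i a).mul hf), if_pos rfl]
    · intro j _ hne
      rw [homogeneousComponent_of_mem ((homogeneousComponent_isHomogeneous j a).mul hf),
        if_neg (by omega)]
    · intro hi
      rw [Finset.mem_range] at hi
      rw [homogeneousComponent_eq_zero i a (by omega), zero_mul, map_zero]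
  rwa [e] at h

theorem sup_isHomogeneous {I : Ideal S} (hI : I.IsHomogeneous 𝒢) {f : S} {d : ℕ}
    (hf : f.IsHomogeneous d) : (I ⊔ Ideal.span {f}).IsHomogeneous 𝒢 :=
  hI.sup (span_isHomogeneous fun g hg => ⟨d, by rw [Set.mem_singleton_iff.1 hg]; exact hf⟩)

/-- Induction along homogeneous prime cyclic filtrations. -/
@[elab_as_elim]
theorem hom_induction {C : Ideal S → Prop} (top : C ⊤)
    (step : ∀ (I : Ideal S) (f : S) (d : ℕ), I.IsHomogeneous 𝒢 → f.IsHomogeneous d → f ∉ I →
      (I.colon ({f} : Set S)).IsPrime → C (I ⊔ Ideal.span {f}) → C I)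
    (I : Ideal S) (hI : I.IsHomogeneous 𝒢) : C I := by
  revert hI
  induction I using WellFoundedGT.induction with
  | _ I ih =>
  intro hI
  rcases eq_or_ne I ⊤ with rfl | hne
  · exact top
  have hex : {J : Ideal S | ∃ (f : S) (d : ℕ), f.IsHomogeneous d ∧ f ∉ I ∧
      I.colon ({f} : Set S) = J}.Nonempty :=
    ⟨_, 1, 0, isHomogeneous_one _ _, fun h => hne ((Ideal.eq_top_iff_one I).2 h), rfl⟩
  obtain ⟨J, ⟨f, d, hfd, hfI, rfl⟩, hmax⟩ :=
    set_has_maximal_iff_noetherian.2 (inferInstance : IsNoetherian S S) _ hex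
  have hp : (I.colon ({f} : Set S)).IsPrime := by
    refine (colon_isHomogeneous hI hfd).isPrime_of_homogeneous_mem_or_mem ?_ ?_
    · intro h
      exact hfI ((Submodule.colon_eq_top_iff_subset (N := I) _).1 h rfl)
    · rintro x y ⟨i, hx⟩ ⟨j, hy⟩ hxy
      by_contra hc
      push Not at hc
      obtain ⟨hxn, hyn⟩ := hc
      rw [Submodule.mem_colon_singleton, smul_eq_mul] at hxy hyn
      refine hmax (I.colon ({y * f} : Set S))
        ⟨y * f, j + d, ((mem_homogeneousSubmodule _ _).1 hy).mul hfd, hyn, rfl⟩ ?_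
      refine lt_of_le_of_ne (fun a ha => ?_) fun h => hxn ?_
      · rw [Submodule.mem_colon_singleton, smul_eq_mul] at ha ⊢
        rw [mul_left_comm]
        exact I.mul_mem_left y ha
      · rw [h, Submodule.mem_colon_singleton, smul_eq_mul, ← mul_assoc]
        exact hxy
  exact step I f d hI hfd hfI hp (ih _ (lt_of_le_of_ne le_sup_left fun h =>
    hfI (h.symm ▸ Ideal.mem_sup_right (Ideal.mem_span_singleton_self f))) (sup_isHomogeneous hI hfd))

/-- The Hilbert function along one step. -/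
theorem hf_step {I : Ideal S} (hI : I.IsHomogeneous 𝒢) {f : S} {d : ℕ}
    (hf' : f.IsHomogeneous d) {m : ℕ} (hm : d ≤ m) :
    hf I m = hf (I.colon ({f} : Set S)) (m - d) + hf (I ⊔ Ideal.span {f}) m := by
  have := finite_piece (k := k) (n := n) (m - d)
  have := finite_piece (k := k) (n := n) m
  set A := Submodule.restrictScalars k I ⊓ 𝒢 m with hA
  set B := Submodule.restrictScalars k (I ⊔ Ideal.span {f}) ⊓ 𝒢 m with hB
  set K := Submodule.restrictScalars k (I.colon ({f} : Set S)) ⊓ 𝒢 (m - d) with hK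
  have hAB : A ≤ B := fun x hx => ⟨Ideal.mem_sup_left hx.1, hx.2⟩
  have : Module.Finite k ↥B := Submodule.finiteDimensional_of_le inf_le_right
  let φ : ↥(𝒢 (m - d)) →ₗ[k] ↥B :=
    ((LinearMap.mulRight k f).comp (Submodule.subtype _)).codRestrict B fun a =>
      ⟨Ideal.mem_sup_right (Ideal.mem_span_singleton.2 ⟨a, mul_comm _ _⟩), by
        have := (a.2 : (a : S).IsHomogeneous (m - d)).mul hf'
        rwa [Nat.sub_add_cancel hm] at this⟩
  let Φ := (A.submoduleOf B).mkQ ∘ₗ φ
  have hsurj : Function.Surjective Φ := by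
    intro z
    obtain ⟨⟨b, hb1, hb2⟩, rfl⟩ := Submodule.Quotient.mk_surjective _ z
    obtain ⟨j, hj, t, ht, rfl⟩ := Submodule.mem_sup.1 hb1
    obtain ⟨a, rfl⟩ := Ideal.mem_span_singleton'.1 ht
    refine ⟨⟨homogeneousComponent (m - d) a, homogeneousComponent_mem _ _⟩, ?_⟩
    refine (Submodule.Quotient.eq _).2 ?_
    have e := homogeneousComponent_of_mem (m := m) (n := m) hb2
    rw [if_pos rfl] at e
    have e2 : homogeneousComponent m (a * f) = homogeneousComponent (m - d) a * f := by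
      conv_lhs => rw [← sum_homogeneousComponent a, Finset.sum_mul, map_sum]
      rw [Finset.sum_eq_single (m - d)]
      · rw [homogeneousComponent_of_mem ((homogeneousComponent_isHomogeneous _ a).mul hf'),
          if_pos (by omega)]
      · intro i _ hne
        rw [homogeneousComponent_of_mem ((homogeneousComponent_isHomogeneous i a).mul hf'),
          if_neg (by omega)]
      · intro hi
        rw [Finset.mem_range] at hi
        rw [homogeneousComponent_eq_zero (m - d) a (by omega), zero_mul, map_zero]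
    rw [map_add, e2] at e
    show homogeneousComponent (m - d) a * f - (j + a * f) ∈ A
    rw [← e, show homogeneousComponent (m - d) a * f -
      (homogeneousComponent m j + homogeneousComponent (m - d) a * f) = -homogeneousComponent m j by
        ring]
    exact ⟨neg_mem (component_mem hI hj m), neg_mem (homogeneousComponent_mem m j)⟩
  have hker : LinearMap.ker Φ = K.submoduleOf _ := by
    ext a
    rw [LinearMap.mem_ker]
    constructor
    · intro ha
      have hmem : (a : S) * f ∈ A := (Submodule.Quotient.mk_eq_zero (A.submoduleOf B) (x := φ a)).1 ha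
      exact ⟨Submodule.mem_colon_singleton.2 hmem.1, a.2⟩
    · intro ha
      exact (Submodule.Quotient.mk_eq_zero (A.submoduleOf B) (x := φ a)).2
        ⟨Submodule.mem_colon_singleton.1 ha.1, (φ a).2.2⟩
  have h1 := LinearMap.finrank_range_add_finrank_ker Φ
  rw [LinearMap.range_eq_top.2 hsurj, finrank_top, hker,
    (Submodule.submoduleOfEquivOfLe (inf_le_right : K ≤ _)).finrank_eq] at h1
  have h2 := Submodule.finrank_quotient_add_finrank (A.submoduleOf B)
  rw [(Submodule.submoduleOfEquivOfLe hAB).finrank_eq] at h2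
  have h1' := congrArg (Nat.cast (R := ℚ)) h1
  have h2' := congrArg (Nat.cast (R := ℚ)) h2
  push_cast at h1' h2'
  simp only [hf]
  linarith

theorem isHP_step {I : Ideal S} (hI : I.IsHomogeneous 𝒢) {f : S} {d : ℕ}
    (hf' : f.IsHomogeneous d) {Pp P' : Polynomial ℚ} (hp : IsHP (I.colon ({f} : Set S)) Pp)
    (h' : IsHP (I ⊔ Ideal.span {f}) P') :
    IsHP I (Pp.comp (Polynomial.X - Polynomial.C (d : ℚ)) + P') := by
  obtain ⟨a, ha⟩ := hp; obtain ⟨b, hb⟩ := h'
  refine ⟨max (a + d) b, fun m hm => ?_⟩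
  have h1 : a + d ≤ m := le_of_max_le_left hm
  rw [hf_step hI hf' (by omega : d ≤ m), Polynomial.eval_add, hb m (le_of_max_le_right hm),
    ← ha (m - d) (by omega)]
  simp [Nat.cast_sub (by omega : d ≤ m)]

theorem coeff_comp_shift {P : Polynomial ℚ} {t : ℕ} (h : P.natDegree ≤ t) (c : ℚ) :
    (P.comp (Polynomial.X - Polynomial.C c)).coeff t = P.coeff t := by
  have hd : (P.comp (Polynomial.X - Polynomial.C c)).natDegree = P.natDegree := by
    rw [Polynomial.natDegree_comp, Polynomial.natDegree_X_sub_C, mul_one]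
  rcases h.lt_or_eq with h | rfl
  · rw [Polynomial.coeff_eq_zero_of_natDegree_lt h, Polynomial.coeff_eq_zero_of_natDegree_lt (hd.symm ▸ h)]
  · conv_lhs => rw [← hd, Polynomial.coeff_natDegree, Polynomial.leadingCoeff_comp (by simp)]
    simp

/-- local multiplicity -/
def mult (I : Ideal S) (q : PrimeSpectrum S) : ℕ∞ :=
  Module.length (Localization.AtPrime q.asIdeal) (LocalizedModule q.asIdeal.primeCompl (S ⧸ I))

theorem mult_eq_zero {I : Ideal S} {q : PrimeSpectrum S} (h : ¬ I ≤ q.asIdeal) : mult I q = 0 := by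
  have : q ∉ Module.support S (S ⧸ I) := by
    rwa [Module.mem_support_iff_of_finite, Ideal.annihilator_quotient]
  have : Subsingleton (LocalizedModule q.asIdeal.primeCompl (S ⧸ I)) :=
    Module.notMem_support_iff.1 this
  exact Module.length_eq_zero

theorem mult_self (q : PrimeSpectrum S) : mult q.asIdeal q = 1 :=
  Groth.Agent.Lib.Cyc.LengthFormula.length_localized_quotient_eq_one q

theorem mult_step (I : Ideal S) (f : S) (q : PrimeSpectrum S) :
    mult I q = mult (I.colon ({f} : Set S)) q + mult (I ⊔ Ideal.span {f}) q := by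
  let φ : (S ⧸ I.colon ({f} : Set S)) →ₗ[S] (S ⧸ I) :=
    Submodule.mapQ _ _ (LinearMap.mulRight S f) fun a ha => Submodule.mem_colon_singleton.1 ha
  let g : (S ⧸ I) →ₗ[S] (S ⧸ (I ⊔ Ideal.span {f})) :=
    Submodule.mapQ _ _ LinearMap.id fun a ha => Ideal.mem_sup_left ha
  have hφa : ∀ a : S, φ (Submodule.Quotient.mk a) = Submodule.Quotient.mk (a * f) := fun a => rfl
  have hga : ∀ a : S, g (Submodule.Quotient.mk a) = Submodule.Quotient.mk a := fun a => rfl
  have hφ : Function.Injective φ := by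
    rw [← LinearMap.ker_eq_bot, eq_bot_iff]
    intro x hx
    obtain ⟨a, rfl⟩ := Submodule.Quotient.mk_surjective _ x
    rw [LinearMap.mem_ker] at hx
    rw [hφa, Submodule.Quotient.mk_eq_zero] at hx
    rw [Submodule.mem_bot, Submodule.Quotient.mk_eq_zero]
    exact Submodule.mem_colon_singleton.2 hx
  have hg : Function.Surjective g := fun x => by
    obtain ⟨a, rfl⟩ := Submodule.Quotient.mk_surjective _ x
    exact ⟨Submodule.Quotient.mk a, by simp [g]⟩
  have hex : Function.Exact φ g := by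
    intro x
    obtain ⟨a, rfl⟩ := Submodule.Quotient.mk_surjective _ x
    constructor
    · intro hx
      rw [hga, Submodule.Quotient.mk_eq_zero] at hx
      obtain ⟨j, hj, w, hw, rfl⟩ := Submodule.mem_sup.1 hx
      obtain ⟨b, rfl⟩ := Ideal.mem_span_singleton'.1 hw
      refine ⟨Submodule.Quotient.mk b, ?_⟩
      rw [hφa, Submodule.Quotient.eq]
      show b * f - (j + b * f) ∈ I
      rw [show b * f - (j + b * f) = -j by ring]
      exact neg_mem hj
    · rintro ⟨y, hy⟩
      obtain ⟨b, rfl⟩ := Submodule.Quotient.mk_surjective _ y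
      rw [← hy]
      rw [hφa, hga, Submodule.Quotient.mk_eq_zero]
      exact Ideal.mem_sup_right (Ideal.mem_span_singleton.2 ⟨b, mul_comm _ _⟩)
  exact Module.length_eq_add_of_exact (LocalizedModule.map q.asIdeal.primeCompl φ)
    (LocalizedModule.map q.asIdeal.primeCompl g) (LocalizedModule.map_injective _ φ hφ)
    (LocalizedModule.map_surjective _ g hg) (LocalizedModule.map_exact _ φ g hex)

/-- The top coefficient of the Hilbert polynomial as a sum over primes of that degree. -/
theorem coeff_eq_sum (t : ℕ) (Qf : PrimeSpectrum S → Polynomial ℚ) (I : Ideal S)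
    (hI : I.IsHomogeneous 𝒢) :
    ∀ (P : Polynomial ℚ), IsHP I P → P.natDegree ≤ t →
    ∀ T : Finset (PrimeSpectrum S),
      (∀ q ∈ T, q.asIdeal.IsHomogeneous 𝒢 ∧ IsHP q.asIdeal (Qf q) ∧ Qf q ≠ 0 ∧
        (Qf q).natDegree = t) →
      (∀ q : PrimeSpectrum S, q.asIdeal.IsHomogeneous 𝒢 → I ≤ q.asIdeal →
        ∀ Q, IsHP q.asIdeal Q → Q ≠ 0 → Q.natDegree = t → q ∈ T) →
      (∀ q ∈ T, mult I q ≠ ⊤) ∧
        P.coeff t = ∑ q ∈ T, ((mult I q).toNat : ℚ) * (Qf q).coeff t := by
  classical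
  refine hom_induction ?_ ?_ I hI
  · intro P hP hdeg T _ _
    have h0 : P = 0 := by
      obtain ⟨a, ha⟩ := hP
      exact eq_zero_of_eventually ⟨a, fun m hm => by rw [ha m hm, hf_top]⟩
    have hz : ∀ q : PrimeSpectrum S, mult (⊤ : Ideal S) q = 0 := fun q =>
      mult_eq_zero fun h => q.isPrime.ne_top (top_le_iff.1 h)
    exact ⟨fun q _ => by rw [hz]; exact ENat.zero_ne_top, by simp [h0, hz]⟩
  · intro I f d hI hfd hfI hp ih P hP hdeg T hT hcov
    have hph := colon_isHomogeneous hI hfd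
    have hI'h := sup_isHomogeneous hI hfd
    obtain ⟨Pp, hPp⟩ := exists_isHP hph
    obtain ⟨P', hP'⟩ := exists_isHP hI'h
    have hPeq := hP.unique (isHP_step hI hfd hPp hP')
    have hleP : I ≤ I.colon ({f} : Set S) := Ideal.le_colon
    obtain ⟨hfin, hsum⟩ := ih P' hP' ((hP.natDegree_le hI hI'h hP' le_sup_left).trans hdeg) T hT
      (fun q hq hle => hcov q hq (le_sup_left.trans hle))
    have hdp : Pp.natDegree ≤ t := (hP.natDegree_le hI hph hPp hleP).trans hdeg
    set p0 : PrimeSpectrum S := ⟨I.colon ({f} : Set S), hp⟩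
    have hm : ∀ q ∈ T, mult (I.colon ({f} : Set S)) q = if q = p0 then 1 else 0 := by
      intro q hq
      split_ifs with h
      · subst h
        exact mult_self p0
      · refine mult_eq_zero fun hle => ?_
        obtain ⟨hqh, hQ, hQ0, hQd⟩ := hT q hq
        have hlt : p0.asIdeal < q.asIdeal :=
          lt_of_le_of_ne hle fun e => h (PrimeSpectrum.ext e.symm)
        have hPp0 := hPp.ne_zero_of_le hQ hle hQ0
        have := dimQ_lt_of_lt k hlt
        rw [hQ.dimQ_eq hqh hQ0, IsHP.dimQ_eq (p := p0.asIdeal) hph hPp hPp0, hQd] at this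
        omega
    refine ⟨fun q hq => ?_, ?_⟩
    · rw [mult_step I f q, hm q hq]
      split_ifs <;> simp [hfin q hq]
    · rw [hPeq, Polynomial.coeff_add, coeff_comp_shift hdp, hsum]
      have hsp : Pp.coeff t = ∑ q ∈ T,
          ((mult (I.colon ({f} : Set S)) q).toNat : ℚ) * (Qf q).coeff t := by
        by_cases hmem : p0 ∈ T
        · rw [Finset.sum_eq_single p0 (fun q hq hne => by rw [hm q hq, if_neg hne]; simp)
            (fun h => absurd hmem h), hm p0 hmem, if_pos rfl, (hT p0 hmem).2.1.unique hPp]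
          simp
        · rw [Finset.sum_eq_zero fun q hq => by
            rw [hm q hq, if_neg (fun e : q = p0 => hmem (e ▸ hq))]; simp]
          rcases hdp.lt_or_eq with h | h
          · exact Polynomial.coeff_eq_zero_of_natDegree_lt h
          · by_contra hc
            exact hmem (hcov p0 hph hleP Pp hPp (fun e => hc (by rw [e, Polynomial.coeff_zero])) h)
      rw [hsp, ← Finset.sum_add_distrib]
      refine Finset.sum_congr rfl fun q hq => ?_
      rw [mult_step I f q, ENat.toNat_add (by rw [hm q hq]; split_ifs <;> simp) (hfin q hq)]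
      push_cast
      ring

/-- The degree of a homogeneous ideal as a sum over its minimal primes. -/
theorem degree_formula {I : Ideal S} (hI : I.IsHomogeneous 𝒢) {P : Polynomial ℚ} (hP : IsHP I P)
    {r : ℕ} (p : Fin r → Ideal S) [hp : ∀ i, (p i).IsPrime] (hinj : Function.Injective p)
    (hmin : ∀ q : Ideal S, q ∈ I.minimalPrimes ↔ ∃ i, q = p i)
    (Qp : Fin r → Polynomial ℚ) (hQ : ∀ i, IsHP (p i) (Qp i)) :
    (P.natDegree.factorial : ℚ) * P.leadingCoeff =
      ∑ i : Fin r, if (Qp i).natDegree = P.natDegree then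
        ((Qp i).natDegree.factorial : ℚ) * (Qp i).leadingCoeff *
          (Module.length (Localization.AtPrime (p i))
            (LocalizedModule (p i).primeCompl (S ⧸ I))).toNat
      else 0 := by
  classical
  set t := P.natDegree
  have hmem : ∀ i, p i ∈ I.minimalPrimes := fun i => (hmin _).2 ⟨i, rfl⟩
  have hhom : ∀ i, (p i).IsHomogeneous 𝒢 := fun i => minimalPrimes_isHomogeneous hI (hmem i)
  set φ : Fin r → PrimeSpectrum S := fun i => ⟨p i, hp i⟩
  have hφ : Function.Injective φ := fun i j h => hinj (congrArg PrimeSpectrum.asIdeal h)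
  let Qf : PrimeSpectrum S → Polynomial ℚ := fun q =>
    if h : ∃ i, φ i = q then Qp h.choose else 0
  have hQf : ∀ i, Qf (φ i) = Qp i := fun i => by
    have h : ∃ j, φ j = φ i := ⟨i, rfl⟩
    simp only [Qf, dif_pos h]
    rw [hφ h.choose_spec]
  set T := (Finset.univ.filter fun i => Qp i ≠ 0 ∧ (Qp i).natDegree = t).image φ with hTdef
  have h1 : ∀ q ∈ T, q.asIdeal.IsHomogeneous 𝒢 ∧ IsHP q.asIdeal (Qf q) ∧ Qf q ≠ 0 ∧
      (Qf q).natDegree = t := by
    intro q hq
    simp only [hTdef, Finset.mem_image, Finset.mem_filter, Finset.mem_univ, true_and] at hq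
    obtain ⟨i, ⟨h0, hd⟩, rfl⟩ := hq
    rw [hQf]
    exact ⟨hhom i, hQ i, h0, hd⟩
  have h2 : ∀ q : PrimeSpectrum S, q.asIdeal.IsHomogeneous 𝒢 → I ≤ q.asIdeal →
      ∀ Q, IsHP q.asIdeal Q → Q ≠ 0 → Q.natDegree = t → q ∈ T := by
    intro q hqh hIq Q hQ' hQ0 hQd
    obtain ⟨p₁, hp₁, hle⟩ := Ideal.exists_minimalPrimes_le hIq
    obtain ⟨i, rfl⟩ := (hmin _).1 hp₁
    have h0 := (hQ i).ne_zero_of_le hQ' hle hQ0
    have hd : (Qp i).natDegree = t := by
      refine le_antisymm (hP.natDegree_le hI (hhom i) (hQ i) hp₁.1.2) ?_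
      rw [← hQd]
      exact (hQ i).natDegree_le (hhom i) hqh hQ' hle
    have : p i = q.asIdeal := by
      by_contra hne
      have := dimQ_lt_of_lt k (lt_of_le_of_ne hle hne)
      rw [hQ'.dimQ_eq hqh hQ0, (hQ i).dimQ_eq (hhom i) h0] at this
      omega
    simp only [hTdef, Finset.mem_image, Finset.mem_filter, Finset.mem_univ, true_and]
    exact ⟨i, ⟨h0, hd⟩, PrimeSpectrum.ext this⟩
  obtain ⟨-, hsum⟩ := coeff_eq_sum t Qf I hI P hP le_rfl T h1 h2
  rw [hTdef, Finset.sum_image hφ.injOn, Finset.sum_filter] at hsum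
  rw [show P.leadingCoeff = P.coeff t from rfl, hsum, Finset.mul_sum]
  refine Finset.sum_congr rfl fun i _ => ?_
  by_cases h : (Qp i).natDegree = t
  · rcases eq_or_ne (Qp i) 0 with h0 | h0
    · simp [h0]
    · rw [if_pos ⟨h0, h⟩, if_pos h, hQf, Polynomial.leadingCoeff, h, mult]
      ring
  · rw [if_neg (fun e => h e.2), if_neg h, mul_zero]

end Groth.Agent.H2.HilbDegree
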