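import Groth.Agent.Lib.PBasis.Field
import Mathlib.RingTheory.IntegralClosure.IntegrallyClosed
import Mathlib.RingTheory.DiscreteValuationRing.Basic
import Mathlib.RingTheory.Localization.FractionRing
import Mathlib.Algebra.CharP.Subring
import Mathlib.Algebra.CharP.Frobenius
import Mathlib.Algebra.Field.Subfield.Basic

/-!
# Elements with vanishing differential; discrete valuation rings with `[K : K^p] = p`
-/

namespace Groth.Agent.H2.KaehlerPow

open Finset

universe u

variable {K : Type u} [Field K] (p : ℕ) [Fact p.Prime] [CharP K p]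

/-- The prime subfield. -/
abbrev Prime₀ (K : Type u) [Field K] : Subfield K := ⊥

lemma mem_pow_of_mem_prime {x : K} (hx : x ∈ (⊥ : Subfield K)) : ∃ y : K, y ^ p = x := by
  have : (⊥ : Subfield K) ≤ (frobenius K p).fieldRange := bot_le
  exact RingHom.mem_fieldRange.1 (this hx)

lemma D_ne_zero {s : K} (hs : ∀ y : K, y ^ p ≠ s) : KaehlerDifferential.D (Prime₀ K) K s ≠ 0 := by
  have hind : EGA41.IsPIndependent p (Prime₀ K) (fun _ : PUnit.{u+1} => s) := by
    rw [Groth.Agent.Lib.PBasis.Field.isPIndependent_iff]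
    intro a hmem
    have hle : Groth.Agent.Lib.PBasis.Field.FF p (Prime₀ K)
        ((fun _ : PUnit.{u+1} => s) '' {b | b ≠ a}) ≤
        (frobenius K p).fieldRange.toIntermediateField (fun r => mem_pow_of_mem_prime p r.2) := by
      refine IntermediateField.adjoin_le_iff.2 (Set.union_subset ?_ ?_)
      · rintro _ ⟨y, rfl⟩; exact RingHom.mem_fieldRange.2 ⟨y, rfl⟩
      · rintro _ ⟨b, hb, rfl⟩; exact absurd (Subsingleton.elim b a) hb
    obtain ⟨y, hy⟩ := RingHom.mem_fieldRange.1 (hle hmem)
    exact hs y hy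
  exact (Groth.Agent.Lib.PBasis.Field.isPIndependent_iff_D.1 hind).ne_zero PUnit.unit

/-- The derivation `A → Ω[K⁄k]` over `ℤ`. -/
noncomputable def derivOfAlg (k : Type u) [Field k] [Algebra k K] (A : Type u) [CommRing A] [Algebra A K] :
    Derivation ℤ A (Ω[K⁄k]) where
  toLinearMap := ((KaehlerDifferential.D k K).toLinearMap.toAddMonoidHom.comp
    (algebraMap A K).toAddMonoidHom).toIntLinearMap
  map_one_eq_zero' := by simp
  leibniz' a b := by simp [algebraMap_smul]

theorem exists_pow_eq {A : Type u} [CommRing A] [IsDomain A] [IsIntegrallyClosed A] [CharP A p]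
    (s : A) (hs : KaehlerDifferential.D ℤ A s = 0) : ∃ f : A, f ^ p = s := by
  haveI : CharP (FractionRing A) p :=
    charP_of_injective_algebraMap (IsFractionRing.injective A (FractionRing A)) p
  by_cases h : ∀ y : FractionRing A, y ^ p ≠ algebraMap A _ s
  · exfalso
    apply D_ne_zero p h
    let D := derivOfAlg (K := FractionRing A) (Prime₀ (FractionRing A)) A
    have e := Derivation.liftKaehlerDifferential_comp_D D s
    rw [hs, map_zero] at e
    exact e.symm
  · push Not at h
    obtain ⟨y, hy⟩ := h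
    obtain ⟨f, rfl⟩ := IsIntegrallyClosed.isIntegral_iff.1
      (IsIntegral.of_pow (Fact.out : p.Prime).pos (hy ▸ isIntegral_algebraMap) : IsIntegral A y)
    exact ⟨f, IsFractionRing.injective A (FractionRing A) (by rw [map_pow]; exact hy)⟩

section DVR

variable {R : Type u} [CommRing R] [IsDomain R] [IsDiscreteValuationRing R] [CharP R p]

omit [CharP R p] in
lemma dvd_all {π : R} (hπ : Irreducible π) (c : Fin p → R)
    (h : π ^ p ∣ ∑ i : Fin p, π ^ (i : ℕ) * c i ^ p) : ∀ i, π ∣ c i := by
  have hp := (Fact.out : p.Prime)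
  by_contra hne
  push Not at hne
  classical
  obtain ⟨i, hi, hmin⟩ := (univ.filter fun i => ¬ π ∣ c i).exists_min_image (fun i => (i : ℕ))
    (by obtain ⟨i, hi⟩ := hne; exact ⟨i, mem_filter.2 ⟨mem_univ _, hi⟩⟩)
  rw [mem_filter] at hi
  have hsum : π ^ ((i : ℕ) + 1) ∣ ∑ j ∈ univ.erase i, π ^ (j : ℕ) * c j ^ p := by
    refine dvd_sum fun j hj => ?_
    rcases lt_or_ge (i : ℕ) (j : ℕ) with hlt | hge
    · exact (pow_dvd_pow π hlt).mul_right _
    · have hj' : π ∣ c j := by
        by_contra hc
        have := hmin j (mem_filter.2 ⟨mem_univ _, hc⟩)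
        exact (mem_erase.1 hj).1 (Fin.ext (le_antisymm hge this))
      exact dvd_mul_of_dvd_right ((pow_dvd_pow π i.2).trans (pow_dvd_pow_of_dvd hj' p)) _
  have := dvd_sub ((pow_dvd_pow π i.2).trans h) hsum
  rw [← sum_erase_add _ _ (mem_univ i), add_sub_cancel_left, pow_succ,
    mul_dvd_mul_iff_left (pow_ne_zero _ hπ.ne_zero)] at this
  exact hi.2 (hπ.prime.dvd_of_dvd_pow this)

omit [CharP R p] in
lemma eq_zero_of_sum {π : R} (hπ : Irreducible π) (c : Fin p → R)
    (h : ∑ i : Fin p, π ^ (i : ℕ) * c i ^ p = 0) : c = 0 := by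
  have key : ∀ (n : ℕ) (c : Fin p → R), ∑ i : Fin p, π ^ (i : ℕ) * c i ^ p = 0 → ∀ i, π ^ n ∣ c i := by
    intro n
    induction n with
    | zero => intros; simp
    | succ n ih =>
      intro c hc i
      choose d hd using dvd_all p hπ c (hc ▸ dvd_zero _)
      have : π ^ p * ∑ i : Fin p, π ^ (i : ℕ) * d i ^ p = 0 := by
        rw [mul_sum, ← hc]
        refine sum_congr rfl fun i _ => ?_
        rw [hd i]; ring
      obtain ⟨e, he⟩ := ih d ((mul_eq_zero.1 this).resolve_left (pow_ne_zero _ hπ.ne_zero)) i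
      exact ⟨e, by rw [hd i, he]; ring⟩
  funext i
  by_contra hne
  obtain ⟨n, u, hu⟩ := IsDiscreteValuationRing.eq_unit_mul_pow_irreducible (x := c i) hne hπ
  have := key (n + 1) c h i
  rw [hu, u.isUnit.dvd_mul_left, pow_dvd_pow_iff hπ.ne_zero hπ.not_isUnit] at this
  omega

theorem dvr_kaehler (kp : Subfield (FractionRing R))
    (hkp : ∀ x : FractionRing R, x ∈ kp ↔ ∃ y : FractionRing R, y ^ p = x)
    (hdeg : Module.finrank kp (FractionRing R) = p) (π : R) (hπ : Irreducible π) :
    (∀ r : R, ∃! c : Fin p → R, r = ∑ i : Fin p, π ^ (i : ℕ) * c i ^ p) ∧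
      Function.Bijective (fun r : R => r • KaehlerDifferential.D ℤ R π) := by
  classical
  have hp := (Fact.out : p.Prime)
  haveI : CharP (FractionRing R) p :=
    charP_of_injective_algebraMap (IsFractionRing.injective R (FractionRing R)) p
  let f := algebraMap R (FractionRing R)
  have hf : Function.Injective f := IsFractionRing.injective R (FractionRing R)
  -- common denominators
  have hden : ∀ y : Fin p → FractionRing R, ∃ (N : ℕ) (c : Fin p → R), ∀ i, y i * f π ^ N = f (c i) := by
    intro y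
    have h1 : ∀ i, ∃ (n : ℕ) (c : R), y i * f π ^ n = f c := by
      intro i
      obtain ⟨a, b, hb, hab⟩ := IsFractionRing.div_surjective (A := R) (y i)
      obtain ⟨n, u, hu⟩ := IsDiscreteValuationRing.eq_unit_mul_pow_irreducible (nonZeroDivisors.ne_zero hb) hπ
      refine ⟨n, a * (u⁻¹ : Rˣ), ?_⟩
      rw [← hab, hu, map_mul, map_mul, map_pow]
      have hu0 : f (u : R) ≠ 0 := (u.isUnit.map f).ne_zero
      have hn0 : f π ^ n ≠ 0 := pow_ne_zero _ (by simpa using (map_ne_zero_iff f hf).2 hπ.ne_zero)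
      have hi : f ((u⁻¹ : Rˣ) : R) * f (u : R) = 1 := by rw [← map_mul, u.inv_mul, map_one]
      rw [div_mul_eq_mul_div, div_eq_iff (mul_ne_zero hu0 hn0)]
      linear_combination (-(f a * f π ^ n)) * hi
    choose n c hc using h1
    refine ⟨univ.sum n, fun i => c i * π ^ (univ.sum n - n i), fun i => ?_⟩
    rw [map_mul, map_pow, ← hc i, mul_assoc, ← pow_add,
      Nat.add_sub_cancel' (single_le_sum (fun j _ => Nat.zero_le (n j)) (mem_univ i))]
  have hind : LinearIndependent kp (fun i : Fin p => f π ^ (i : ℕ)) := by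
    rw [Fintype.linearIndependent_iff]
    intro g hg
    choose y hy using fun i => (hkp _).1 (g i).2
    obtain ⟨N, c, hc⟩ := hden y
    have h0 : c = 0 := eq_zero_of_sum p hπ c <| hf <| by
      rw [map_zero, map_sum]
      calc ∑ i : Fin p, f (π ^ (i : ℕ) * c i ^ p) = (∑ i : Fin p, g i • f π ^ (i : ℕ)) * f π ^ (N * p) := by
            rw [sum_mul]
            refine sum_congr rfl fun i _ => ?_
            rw [map_mul, map_pow, map_pow, ← hc i, mul_pow, ← pow_mul, hy i, Subfield.smul_def, smul_eq_mul]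
            ring
        _ = 0 := by rw [hg, zero_mul]
    intro i
    have hyi : y i = 0 := by
      have := hc i
      rw [h0, Pi.zero_apply, map_zero] at this
      exact (mul_eq_zero.1 this).resolve_right
        (pow_ne_zero _ ((map_ne_zero_iff f hf).2 hπ.ne_zero))
    exact Subtype.ext (by rw [← hy i, hyi, zero_pow hp.ne_zero]; rfl)
  haveI : Nonempty (Fin p) := ⟨⟨0, hp.pos⟩⟩
  have hspan := hind.span_eq_top_of_card_eq_finrank (by rw [Fintype.card_fin, hdeg])
  have exist : ∀ r : R, ∃ c : Fin p → R, r = ∑ i : Fin p, π ^ (i : ℕ) * c i ^ p := by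
    intro r
    obtain ⟨g, hg⟩ := (Submodule.mem_span_range_iff_exists_fun kp).1
      (hspan.ge (Submodule.mem_top (x := f r)))
    choose y hy using fun i => (hkp _).1 (g i).2
    obtain ⟨N, c, hc⟩ := hden y
    have key : ∀ (N : ℕ) (c : Fin p → R), r * π ^ (N * p) = ∑ i : Fin p, π ^ (i : ℕ) * c i ^ p →
        ∃ d : Fin p → R, r = ∑ i : Fin p, π ^ (i : ℕ) * d i ^ p := by
      intro N
      induction N with
      | zero => intro c hc; exact ⟨c, by simpa using hc⟩
      | succ N ih =>
        intro c hc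
        choose d hd using dvd_all p hπ c (hc ▸ (pow_dvd_pow π (by rw [add_mul, one_mul]; omega)).mul_left r)
        refine ih d (mul_left_cancel₀ (pow_ne_zero p hπ.ne_zero) ?_)
        rw [mul_sum, ← mul_assoc, mul_comm (π ^ p) r, mul_assoc, ← pow_add,
          show p + N * p = (N + 1) * p by ring, hc]
        exact sum_congr rfl fun i _ => by rw [hd i]; ring
    refine key N c (hf ?_)
    rw [map_mul, map_pow, map_sum, ← hg, sum_mul]
    refine sum_congr rfl fun i _ => ?_
    rw [map_mul, map_pow, map_pow, ← hc i, mul_pow, ← pow_mul, hy i, Subfield.smul_def, smul_eq_mul]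
    ring
  refine ⟨fun r => ?_, ?_, ?_⟩
  · obtain ⟨c, hc⟩ := exist r
    refine ⟨c, hc, fun d hd => sub_eq_zero.1 (eq_zero_of_sum p hπ (d - c) ?_)⟩
    simp only [Pi.sub_apply, sub_pow_char, mul_sub, sum_sub_distrib]
    rw [← hd, ← hc, sub_self]
  · intro a b hab
    by_contra hne
    apply D_ne_zero p (K := FractionRing R) (s := f π) ?_
    · let D := derivOfAlg (K := FractionRing R) (Prime₀ (FractionRing R)) R
      have e := congrArg D.liftKaehlerDifferential hab
      simp only [map_smul, Derivation.liftKaehlerDifferential_comp_D] at e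
      rw [← sub_eq_zero, ← sub_smul] at e
      rw [← algebraMap_smul (FractionRing R) (a - b)] at e
      exact (smul_eq_zero.1 e).resolve_left ((map_ne_zero_iff f hf).2 (sub_ne_zero.2 hne))
    · intro y hy
      have h1 := Fintype.linearIndependent_iff.1 hind
        (fun i => if (i : ℕ) = 1 then 1 else if (i : ℕ) = 0 then -⟨f π, (hkp _).2 ⟨y, hy⟩⟩ else 0) ?_
        ⟨1, hp.one_lt⟩
      · simp at h1
      · rw [sum_eq_add (⟨1, hp.one_lt⟩ : Fin p) ⟨0, hp.pos⟩ (by simp)]
        · simp [Subfield.smul_def]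
        · rintro i _ ⟨h1, h0⟩
          rw [if_neg (fun h => h1 (Fin.ext h)), if_neg (fun h => h0 (Fin.ext h)), zero_smul]
        · simp
        · simp
  · intro ω
    obtain ⟨a, rfl⟩ : ∃ a : R, a • KaehlerDifferential.D ℤ R π = ω := by
      rw [← Submodule.mem_span_singleton]
      have : ω ∈ Submodule.span R (Set.range (KaehlerDifferential.D ℤ R)) := by
        rw [KaehlerDifferential.span_range_derivation]; trivial
      refine Submodule.span_le.2 ?_ this
      rintro _ ⟨x, rfl⟩
      obtain ⟨c, rfl⟩ := exist x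
      rw [map_sum]
      refine Submodule.sum_mem _ fun i _ => ?_
      rw [Derivation.leibniz, Derivation.leibniz_pow, Derivation.leibniz_pow,
        ← Nat.cast_smul_eq_nsmul R p, CharP.cast_eq_zero, zero_smul, smul_zero, zero_add]
      exact Submodule.smul_mem _ _ (Submodule.smul_of_tower_mem _ _
        (Submodule.smul_mem _ _ (Submodule.mem_span_singleton_self _)))
    exact ⟨a, rfl⟩

end DVR

end Groth.Agent.H2.KaehlerPow
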