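import Groth.Agent.Lib.WildAS.Purity
import Mathlib.RingTheory.Flat.EquationalCriterion
import Mathlib.RingTheory.RingHom.Flat
import Mathlib.RingTheory.KrullDimension.Regular
import Mathlib.RingTheory.Filtration
import Mathlib.Algebra.CharP.Lemmas
import Mathlib.Algebra.CharP.Algebra

/-!
# Kunz's theorem
-/

set_option autoImplicit false
set_option linter.style.haveILetI false
set_option linter.unusedSectionVars false

universe u

open IsLocalRing

namespace Groth.Agent.H2.Kunz

variable {R : Type u} [CommRing R]

/-- Every relation has its coefficients in the ideal of the family (Lech). -/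
def Indep {n : ℕ} (f : Fin n → R) : Prop :=
  ∀ c : Fin n → R, ∑ i, c i * f i = 0 → ∀ i, c i ∈ Ideal.span (Set.range f)

theorem Indep.update {n : ℕ} {f : Fin n → R} (hf : Indep f) (j : Fin n) {g h : R} (hgh : f j = g * h) :
    Indep (Function.update f j g) := by
  classical
  intro c hc
  let f' := Function.update f j g
  have hle : Ideal.span (Set.range f) ≤ Ideal.span (Set.range f') := by
    rw [Ideal.span_le]
    rintro _ ⟨i, rfl⟩
    by_cases hi : i = j
    · subst hi
      rw [hgh]
      exact Ideal.mul_mem_right _ _ (Ideal.subset_span ⟨i, Function.update_self ..⟩)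
    · exact Ideal.subset_span ⟨i, Function.update_of_ne hi ..⟩
  have h1 := hf (Function.update (fun i => c i * h) j (c j)) (by
    rw [← zero_mul h, ← hc, Finset.sum_mul]
    refine Finset.sum_congr rfl fun i _ => ?_
    by_cases hi : i = j
    · subst hi; simp [hgh]; ring
    · simp [hi]; ring) j
  rw [Function.update_self] at h1
  obtain ⟨u, hu⟩ := (Ideal.mem_span_range_iff_exists_fun).1 h1
  let d : Fin n → R := Function.update (fun i => c i + u i * g) j (u j * g)
  have h2 := hf d (by
    have e : ∀ i, c i * f' i + (if i = j then -(c j * g) else 0) + u i * g * f i = d i * f i := fun i => by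
      by_cases hi : i = j
      · subst hi; simp [f', d]
      · simp [f', d, hi]; ring
    rw [← Finset.sum_congr rfl fun i _ => e i, Finset.sum_add_distrib, Finset.sum_add_distrib, hc,
      Finset.sum_ite_eq' Finset.univ j, if_pos (Finset.mem_univ j), zero_add,
      show ∑ i, u i * g * f i = (∑ i, u i * f i) * g by
        rw [Finset.sum_mul]; exact Finset.sum_congr rfl fun i _ => by ring, hu]
    ring)
  intro i
  by_cases hi : i = j
  · subst hi; exact hle h1
  · have h3 := sub_mem (hle (h2 i))
      (Ideal.mul_mem_left _ (u i) (Ideal.subset_span ⟨j, Function.update_self j g f⟩))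
    simpa [d, hi] using h3

theorem isRegular_of_indep [IsLocalRing R] [IsNoetherianRing R] {n : ℕ} (x : Fin n → R)
    (hx : ∀ i, x i ∈ maximalIdeal R)
    (h : ∀ N : ℕ, ∃ q, N ≤ q ∧ 0 < q ∧ Indep fun i => x i ^ q) :
    RingTheory.Sequence.IsRegular R (List.ofFn x) := by
  classical
  have stage : ∀ q, 0 < q → (Indep fun i => x i ^ q) → ∀ j, j ≤ n →
      Indep fun i => if (i : ℕ) < j then x i else x i ^ q := by
    intro q hq h0 j
    induction j with
    | zero => intro _; simpa using h0
    | succ j ih =>
      intro hj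
      have := (ih (by omega)).update ⟨j, hj⟩ (g := x ⟨j, hj⟩) (h := x ⟨j, hj⟩ ^ (q - 1)) (by
        simp only [lt_irrefl, if_false]
        rw [← pow_succ', Nat.sub_add_cancel hq])
      convert this using 1
      funext i
      by_cases hi : i = ⟨j, hj⟩
      · subst hi; simp
      · have : (i : ℕ) ≠ j := fun e => hi (Fin.ext e)
        rw [Function.update_of_ne hi]
        simp only [show (i : ℕ) < j + 1 ↔ (i : ℕ) < j from by omega]
  refine ⟨⟨fun j hj => ?_⟩, ?_⟩
  · rw [List.length_ofFn] at hj
    let J := Ideal.span (Set.range fun i : Fin n => if (i : ℕ) < j then x i else 0)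
    have hJ : (Ideal.ofList ((List.ofFn x).take j) • ⊤ : Submodule R R) = J := by
      rw [smul_eq_mul, Ideal.mul_top, Ideal.ofList]
      refine le_antisymm (Ideal.span_le.2 fun y hy => ?_) (Ideal.span_le.2 ?_)
      · obtain ⟨i, hi, rfl⟩ := List.mem_iff_getElem.1 hy
        rw [List.length_take, List.length_ofFn] at hi
        exact Ideal.subset_span ⟨⟨i, by omega⟩, by simp [show i < j by omega]⟩
      · rintro _ ⟨i, rfl⟩
        simp only
        split_ifs with hi
        · refine Ideal.subset_span (List.mem_iff_getElem.2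
            ⟨i, by rw [List.length_take, List.length_ofFn]; exact lt_min hi i.2, ?_⟩)
          simp
        · exact zero_mem _
    refine isSMulRegular_iff_right_eq_zero_of_smul.2 fun z hz => ?_
    obtain ⟨a, rfl⟩ := Submodule.mkQ_surjective _ z
    rw [← map_smul, Submodule.mkQ_apply, Submodule.Quotient.mk_eq_zero, hJ, List.getElem_ofFn,
      smul_eq_mul] at hz
    rw [Submodule.mkQ_apply, Submodule.Quotient.mk_eq_zero, hJ]
    suffices hK : Submodule.Quotient.mk a ∈ ⨅ N : ℕ, maximalIdeal R ^ N • (⊤ : Submodule R (R ⧸ J)) by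
      rw [Ideal.iInf_pow_smul_eq_bot_of_isLocalRing _ (IsLocalRing.maximalIdeal.isMaximal R).ne_top,
        Submodule.mem_bot, Submodule.Quotient.mk_eq_zero] at hK
      exact hK
    rw [Submodule.mem_iInf]
    intro N
    obtain ⟨q, hNq, hq, hind⟩ := h N
    let T : Fin n → R := fun i => if (i : ℕ) < j then x i else x i ^ q
    have hTle : Ideal.span (Set.range T) ≤ J ⊔ maximalIdeal R ^ N := Ideal.span_le.2 (by
      rintro _ ⟨i, rfl⟩
      simp only [T]
      split_ifs with hi
      · exact Ideal.mem_sup_left (Ideal.subset_span ⟨i, by simp [hi]⟩)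
      · exact Ideal.mem_sup_right (Ideal.pow_le_pow_right hNq (Ideal.pow_mem_pow (hx i) q)))
    obtain ⟨cJ, hcJ⟩ := Ideal.mem_span_range_iff_exists_fun.1 (show a * x ⟨j, hj⟩ ^ q ∈ J by
      have := J.mul_mem_left (x ⟨j, hj⟩ ^ (q - 1)) hz
      rw [show a * x ⟨j, hj⟩ ^ q = x ⟨j, hj⟩ ^ (q - 1) * (x ⟨j, hj⟩ * a) by
        rw [← mul_assoc, ← pow_succ, Nat.sub_add_cancel hq, mul_comm]]
      exact this)
    let c : Fin n → R := fun i => (if i = ⟨j, hj⟩ then a else 0) - (if (i : ℕ) < j then cJ i else 0)
    have hsum : ∑ i, c i * T i = 0 := by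
      have e : ∀ i, c i * T i = (if i = ⟨j, hj⟩ then a * x ⟨j, hj⟩ ^ q else 0) -
          cJ i * (if (i : ℕ) < j then x i else 0) := fun i => by
        by_cases hi : i = ⟨j, hj⟩
        · subst hi; simp [c, T]
        · simp only [c, T, if_neg hi, zero_sub]
          split_ifs <;> ring
      rw [Finset.sum_congr rfl fun i _ => e i, Finset.sum_sub_distrib, Finset.sum_ite_eq',
        if_pos (Finset.mem_univ _), hcJ, sub_self]
    have hc := hTle (stage q hq hind j (by omega) c hsum ⟨j, hj⟩)
    simp only [c, if_pos, lt_irrefl, if_false, sub_zero] at hc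
    obtain ⟨b, hb, m, hm, rfl⟩ := Submodule.mem_sup.1 hc
    rw [Submodule.Quotient.mk_add, (Submodule.Quotient.mk_eq_zero J).2 hb, zero_add]
    show Submodule.Quotient.mk m ∈ _
    rw [show (Submodule.Quotient.mk m : R ⧸ J) = m • (Submodule.Quotient.mk 1) by
      rw [← Submodule.Quotient.mk_smul, smul_eq_mul, mul_one]]
    exact Submodule.smul_mem_smul hm Submodule.mem_top
  · intro htop
    have : (1 : R) ∈ maximalIdeal R := by
      have h1 : (1 : R) ∈ Ideal.ofList (List.ofFn x) • (⊤ : Submodule R R) := htop ▸ Submodule.mem_top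
      rw [smul_eq_mul, Ideal.mul_top] at h1
      refine (Ideal.span_le.2 ?_) h1
      intro y hy
      obtain ⟨i, rfl⟩ := (List.mem_ofFn' x y).1 hy
      exact hx i
    exact (IsLocalRing.maximalIdeal.isMaximal R).ne_top ((Ideal.eq_top_iff_one _).2 this)

variable (p : ℕ) [Fact p.Prime] [CharP R p]

theorem iterate_flat (h : (frobenius R p).Flat) : ∀ e : ℕ, (iterateFrobenius R p e).Flat
  | 0 => by
    rw [show iterateFrobenius R p 0 = RingHom.id R from RingHom.ext fun x => by simp [iterateFrobenius_def]]
    exact RingHom.Flat.id R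
  | e + 1 => by
    rw [show iterateFrobenius R p (e + 1) = (frobenius R p).comp (iterateFrobenius R p e) from
      RingHom.ext fun x => by
        simp only [iterateFrobenius_def, frobenius_def, RingHom.comp_apply, ← pow_mul, pow_succ]]
    exact (iterate_flat h e).comp h

theorem trivial_relation {S : Type u} [CommRing S] (φ : R →+* S) (h : φ.Flat) {l : ℕ} (f : Fin l → R)
    (c : Fin l → S) (hc : ∑ i, φ (f i) * c i = 0) :
    ∃ (m : ℕ) (a : Fin l → Fin m → R) (y : Fin m → S),
      (∀ i, c i = ∑ j, φ (a i j) * y j) ∧ ∀ j, ∑ i, f i * a i j = 0 := by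
  letI := φ.toAlgebra
  haveI : Module.Flat R S := h
  obtain ⟨m, a, y, h1, h2⟩ := Module.Flat.iff_forall_isTrivialRelation.1 ‹Module.Flat R S› (f := f) (x := c) (by
    simpa [Algebra.smul_def, RingHom.algebraMap_toAlgebra] using hc)
  exact ⟨m, a, y, fun i => by simpa [Algebra.smul_def, RingHom.algebraMap_toAlgebra] using h1 i, h2⟩

theorem indep_powers [IsLocalRing R] [IsNoetherianRing R] {n : ℕ} (x : Fin n → R)
    (hx : Ideal.span (Set.range x) = maximalIdeal R)
    (hn : (maximalIdeal R).spanFinrank = n) (hF : (frobenius R p).Flat) (e : ℕ) :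
    Indep fun i => x i ^ p ^ e := by
  classical
  intro c hc i
  obtain ⟨m, a, y, h1, h2⟩ := trivial_relation (iterateFrobenius R p e) (iterate_flat p hF e) x c (by
    rw [← hc]
    exact Finset.sum_congr rfl fun i _ => by rw [iterateFrobenius_def, mul_comm])
  have hm : ∀ i j, a i j ∈ maximalIdeal R := by
    intro i j
    by_contra hu
    obtain ⟨u, hu'⟩ : IsUnit (a i j) := by simpa using hu
    have hxi : x i ∈ Ideal.span ((Finset.univ.erase i).image x : Set R) := by
      have e1 : x i * a i j = - ∑ k ∈ Finset.univ.erase i, x k * a k j := by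
        rw [eq_neg_iff_add_eq_zero, ← h2 j]
        exact Finset.add_sum_erase _ (fun k => x k * a k j) (Finset.mem_univ i)
      have h3 : x i * a i j ∈ Ideal.span ((Finset.univ.erase i).image x : Set R) := by
        rw [e1]
        exact neg_mem (sum_mem fun k hk => Ideal.mul_mem_right _ _
          (Ideal.subset_span (Finset.mem_coe.2 (Finset.mem_image_of_mem x hk))))
      rw [← hu'] at h3
      simpa [mul_assoc] using Ideal.mul_mem_right ((u⁻¹ : Rˣ) : R) _ h3
    have hle : maximalIdeal R = Ideal.span ((Finset.univ.erase i).image x : Set R) := by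
      refine le_antisymm ?_ ?_
      · rw [← hx, Ideal.span_le]
        rintro _ ⟨k, rfl⟩
        by_cases hk : k = i
        · subst hk; exact hxi
        · exact Ideal.subset_span (Finset.mem_coe.2 (Finset.mem_image_of_mem x (by simp [hk])))
      · rw [← hx]
        refine Ideal.span_mono ?_
        simp [Finset.coe_image]
    have h4 := Submodule.spanFinrank_span_le_ncard_of_finite (R := R)
      ((Finset.univ.erase i).image x).finite_toSet
    rw [show Submodule.span R ((Finset.univ.erase i).image x : Set R) = maximalIdeal R from hle.symm, hn,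
      Set.ncard_coe_finset] at h4
    have h5 := h4.trans Finset.card_image_le
    rw [Finset.card_erase_of_mem (Finset.mem_univ i), Finset.card_univ, Fintype.card_fin] at h5
    have := i.pos
    omega
  rw [h1 i]
  refine sum_mem fun j _ => Ideal.mul_mem_right _ _ ?_
  obtain ⟨b, hb⟩ := Ideal.mem_span_range_iff_exists_fun.1 (hx ▸ hm i j)
  rw [← hb, map_sum]
  refine sum_mem fun k _ => ?_
  rw [map_mul, iterateFrobenius_def, iterateFrobenius_def]
  exact Ideal.mul_mem_left _ _ (Ideal.subset_span ⟨k, rfl⟩)

theorem regular_of_flat [IsLocalRing R] [IsNoetherianRing R] (hF : (frobenius R p).Flat) :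
    IsRegularLocalRing R := by
  classical
  have hfg : (maximalIdeal R).FG := IsNoetherian.noetherian _
  let s := (Submodule.FG.finite_generators hfg).toFinset
  have hcard : s.card = (maximalIdeal R).spanFinrank := by
    rw [← Set.ncard_eq_toFinset_card _ (Submodule.FG.finite_generators hfg), Submodule.FG.generators_ncard hfg]
  let x : Fin s.card → R := fun i => (s.equivFin.symm i : R)
  have hx : Ideal.span (Set.range x) = maximalIdeal R := by
    rw [show Set.range x = Submodule.generators (maximalIdeal R) from ?_]
    · exact Submodule.span_generators _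
    · ext y
      constructor
      · rintro ⟨i, rfl⟩
        exact (Set.Finite.mem_toFinset _).1 (s.equivFin.symm i).2
      · intro hy
        exact ⟨s.equivFin ⟨y, (Set.Finite.mem_toFinset _).2 hy⟩, by simp [x]⟩
  have hreg := isRegular_of_indep x (fun i => hx ▸ Ideal.subset_span ⟨i, rfl⟩) fun N =>
    ⟨p ^ N, (Nat.lt_pow_self (Fact.out : p.Prime).one_lt).le, pow_pos (Fact.out : p.Prime).pos _,
      indep_powers p x hx hcard.symm hF N⟩
  have hdim := ringKrullDim_add_length_eq_ringKrullDim_of_isRegular (List.ofFn x) hreg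
  refine IsRegularLocalRing.of_spanFinrank_maximalIdeal_le (R := R) ?_
  rw [← hdim, List.length_ofFn, ← hcard]
  haveI : Nontrivial (R ⧸ Ideal.ofList (List.ofFn x)) := Ideal.Quotient.nontrivial_iff.2 fun h =>
    hreg.top_ne_smul (by rw [smul_eq_mul, Ideal.mul_top, h])
  exact le_add_of_nonneg_left ringKrullDim_nonneg_of_nontrivial

theorem comap_frobenius (P : Ideal R) [P.IsPrime] : P.comap (frobenius R p) = P := by
  ext z
  rw [Ideal.mem_comap, frobenius_def]
  exact Ideal.IsPrime.pow_mem_iff_mem ‹_› p (Fact.out : p.Prime).pos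

theorem localRingHom_frobenius (P : Ideal R) [P.IsPrime] [CharP (Localization.AtPrime P) p] :
    Localization.localRingHom P P (frobenius R p) (comap_frobenius p P).symm =
      frobenius (Localization.AtPrime P) p := by
  refine IsLocalization.ringHom_ext P.primeCompl (RingHom.ext fun a => ?_)
  simp only [RingHom.comp_apply, Localization.localRingHom_to_map, frobenius_def, map_pow]

theorem charP_localization (P : Ideal R) [P.IsPrime] : CharP (Localization.AtPrime P) p :=
  haveI : Nontrivial (Localization.AtPrime P) := inferInstance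
  (CharP.charP_iff_prime_eq_zero (Fact.out : p.Prime)).2
    (by rw [← map_natCast (algebraMap R (Localization.AtPrime P)), CharP.cast_eq_zero, map_zero])

theorem flat_congr {S : Type u} [CommRing S] (f : R →+* S) (P : Ideal S) [P.IsPrime] (Q : Ideal R) [Q.IsPrime]
    (Q' : Ideal R) [Q'.IsPrime] (hQQ : Q' = Q) (hQ : Q = P.comap f)
    (h : (Localization.localRingHom Q P f hQ).Flat) :
    (Localization.localRingHom Q' P f (hQQ.trans hQ)).Flat := by
  subst hQQ; exact h

theorem iff_flat [IsNoetherianRing R] : IsRegularRing R ↔ (frobenius R p).Flat := by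
  constructor
  · intro h
    refine RingHom.Flat.ofLocalizationPrime _ fun P hP => ?_
    haveI := charP_localization p P
    have hQ : P.comap (frobenius R p) = P := comap_frobenius p P
    have hreg : IsRegularLocalRing (Localization.AtPrime P) := isRegularRing_iff.1 h P
    haveI := hreg
    have hflat : (frobenius (Localization.AtPrime P) p).Flat := Lib.WildAS.Purity.flat_frob p (Localization.AtPrime P)
    rw [← localRingHom_frobenius p P] at hflat
    exact flat_congr (frobenius R p) P P _ (comap_frobenius p P) _ hflat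
  · intro h
    refine isRegularRing_iff.2 fun P _ => ?_
    haveI := charP_localization p P
    refine regular_of_flat p ?_
    rw [← localRingHom_frobenius p P]
    exact h.localRingHom P P _

end Groth.Agent.H2.Kunz
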