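import Groth.Agent.Lib.FSAdic.Basic
import Groth.Agent.Lib.Adic.Complete
import Groth.Agent.Lib.Excellent.CompletionTopology
import Mathlib.RingTheory.AdicCompletion.Completeness
import Mathlib.RingTheory.AdicCompletion.LocalRing
import Mathlib.RingTheory.Smooth.Basic

/-! Lifting finite maps to completions of smooth algebras. -/

set_option autoImplicit false
set_option linter.style.haveILetI false

universe u

namespace Groth.Agent.H2.LiftCpl

open Groth.Agent.Lib

theorem exists_lift {V : Type u} [CommRing V] (I : Ideal V) (A C : Type u) [CommRing A] [Algebra V A]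
    [Algebra.FormallySmooth V A] [CommRing C] [Algebra V C]
    (hA : (I.map (algebraMap V A)).FG) (hC : (I.map (algebraMap V C)).FG)
    (φ₀ : (A ⧸ I.map (algebraMap V A)) →ₐ[V] (C ⧸ I.map (algebraMap V C)))
    (hφ₀ : φ₀.toRingHom.Finite) :
    ∃ φ : AdicCompletion (I.map (algebraMap V A)) A →ₐ[V]
        AdicCompletion (I.map (algebraMap V C)) C,
      φ.toRingHom.Finite ∧
      (AdicCompletion.evalOneₐ (I.map (algebraMap V C))).toRingHom.comp φ.toRingHom =
        φ₀.toRingHom.comp (AdicCompletion.evalOneₐ (I.map (algebraMap V A))).toRingHom := by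
  let a := I.map (algebraMap V A)
  have ha : a = I.map (algebraMap V A) := rfl
  let c := I.map (algebraMap V C)
  let A' := AdicCompletion a A
  let C' := AdicCompletion c C
  let 𝔞 : Ideal A' := a.map (algebraMap A A')
  let 𝔠 : Ideal C' := c.map (algebraMap C C')
  haveI : IsAdicComplete 𝔞 A' := AdicCompletion.isAdicComplete_self a hA
  haveI : IsAdicComplete 𝔠 C' := AdicCompletion.isAdicComplete_self c hC
  let evA : A' →ₐ[V] A ⧸ a := (AdicCompletion.evalOneₐ a).restrictScalars V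
  let evC : C' →ₐ[V] C ⧸ c := (AdicCompletion.evalOneₐ c).restrictScalars V
  have hkA : RingHom.ker evA.toRingHom = 𝔞 := AdicCompletion.ker_evalOneₐ_eq_map a hA
  have hkC : RingHom.ker evC.toRingHom = 𝔠 := AdicCompletion.ker_evalOneₐ_eq_map c hC
  have hsC : Function.Surjective evC := AdicCompletion.evalOneₐ_surjective c
  let e : (C' ⧸ 𝔠) ≃ₐ[V] C ⧸ c :=
    (Ideal.quotientEquivAlgOfEq V hkC.symm).trans (Ideal.quotientKerAlgEquivOfSurjective hsC)
  have he : ∀ x, e (Ideal.Quotient.mk 𝔠 x) = evC x := fun x => rfl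
  let u : A →ₐ[V] C' ⧸ 𝔠 := (e.symm.toAlgHom.comp φ₀).comp (Ideal.Quotient.mkₐ V a)
  haveI : IsHausdorff (𝔠.map (Ideal.Quotient.mk 𝔠)) (C' ⧸ 𝔠) := by
    rw [Ideal.map_quotient_self]; exact IsHausdorff.bot (C' ⧸ 𝔠)
  obtain ⟨v, -, hv⟩ := FSAdic.Basic.exists_lift_complete (𝔞 := (⊥ : Ideal V)) (𝔟 := a)
    FSAdic.Basic.of_formallySmooth 𝔠 ⟨1, by simp⟩ 𝔠 ⟨1, by rw [pow_one]⟩ u
    ⟨1, by
      rw [pow_one, Ideal.map_quotient_self, Ideal.map_le_iff_le_comap]
      intro x hx
      rw [Ideal.mem_comap, Ideal.mem_bot]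
      show e.symm (φ₀ (Ideal.Quotient.mk a x)) = 0
      rw [Ideal.Quotient.eq_zero_iff_mem.2 hx, map_zero, map_zero]⟩
  have hva : a.map v.toRingHom ≤ 𝔠 := by
    rw [ha, Ideal.map_map, show v.toRingHom.comp (algebraMap V A) = algebraMap V C' from v.comp_algebraMap]
    exact le_of_eq (by
      show _ = (I.map (algebraMap V C)).map (algebraMap C C')
      rw [Ideal.map_map, ← IsScalarTower.algebraMap_eq])
  have hpow : ∀ n, a ^ n ≤ (𝔠 ^ n).comap v.toRingHom := fun n => by
    rw [← Ideal.map_le_iff_le_comap, Ideal.map_pow]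
    exact Ideal.pow_right_mono hva n
  let f : (n : ℕ) → A' →ₐ[V] C' ⧸ 𝔠 ^ n := fun n =>
    (Ideal.quotientMapₐ (𝔠 ^ n) v (hpow n)).comp ((AdicCompletion.evalₐ a n).restrictScalars V)
  have hf : ∀ {m n : ℕ} (hle : m ≤ n),
      (Ideal.Quotient.factorₐ V (Ideal.pow_le_pow_right hle)).comp (f n) = f m := by
    intro m n hle
    refine AlgHom.ext fun x => ?_
    obtain ⟨y, hy⟩ := Ideal.Quotient.mk_surjective (AdicCompletion.evalₐ a n x)
    have hm : AdicCompletion.evalₐ a m x = Ideal.Quotient.mk (a ^ m) y := by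
      rw [← Excellent.CompletionTopology.factor_evalₐ hle x, ← hy]
      rfl
    show Ideal.Quotient.factorₐ V (Ideal.pow_le_pow_right hle : 𝔠 ^ n ≤ 𝔠 ^ m)
        (Ideal.quotientMapₐ (𝔠 ^ n) v (hpow n) (AdicCompletion.evalₐ a n x)) =
      Ideal.quotientMapₐ (𝔠 ^ m) v (hpow m) (AdicCompletion.evalₐ a m x)
    rw [hm, ← hy]
    rfl
  let φ : A' →ₐ[V] C' := IsAdicComplete.liftAlgHom 𝔠 f hf
  have hcomp : evC.comp φ = φ₀.comp evA := by
    refine AlgHom.ext fun x => ?_
    obtain ⟨y, hy⟩ := Ideal.Quotient.mk_surjective (AdicCompletion.evalₐ a 1 x)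
    have h1 : Ideal.Quotient.mk (𝔠 ^ 1) (φ x) = f 1 x := IsAdicComplete.mk_liftAlgHom 𝔠 f hf 1 x
    have h2 : f 1 x = Ideal.Quotient.mk (𝔠 ^ 1) (v y) := by
      show Ideal.quotientMapₐ (𝔠 ^ 1) v (hpow 1) (AdicCompletion.evalₐ a 1 x) = _
      rw [← hy]; rfl
    rw [h2, Ideal.Quotient.mk_eq_mk_iff_sub_mem, pow_one] at h1
    have h3 : evC (φ x) = evC (v y) := by
      rw [← sub_eq_zero, ← map_sub]
      exact RingHom.mem_ker.1 (hkC.symm ▸ h1 : φ x - v y ∈ RingHom.ker evC.toRingHom)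
    have h4 : evA x = Ideal.Quotient.mk a y := by
      show Ideal.Quotient.factorₐ A (show a ^ 1 ≤ a by simp) (AdicCompletion.evalₐ a 1 x) = _
      rw [← hy]; rfl
    show evC (φ x) = φ₀ (evA x)
    rw [h3, h4, ← he]
    have h5 : Ideal.Quotient.mk 𝔠 (v y) = e.symm (φ₀ (Ideal.Quotient.mk a y)) := AlgHom.congr_fun hv y
    rw [h5, AlgEquiv.apply_symm_apply]
  refine ⟨φ, ?_, RingHom.ext fun x => AlgHom.congr_fun hcomp x⟩
  -- finiteness
  letI : Algebra A' C' := φ.toRingHom.toAlgebra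
  show Module.Finite A' C'
  have hmap : 𝔞.map (algebraMap A' C') = 𝔠 := by
    show ((I.map (algebraMap V A)).map (algebraMap A A')).map φ.toRingHom = (I.map (algebraMap V C)).map (algebraMap C C')
    rw [Ideal.map_map (algebraMap V A) (algebraMap A A'), ← IsScalarTower.algebraMap_eq V A A',
      Ideal.map_map (algebraMap V C) (algebraMap C C'), ← IsScalarTower.algebraMap_eq V C C', Ideal.map_map,
      show φ.toRingHom.comp (algebraMap V A') = algebraMap V C' from φ.comp_algebraMap]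
  haveI : IsHausdorff (𝔞.map (algebraMap A' C')) C' := by rw [hmap]; infer_instance
  haveI : IsHausdorff 𝔞 C' := IsHausdorff.map_algebraMap_iff.mp this
  refine Adic.Complete.finite_of_finite_quotient (I := 𝔞) ?_
  letI : Algebra A' (C ⧸ c) := (evC.toRingHom.comp (algebraMap A' C')).toAlgebra
  haveI hfin : Module.Finite A' (C ⧸ c) := by
    show (evC.toRingHom.comp (algebraMap A' C')).Finite
    rw [show evC.toRingHom.comp (algebraMap A' C') = φ₀.toRingHom.comp evA.toRingHom from
      RingHom.ext fun x => AlgHom.congr_fun hcomp x]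
    exact hφ₀.comp (RingHom.Finite.of_surjective _ (AdicCompletion.evalOneₐ_surjective a))
  let evL : C' →ₗ[A'] C ⧸ c :=
    { toFun := evC
      map_add' := map_add evC
      map_smul' := fun r x => by
        rw [Algebra.smul_def, map_mul, RingHom.id_apply, Algebra.smul_def]
        rfl }
  have hker : (𝔞 • ⊤ : Submodule A' C') = LinearMap.ker evL := by
    rw [Ideal.smul_top_eq_map, hmap]
    ext x
    rw [Submodule.restrictScalars_mem, ← hkC]
    rfl
  rw [hker]
  exact Module.Finite.equiv (LinearMap.quotKerEquivOfSurjective evL hsC).symm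

end Groth.Agent.H2.LiftCpl
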