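import Groth.Agent.Lib.Cohen.PowerSeriesN2
import Mathlib.RingTheory.MvPowerSeries.Equiv
import Mathlib.RingTheory.MvPowerSeries.NoZeroDivisors
import Mathlib.RingTheory.PowerSeries.Ideal

/-!
# Power series in several variables over a Japanese domain
-/

set_option autoImplicit false

universe u

namespace Groth.Agent.H2.PowerSeriesN2

theorem isN2_mv {A : Type u} [CommRing A] [IsDomain A] [IsNoetherianRing A] (hA : CAlg.IsN2 A) (r : ℕ) :
    ∃ (_ : IsDomain (MvPowerSeries (Fin r) A)),
      IsNoetherianRing (MvPowerSeries (Fin r) A) ∧ CAlg.IsN2 (MvPowerSeries (Fin r) A) := by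
  induction r with
  | zero =>
    let e : MvPowerSeries (Fin 0) A ≃+* A :=
      { toFun := MvPowerSeries.constantCoeff
        invFun := MvPowerSeries.C
        left_inv := fun f => MvPowerSeries.ext fun m => by
          have : m = 0 := Subsingleton.elim _ _
          subst this
          simp
        right_inv := fun a => MvPowerSeries.constantCoeff_C a
        map_mul' := map_mul _
        map_add' := map_add _ }
    haveI : IsDomain (MvPowerSeries (Fin 0) A) := e.toMulEquiv.isDomain A
    exact ⟨inferInstance, isNoetherianRing_of_ringEquiv A e.symm,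
      Lib.Excellent.Nagata.isN2_of_ringEquiv e.symm hA⟩
  | succ n ih =>
    obtain ⟨hd, hn, h⟩ := ih
    let e := (MvPowerSeries.finSuccEquiv A n).toRingEquiv
    haveI : IsDomain (MvPowerSeries (Fin (n + 1)) A) := e.toMulEquiv.isDomain _
    exact ⟨inferInstance, isNoetherianRing_of_ringEquiv _ e.symm,
      Lib.Excellent.Nagata.isN2_of_ringEquiv e.symm (Lib.Cohen.PowerSeriesN2.isN2_powerSeries _ h)⟩

end Groth.Agent.H2.PowerSeriesN2
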