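import Mathlib.FieldTheory.PurelyInseparable.PerfectClosure
import Mathlib.FieldTheory.IsAlgClosed.AlgebraicClosure
import Mathlib.RingTheory.TensorProduct.Basic
import Mathlib.RingTheory.LocalRing.ResidueField.Basic
import Mathlib.RingTheory.LocalRing.RingHom.Basic
import Mathlib.RingTheory.Ideal.GoingUp
import Mathlib.RingTheory.IntegralClosure.IsIntegralClosure.Basic

/-!
# Local tensor products: integral with purely inseparable residue extension on the other side
-/

set_option autoImplicit false
set_option linter.style.haveILetI false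

universe u

open IsLocalRing TensorProduct

namespace Groth.Agent.H2.PurInsepLocal

variable (A B C : Type u) [CommRing A] [IsLocalRing A]
    [CommRing B] [IsLocalRing B] [Algebra A B] [IsLocalHom (algebraMap A B)]
    [CommRing C] [IsLocalRing C] [Algebra A C] [IsLocalHom (algebraMap A C)] [Algebra.IsIntegral A C]

theorem isIntegral_left : Algebra.IsIntegral B (B ⊗[A] C) :=
  Algebra.IsIntegral.tensorProduct ..

theorem comap_left (M : Ideal (B ⊗[A] C)) [M.IsMaximal] :
    M.comap (Algebra.TensorProduct.includeLeft : B →ₐ[A] B ⊗[A] C).toRingHom = maximalIdeal B := by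
  haveI := isIntegral_left A B C
  exact eq_maximalIdeal (Ideal.isMaximal_comap_of_isIntegral_of_isMaximal (R := B) M)

theorem comap_right (M : Ideal (B ⊗[A] C)) [M.IsMaximal] :
    M.comap (Algebra.TensorProduct.includeRight : C →ₐ[A] B ⊗[A] C).toRingHom = maximalIdeal C := by
  haveI : (M.comap (Algebra.TensorProduct.includeRight : C →ₐ[A] B ⊗[A] C).toRingHom).IsPrime :=
    Ideal.comap_isPrime _ _
  refine eq_maximalIdeal (Ideal.isMaximal_of_isIntegral_of_isMaximal_comap (R := A) _ ?_)
  have h : maximalIdeal A = (M.comap (Algebra.TensorProduct.includeRight : C →ₐ[A] B ⊗[A] C).toRingHom).comap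
      (algebraMap A C) := by
    refine (maximalIdeal.isMaximal A).eq_of_le (Ideal.IsPrime.ne_top inferInstance) fun r hr => ?_
    have h1 : algebraMap A B r ∈ M.comap (Algebra.TensorProduct.includeLeft : B →ₐ[A] B ⊗[A] C).toRingHom := by
      rw [comap_left]
      exact fun hu => hr (isUnit_of_map_unit (algebraMap A B) r hu)
    simp only [Ideal.mem_comap] at h1 ⊢
    rwa [AlgHom.toRingHom_eq_coe, RingHom.coe_coe, AlgHom.commutes] at h1 ⊢
  exact h ▸ maximalIdeal.isMaximal A

theorem isLocalRing [IsPurelyInseparable (ResidueField A) (ResidueField B)] : IsLocalRing (B ⊗[A] C) := by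
  let Ω := AlgebraicClosure (ResidueField B)
  letI : Algebra (ResidueField A) Ω :=
    ((algebraMap (ResidueField B) Ω).comp (algebraMap (ResidueField A) (ResidueField B))).toAlgebra
  haveI : Algebra.IsAlgebraic (ResidueField A) (ResidueField C) := by
    refine ⟨fun z => IsIntegral.isAlgebraic ?_⟩
    obtain ⟨c, rfl⟩ := residue_surjective (R := C) z
    exact ((Algebra.IsIntegral.isIntegral (R := A) c).map (IsScalarTower.toAlgHom A C (ResidueField C))).tower_top
  let σ : ResidueField C →ₐ[ResidueField A] Ω := IsAlgClosed.lift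
  letI : Algebra A Ω := ((algebraMap (ResidueField A) Ω).comp (residue A)).toAlgebra
  let fC : C →ₐ[A] Ω := ⟨σ.toRingHom.comp (residue C), fun r => σ.commutes (residue A r)⟩
  let fB : B →ₐ[A] Ω := ⟨(algebraMap (ResidueField B) Ω).comp (residue B), fun _ => rfl⟩
  let ψ : B ⊗[A] C →ₐ[A] Ω := Algebra.TensorProduct.lift fB fC fun _ _ => Commute.all _ _
  haveI : Nontrivial (B ⊗[A] C) := ψ.toRingHom.domain_nontrivial
  obtain ⟨M, hM⟩ := Ideal.exists_maximal (B ⊗[A] C)
  refine IsLocalRing.of_unique_max_ideal ⟨M, hM, fun N hN => ?_⟩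
  let q := ringExpChar (ResidueField A)
  let J := (maximalIdeal B).map (Algebra.TensorProduct.includeLeft : B →ₐ[A] B ⊗[A] C).toRingHom
  have hJ : ∀ P : Ideal (B ⊗[A] C), P.IsMaximal → J ≤ P := fun P hP =>
    Ideal.map_le_iff_le_comap.2 (comap_left A B C P).ge
  haveI : Nontrivial ((B ⊗[A] C) ⧸ J) :=
    Ideal.Quotient.nontrivial_iff.2 fun h => hM.ne_top (top_le_iff.1 (h ▸ hJ M hM))
  letI : CommRing ((B ⊗[A] C) ⧸ J) := inferInstance
  let T := (B ⊗[A] C) ⧸ J
  let φ : ResidueField A →+* T := Ideal.Quotient.lift (maximalIdeal A) ((Ideal.Quotient.mk J).comp (algebraMap A _))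
    fun r hr => Ideal.Quotient.eq_zero_iff_mem.2 (by
      rw [IsScalarTower.algebraMap_apply A B (B ⊗[A] C)]
      exact Ideal.mem_map_of_mem _ fun hu => hr (isUnit_of_map_unit (algebraMap A B) r hu))
  haveI : ExpChar T q := expChar_of_injective_ringHom (RingHom.injective φ) q
  letI : Algebra C T := ((Ideal.Quotient.mk J).comp
    (Algebra.TensorProduct.includeRight : C →ₐ[A] B ⊗[A] C).toRingHom).toAlgebra
  have key : ∀ x : B ⊗[A] C, Ideal.Quotient.mk J x ∈ Subalgebra.perfectClosure C T q := by
    intro x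
    induction x using TensorProduct.induction_on with
    | zero => rw [map_zero]; exact zero_mem _
    | add a b ha hb => rw [map_add]; exact add_mem ha hb
    | tmul b c =>
      rw [show b ⊗ₜ[A] c = b ⊗ₜ[A] 1 * (1 : B) ⊗ₜ[A] c by simp, map_mul]
      refine mul_mem ?_ (Subalgebra.algebraMap_mem _ c)
      obtain ⟨n, a, ha⟩ := IsPurelyInseparable.pow_mem (ResidueField A) q (residue B b)
      obtain ⟨a, rfl⟩ := residue_surjective (R := A) a
      refine Subalgebra.mem_perfectClosure_iff.2 ⟨n, algebraMap A C a, ?_⟩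
      rw [← map_pow]
      show Ideal.Quotient.mk J ((1 : B) ⊗ₜ[A] algebraMap A C a) = Ideal.Quotient.mk J _
      rw [Algebra.TensorProduct.tmul_pow, one_pow,
        show (1 : B) ⊗ₜ[A] algebraMap A C a = algebraMap A B a ⊗ₜ[A] (1 : C) by
          rw [Algebra.algebraMap_eq_smul_one, Algebra.algebraMap_eq_smul_one, TensorProduct.smul_tmul],
        Ideal.Quotient.eq, ← TensorProduct.sub_tmul]
      refine Ideal.mem_map_of_mem (Algebra.TensorProduct.includeLeft : B →ₐ[A] B ⊗[A] C).toRingHom ?_
      rw [← IsLocalRing.residue_eq_zero_iff, map_sub, map_pow, sub_eq_zero]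
      exact ha
  have hle : ∀ P Q : Ideal (B ⊗[A] C), P.IsMaximal → Q.IsMaximal → P ≤ Q := by
    intro P Q hP hQ x hx
    obtain ⟨n, c, hc⟩ := Subalgebra.mem_perfectClosure_iff.1 (key x)
    rw [← map_pow] at hc
    have hdiff : (1 : B) ⊗ₜ[A] c - x ^ q ^ n ∈ J := Ideal.Quotient.eq.1 hc
    have hq : 0 < q ^ n := pow_pos (expChar_pos T q) _
    have h1 : c ∈ P.comap (Algebra.TensorProduct.includeRight : C →ₐ[A] B ⊗[A] C).toRingHom := by
      have := P.add_mem (hJ P hP hdiff) (P.pow_mem_of_mem hx _ hq)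
      rwa [sub_add_cancel] at this
    haveI := hP
    rw [comap_right, ← comap_right A B C Q] at h1
    refine hQ.isPrime.mem_of_pow_mem (q ^ n) ?_
    have := Q.sub_mem h1 (hJ Q hQ hdiff)
    simpa using this
  exact le_antisymm (hle N M hN hM) (hle M N hM hN)

end Groth.Agent.H2.PurInsepLocal
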