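import Groth.Agent.H47.InjModel
import Groth.Agent.H22.FibreRegular
import Groth.Agent.Lib.Depth.Basic
import Mathlib

/-!
# Sequences regular on a fibre, finitely presented case (EGA IV 11.3.7)
-/

set_option autoImplicit false
set_option linter.style.haveILetI false
set_option linter.unusedSectionVars false

universe u

open TensorProduct RingTheory.Sequence
open scoped Pointwise

namespace Groth.Agent.H2.RegSeqFibre

open Groth.Agent.H47.InjFibre Groth.Agent.H47.InjCoker

variable {A B : Type u} [CommRing A] [CommRing B] [Algebra A B] (q : PrimeSpectrum B)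

local notation "p[" A "]" => pB A q

theorem isSMulRegular_of_kills {M : Type u} [AddCommGroup M] [Module B M] (g : B)
    (hk : ∀ z : M, g • z = 0 → ∃ s ∉ q.asIdeal, s • z = 0) :
    IsSMulRegular (LocalizedModule q.asIdeal.primeCompl M) g := by
  rw [isSMulRegular_iff_right_eq_zero_of_smul]
  intro x hx
  obtain ⟨⟨z, s⟩, rfl⟩ := IsLocalizedModule.mk'_surjective q.asIdeal.primeCompl
    (LocalizedModule.mkLinearMap q.asIdeal.primeCompl M) x
  simp only [Function.uncurry_apply_pair] at hx ⊢
  rw [← IsLocalizedModule.mk'_smul, IsLocalizedModule.mk'_eq_zero'] at hx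
  obtain ⟨t, ht⟩ := hx
  rw [Submonoid.smul_def, smul_comm] at ht
  obtain ⟨s', hs', hz⟩ := hk _ ht
  rw [IsLocalizedModule.mk'_eq_zero']
  exact ⟨⟨s', hs'⟩ * t, by rw [mul_smul]; exact hz⟩

/-- `M_q/g M_q` is `(M/gM)_q`. -/
noncomputable def quotEquiv (M : Type u) [AddCommGroup M] [Module B M] (g : B) :
    QuotSMulTop g (LocalizedModule q.asIdeal.primeCompl M) ≃ₗ[B]
      LocalizedModule q.asIdeal.primeCompl (QuotSMulTop g M) :=
  ((QuotSMulTop.congr g
      ((LocalizedModule.equivTensorProduct q.asIdeal.primeCompl M).restrictScalars B)).trans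
    (QuotSMulTop.tensorQuotSMulTopEquivQuotSMulTop g (Localization q.asIdeal.primeCompl) M).symm).trans
    ((LocalizedModule.equivTensorProduct q.asIdeal.primeCompl (QuotSMulTop g M)).restrictScalars B).symm

/-- flatness at `q` transfers along `B`-isomorphisms -/
theorem flat_congr {M N : Type u} [AddCommGroup M] [Module A M] [Module B M] [IsScalarTower A B M]
    [AddCommGroup N] [Module A N] [Module B N] [IsScalarTower A B N] (e : M ≃ₗ[B] N)
    (h : Module.Flat A (LocalizedModule q.asIdeal.primeCompl N)) :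
    Module.Flat A (LocalizedModule q.asIdeal.primeCompl M) := by
  let e' := IsLocalizedModule.linearEquiv q.asIdeal.primeCompl
    (LocalizedModule.mkLinearMap q.asIdeal.primeCompl M)
    (LocalizedModule.mkLinearMap q.asIdeal.primeCompl N ∘ₗ e.toLinearMap)
  exact Module.Flat.of_linearEquiv (e'.restrictScalars A)

variable [Algebra.FinitePresentation A B]

/-- The main induction. -/
theorem main : ∀ (rs : List B) (M F : Type u) [AddCommGroup M] [Module A M] [Module B M]
    [IsScalarTower A B M] [Module.FinitePresentation B M] [AddCommGroup F] [Module B F]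
    (ψ : M →ₗ[B] F),
    (∀ z, ψ z = 0 ↔ ∃ t ∉ q.asIdeal, t • z ∈ p[A] • (⊤ : Submodule B M)) →
    (∀ f : F, ∃ s ∉ q.asIdeal, ∃ z, s • f = ψ z) →
    (∀ s ∉ q.asIdeal, Function.Bijective fun f : F => s • f) →
    Module.Flat A (LocalizedModule q.asIdeal.primeCompl M) → IsWeaklyRegular F rs →
    IsWeaklyRegular (LocalizedModule q.asIdeal.primeCompl M) rs ∧
      ∀ i, Module.Flat A (LocalizedModule q.asIdeal.primeCompl
        (M ⧸ (Ideal.ofList (rs.take i) • (⊤ : Submodule B M)))) := by
  intro rs
  induction rs with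
  | nil =>
    intro M F _ _ _ _ _ _ _ ψ hk hs hb hflat hreg
    refine ⟨IsWeaklyRegular.nil _ _, fun i => ?_⟩
    rw [List.take_nil]
    exact flat_congr q (Submodule.quotEquivOfEqBot _ (by rw [Ideal.ofList_nil, Submodule.bot_smul])) hflat
  | cons g rs ih =>
    intro M F _ _ _ _ _ _ _ ψ hk hs hb hflat hreg
    rw [isWeaklyRegular_cons_iff] at hreg
    have hfib : FibreInj A (LinearMap.lsmul B M g) q := by
      rintro z ⟨s, hsq, hz⟩
      have h0 : ψ (g • z) = 0 := (hk _).2 ⟨s, hsq, hz⟩
      rw [map_smul] at h0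
      exact (hk z).1 (hreg.1 (h0.trans (smul_zero g).symm))
    obtain ⟨hkills, hcoker⟩ :=
      Groth.Agent.H47.InjModel.injFlatAt_of_fibre (LinearMap.lsmul B M g) q hflat hfib
    have hr : LinearMap.range (LinearMap.lsmul B M g) = g • (⊤ : Submodule B M) := by
      rw [← Submodule.map_top]; rfl
    haveI : Module.FinitePresentation B (QuotSMulTop g M) :=
      Module.finitePresentation_of_surjective (g • (⊤ : Submodule B M)).mkQ (Submodule.mkQ_surjective _)
        (by rw [Submodule.ker_mkQ, ← hr, ← Submodule.map_top]; exact (Module.Finite.fg_top).map _)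
    have hflat' : Module.Flat A (LocalizedModule q.asIdeal.primeCompl (QuotSMulTop g M)) :=
      flat_congr q (Submodule.quotEquivOfEq _ _ hr.symm) hcoker
    let ψ' : QuotSMulTop g M →ₗ[B] QuotSMulTop g F := QuotSMulTop.map g ψ
    have hψ' : ∀ z : M, ψ' (Submodule.Quotient.mk z) = Submodule.Quotient.mk (ψ z) := fun z => rfl
    have hk' : ∀ z, ψ' z = 0 ↔ ∃ t ∉ q.asIdeal, t • z ∈ p[A] • (⊤ : Submodule B (QuotSMulTop g M)) := by
      intro z
      obtain ⟨z, rfl⟩ := Submodule.Quotient.mk_surjective _ z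
      have hmem : ∀ x : M, Submodule.Quotient.mk x ∈ p[A] • (⊤ : Submodule B (QuotSMulTop g M)) ↔
          x ∈ p[A] • (⊤ : Submodule B M) ⊔ g • (⊤ : Submodule B M) := by
        intro x
        have e1 : (p[A] • (⊤ : Submodule B (QuotSMulTop g M))) =
            (p[A] • (⊤ : Submodule B M)).map (g • (⊤ : Submodule B M)).mkQ := by
          rw [Submodule.map_smul'', Submodule.map_top, Submodule.range_mkQ]
        rw [e1, ← Submodule.mkQ_apply, ← Submodule.mem_comap, Submodule.comap_map_mkQ, sup_comm]
      rw [hψ', Submodule.Quotient.mk_eq_zero, Submodule.mem_smul_pointwise_iff_exists]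
      constructor
      · rintro ⟨f, -, hf⟩
        obtain ⟨s, hsq, w, hw⟩ := hs f
        have h0 : ψ (s • z - g • w) = 0 := by
          rw [map_sub, map_smul, map_smul, ← hw, ← hf, smul_comm, sub_self]
        obtain ⟨t, htq, ht⟩ := (hk _).1 h0
        refine ⟨t * s, fun hc => (q.2.mem_or_mem hc).elim htq hsq, ?_⟩
        rw [← Submodule.Quotient.mk_smul, hmem]
        refine Submodule.mem_sup.2 ⟨_, ht, t • g • w, ?_, ?_⟩
        · rw [Submodule.mem_smul_pointwise_iff_exists]
          exact ⟨t • w, trivial, smul_comm g t w⟩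
        · rw [smul_sub, mul_smul, sub_add_cancel]
      · rintro ⟨t, htq, ht⟩
        rw [← Submodule.Quotient.mk_smul, hmem] at ht
        obtain ⟨a, ha, b, hb', hab⟩ := Submodule.mem_sup.1 ht
        obtain ⟨w, -, rfl⟩ := (Submodule.mem_smul_pointwise_iff_exists _ _ _).1 hb'
        have ha0 : ψ a = 0 := (hk a).2 ⟨1, fun hc => q.2.ne_top ((Ideal.eq_top_iff_one _).2 hc),
          by rwa [one_smul]⟩
        have h1 : g • ψ w = t • ψ z := by
          rw [← map_smul, ← map_smul, ← hab, map_add, ha0, zero_add]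
        obtain ⟨f, hf⟩ := (hb t htq).2 (ψ w)
        refine ⟨f, trivial, (hb t htq).1 ?_⟩
        show t • g • f = t • ψ z
        rw [smul_comm, show t • f = ψ w from hf, h1]
    have hs' : ∀ f : QuotSMulTop g F, ∃ s ∉ q.asIdeal, ∃ z, s • f = ψ' z := by
      intro f
      obtain ⟨f, rfl⟩ := Submodule.Quotient.mk_surjective _ f
      obtain ⟨s, hsq, z, hz⟩ := hs f
      exact ⟨s, hsq, Submodule.Quotient.mk z, by rw [hψ', ← Submodule.Quotient.mk_smul, hz]⟩
    have hb' : ∀ s ∉ q.asIdeal, Function.Bijective fun f : QuotSMulTop g F => s • f := by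
      intro s hsq
      refine ⟨?_, fun f => ?_⟩
      · show IsSMulRegular (QuotSMulTop g F) s
        rw [isSMulRegular_iff_right_eq_zero_of_smul]
        intro f hf
        obtain ⟨f, rfl⟩ := Submodule.Quotient.mk_surjective _ f
        rw [← Submodule.Quotient.mk_smul, Submodule.Quotient.mk_eq_zero,
          Submodule.mem_smul_pointwise_iff_exists] at hf
        obtain ⟨f', -, hf'⟩ := hf
        obtain ⟨f'', hf''⟩ := (hb s hsq).2 f'
        rw [Submodule.Quotient.mk_eq_zero, Submodule.mem_smul_pointwise_iff_exists]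
        refine ⟨f'', trivial, (hb s hsq).1 ?_⟩
        show s • g • f'' = s • f
        rw [smul_comm, show s • f'' = f' from hf'', hf']
      · obtain ⟨f, rfl⟩ := Submodule.Quotient.mk_surjective _ f
        obtain ⟨f', hf'⟩ := (hb s hsq).2 f
        exact ⟨Submodule.Quotient.mk f', by
          show s • Submodule.Quotient.mk f' = _
          rw [← Submodule.Quotient.mk_smul, show s • f' = f from hf']⟩
    obtain ⟨hw, hfl⟩ := ih (QuotSMulTop g M) (QuotSMulTop g F) ψ' hk' hs' hb' hflat' hreg.2
    refine ⟨(isWeaklyRegular_cons_iff _ g rs).2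
      ⟨isSMulRegular_of_kills q g fun z hz => hkills z hz,
        ((quotEquiv q M g).isWeaklyRegular_congr rs).2 hw⟩, fun i => ?_⟩
    cases i with
    | zero =>
      rw [List.take_zero]
      exact flat_congr q (Submodule.quotEquivOfEqBot _ (by rw [Ideal.ofList_nil, Submodule.bot_smul])) hflat
    | succ i =>
      rw [List.take_succ_cons]
      exact flat_congr q (Submodule.quotOfListConsSMulTopEquivQuotSMulTopInner M g (rs.take i)) (hfl i)

set_option maxHeartbeats 1000000 in
/-- EGA IV 11.3.7. -/
theorem result (M : Type u) [AddCommGroup M] [Module A M] [Module B M] [IsScalarTower A B M]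
    [Module.FinitePresentation B M] (g : List B) (hg : ∀ b ∈ g, b ∈ q.asIdeal)
    (hflat : Module.Flat A (LocalizedModule q.asIdeal.primeCompl M))
    (hreg : IsRegular (LocalizedModule q.asIdeal.primeCompl
      (M ⊗[A] (q.asIdeal.comap (algebraMap A B)).ResidueField)) g) :
    IsRegular (LocalizedModule q.asIdeal.primeCompl M) g ∧
      ∀ i, Module.Flat A (LocalizedModule q.asIdeal.primeCompl
        (M ⧸ (Ideal.ofList (g.take i) • (⊤ : Submodule B M)))) := by
  set p := q.asIdeal.comap (algebraMap A B) with hp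
  let X := M ⊗[A] p.ResidueField
  let F := LocalizedModule q.asIdeal.primeCompl X
  let ι : M →ₗ[B] X :=
    { toFun := fun z => z ⊗ₜ[A] (1 : p.ResidueField)
      map_add' := fun x y => add_tmul x y _
      map_smul' := fun b x => rfl }
  let ψ : M →ₗ[B] F := LocalizedModule.mkLinearMap q.asIdeal.primeCompl X ∘ₗ ι
  have hres : ∀ y : M, y ∈ pB A q • (⊤ : Submodule B M) ↔ y ∈ p • (⊤ : Submodule A M) := by
    intro y
    rw [← Submodule.restrictScalars_mem A, pB, Ideal.smul_restrictScalars, Submodule.restrictScalars_top]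
  have hk : ∀ z, ψ z = 0 ↔ ∃ t ∉ q.asIdeal, t • z ∈ pB A q • (⊤ : Submodule B M) := by
    intro z
    rw [show ψ z = LocalizedModule.mkLinearMap q.asIdeal.primeCompl X (ι z) from rfl,
      IsLocalizedModule.eq_zero_iff q.asIdeal.primeCompl]
    constructor
    · rintro ⟨⟨s, hsq⟩, hs0⟩
      rw [Submonoid.smul_def, ← map_smul] at hs0
      obtain ⟨c, hc, hcm⟩ := (Groth.Agent.H22.FibreRegular.tmul_one_eq_zero_iff p (s • z)).1 hs0
      refine ⟨algebraMap A B c * s, fun h => (q.2.mem_or_mem h).elim hc hsq, ?_⟩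
      rw [hres, mul_smul, algebraMap_smul]
      exact hcm
    · rintro ⟨t, htq, ht⟩
      refine ⟨⟨t, htq⟩, ?_⟩
      rw [Submonoid.smul_def, ← map_smul]
      refine (Groth.Agent.H22.FibreRegular.tmul_one_eq_zero_iff p (t • z)).2
        ⟨1, fun h => Ideal.IsPrime.ne_top inferInstance ((Ideal.eq_top_iff_one p).2 h), ?_⟩
      rw [one_smul, ← hres]
      exact ht
  have hs : ∀ f : F, ∃ s ∉ q.asIdeal, ∃ z, s • f = ψ z := by
    intro f
    obtain ⟨⟨x, t⟩, hx⟩ := IsLocalizedModule.surj q.asIdeal.primeCompl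
      (LocalizedModule.mkLinearMap q.asIdeal.primeCompl X) f
    obtain ⟨c, hc, z, hz⟩ : ∃ c ∉ p, ∃ z : M, c • x = ι z := by
      clear hx
      induction x using TensorProduct.induction_on with
      | zero => exact ⟨1, fun h => Ideal.IsPrime.ne_top inferInstance ((Ideal.eq_top_iff_one p).2 h),
          0, by simp⟩
      | tmul m r =>
        obtain ⟨⟨a, s⟩, rfl⟩ := IsLocalization.mk'_surjective (nonZeroDivisors (A ⧸ p)) r
        obtain ⟨a, rfl⟩ := Ideal.Quotient.mk_surjective a
        obtain ⟨s, hs⟩ := s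
        obtain ⟨s, rfl⟩ := Ideal.Quotient.mk_surjective s
        refine ⟨s, fun h => nonZeroDivisors.ne_zero hs (Ideal.Quotient.eq_zero_iff_mem.2 h), a • m, ?_⟩
        show s • (m ⊗ₜ[A] _) = (a • m) ⊗ₜ[A] (1 : p.ResidueField)
        rw [← tmul_smul, smul_tmul]
        congr 1
        rw [Algebra.smul_def, Algebra.smul_def, mul_one,
          IsScalarTower.algebraMap_apply A (A ⧸ p) p.ResidueField,
          IsScalarTower.algebraMap_apply A (A ⧸ p) p.ResidueField, mul_comm]
        exact IsLocalization.mk'_spec _ _ _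
      | add x y hx hy =>
        obtain ⟨c, hc, z, hz⟩ := hx
        obtain ⟨d, hd, w, hw⟩ := hy
        refine ⟨c * d, fun h => (Ideal.IsPrime.mem_or_mem inferInstance h).elim hc hd, d • z + c • w, ?_⟩
        rw [smul_add, mul_comm, mul_smul, hz, mul_comm, mul_smul, hw, map_add,
          ← algebraMap_smul B d z, ← algebraMap_smul B c w, map_smul, map_smul, algebraMap_smul,
          algebraMap_smul]
    refine ⟨algebraMap A B c * t, fun h => (q.2.mem_or_mem h).elim hc t.2, z, ?_⟩
    rw [mul_smul]
    show algebraMap A B c • (t • f) = _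
    rw [hx]
    show algebraMap A B c • LocalizedModule.mkLinearMap _ X x = LocalizedModule.mkLinearMap _ X (ι z)
    rw [← map_smul, algebraMap_smul, hz]
  have hb : ∀ s ∉ q.asIdeal, Function.Bijective fun f : F => s • f := by
    intro s hsq
    have := IsLocalizedModule.map_units (LocalizedModule.mkLinearMap q.asIdeal.primeCompl X)
      (⟨s, hsq⟩ : q.asIdeal.primeCompl)
    rw [Module.End.isUnit_iff] at this
    exact this
  obtain ⟨hw, hfl⟩ := main q g M F ψ hk hs hb hflat hreg.toIsWeaklyRegular
  refine ⟨⟨hw, fun htop => ?_⟩, hfl⟩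
  haveI : Module.Finite (Localization.AtPrime q.asIdeal) (LocalizedModule q.asIdeal.primeCompl M) :=
    Module.Finite.of_isLocalizedModule q.asIdeal.primeCompl
      (LocalizedModule.mkLinearMap q.asIdeal.primeCompl M)
  haveI : Nontrivial (LocalizedModule q.asIdeal.primeCompl M) := by
    by_contra hnt
    rw [not_nontrivial_iff_subsingleton] at hnt
    have hF : Subsingleton F := by
      refine ⟨fun a b => ?_⟩
      have : ∀ f : F, f = 0 := by
        intro f
        obtain ⟨s, hsq, z, hz⟩ := hs f
        have hz0 : ψ z = 0 := by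
          have h0 : LocalizedModule.mkLinearMap q.asIdeal.primeCompl M z = 0 := Subsingleton.elim _ _
          obtain ⟨⟨t, htq⟩, ht⟩ := (IsLocalizedModule.eq_zero_iff q.asIdeal.primeCompl _).1 h0
          exact (hk z).2 ⟨t, htq, by rw [show t • z = 0 from ht]; exact zero_mem _⟩
        exact (hb s hsq).1 (show s • f = s • 0 by rw [hz, hz0, smul_zero])
      rw [this a, this b]
    exact hreg.top_ne_smul (Subsingleton.elim _ _)
  have hle : Ideal.ofList g ≤ q.asIdeal := Ideal.span_le.2 hg
  have h1 : q.asIdeal • (⊤ : Submodule B (LocalizedModule q.asIdeal.primeCompl M)) = ⊤ :=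
    top_le_iff.1 (htop.le.trans (Submodule.smul_mono_left hle))
  rw [Groth.Agent.Lib.Depth.Basic.smul_top_eq_top_iff_map (S := Localization.AtPrime q.asIdeal),
    Localization.AtPrime.map_eq_maximalIdeal] at h1
  exact Groth.Agent.Lib.Depth.Basic.smul_top_ne_top Ideal.IsPrime.ne_top' h1

end Groth.Agent.H2.RegSeqFibre
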