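import Groth.Agent.Lib.PuncturedLC.Punctured
import Groth.Agent.Lib.LCFin.PuncturedSections
import Groth.Prelude.Def_Formal2

/-!
# Sections of `M~` and limits of sections of `(M/f^n M)~`
-/

set_option autoImplicit false
set_option linter.style.haveILetI false

universe u

open CategoryTheory CategoryTheory.Limits AlgebraicGeometry TopologicalSpace Opposite
open Groth.Agent.H20.TildeSections (Sec res toU D res_toU res_res ext_of_generators)

namespace Groth.Agent.H2.SectLim

variable {A : Type u} [CommRing A]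

/-- Sections of the tilde of a module. -/
abbrev S (M : Type u) [AddCommGroup M] [Module A M] (V : (Spec (CommRingCat.of A)).Opens) : Type u :=
  Sec (ModuleCat.of A M) V

variable {M N P : Type u} [AddCommGroup M] [Module A M] [AddCommGroup N] [Module A N]
  [AddCommGroup P] [Module A P]

/-- Functoriality of sections. -/
noncomputable def smap (φ : M →ₗ[A] N) (V : (Spec (CommRingCat.of A)).Opens) : S M V →ₗ[A] S N V :=
  ((modulesSpecToSheaf.map
    (tilde.map (R := CommRingCat.of A) (ModuleCat.ofHom φ))).hom.app (op V)).hom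

theorem smap_toU (φ : M →ₗ[A] N) (V : (Spec (CommRingCat.of A)).Opens) (m : M) :
    smap φ V (toU (ModuleCat.of A M) V m) = toU (ModuleCat.of A N) V (φ m) :=
  Groth.Agent.Lib.PuncturedLC.sec_natural (ModuleCat.ofHom φ) V m

theorem smap_res (φ : M →ₗ[A] N) {V W : (Spec (CommRingCat.of A)).Opens} (h : W ≤ V) (s : S M V) :
    smap φ W (res (ModuleCat.of A M) h s) = res (ModuleCat.of A N) h (smap φ V s) :=
  ConcreteCategory.congr_hom ((modulesSpecToSheaf.map
    (tilde.map (R := CommRingCat.of A) (ModuleCat.ofHom φ))).hom.naturality (homOfLE h).op) s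

theorem exists_basic {V : (Spec (CommRingCat.of A)).Opens} {p : Spec (CommRingCat.of A)} (hp : p ∈ V) :
    ∃ g : A, D g ≤ V ∧ g ∉ p.asIdeal := by
  obtain ⟨_, ⟨_, ⟨g, rfl⟩, rfl⟩, hpg, hgV⟩ :=
    PrimeSpectrum.isBasis_basic_opens.exists_subset_of_mem_open hp V.2
  exact ⟨g, hgV, hpg⟩

theorem sext {V : (Spec (CommRingCat.of A)).Opens} {s t : S M V}
    (h : ∀ (g : A) (hg : D g ≤ V), res (ModuleCat.of A M) hg s = res (ModuleCat.of A M) hg t) : s = t :=
  ext_of_generators (ModuleCat.of A M) s t {g | D g ≤ V} (fun _ hg => hg)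
    (fun _ hp => exists_basic hp) h

theorem eq_on_basic {g : A} (ψ ψ' : S M (D g) →ₗ[A] S N (D g))
    (h : ∀ m : M, ψ (toU (ModuleCat.of A M) (D g) m) = ψ' (toU (ModuleCat.of A M) (D g) m)) : ψ = ψ' :=
  haveI := Groth.Agent.H20.TildeSections.isLocalizedModule_toU (ModuleCat.of A M) g
  haveI := Groth.Agent.H20.TildeSections.isLocalizedModule_toU (ModuleCat.of A N) g
  IsLocalizedModule.ext (Submonoid.powers g) (toU (ModuleCat.of A M) (D g))
    (IsLocalizedModule.map_units (toU (ModuleCat.of A N) (D g))) (LinearMap.ext h)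

theorem smap_comp (φ : M →ₗ[A] N) (ψ : N →ₗ[A] P) (V : (Spec (CommRingCat.of A)).Opens) (s : S M V) :
    smap ψ V (smap φ V s) = smap (ψ ∘ₗ φ) V s := by
  refine sext fun g hg => ?_
  rw [← smap_res, ← smap_res, ← smap_res]
  exact LinearMap.congr_fun (eq_on_basic (smap ψ (D g) ∘ₗ smap φ (D g)) (smap (ψ ∘ₗ φ) (D g)) fun m => by
    rw [LinearMap.comp_apply, smap_toU, smap_toU, smap_toU]
    rfl) _

theorem smap_smul_id (c : A) (V : (Spec (CommRingCat.of A)).Opens) (s : S M V) :
    smap (c • (LinearMap.id : M →ₗ[A] M)) V s = c • s := by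
  refine sext fun g hg => ?_
  rw [← smap_res, map_smul]
  exact LinearMap.congr_fun (eq_on_basic (smap (c • (LinearMap.id : M →ₗ[A] M)) (D g))
    (c • LinearMap.id) fun m => by
    rw [smap_toU, LinearMap.smul_apply, LinearMap.id_apply, LinearMap.smul_apply, LinearMap.id_apply,
      map_smul]) _

theorem smap_zero (V : (Spec (CommRingCat.of A)).Opens) (s : S M V) :
    smap (0 : M →ₗ[A] N) V s = 0 := by
  refine sext fun g hg => ?_
  rw [← smap_res, map_zero]
  exact LinearMap.congr_fun (eq_on_basic (smap (0 : M →ₗ[A] N) (D g)) 0 fun m => by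
    rw [smap_toU, LinearMap.zero_apply, LinearMap.zero_apply, map_zero]) _

theorem smul_eq_zero_of_killed (c : A) (hc : ∀ m : M, c • m = 0)
    (V : (Spec (CommRingCat.of A)).Opens) (s : S M V) : c • s = 0 := by
  rw [← smap_smul_id, show c • (LinearMap.id : M →ₗ[A] M) = 0 from LinearMap.ext hc, smap_zero]

/-- Sections over an open as a functor. -/
noncomputable abbrev secF (V : (Spec (CommRingCat.of A)).Opens) : ModuleCat.{u} A ⥤ AddCommGrpCat.{u} :=
  Groth.Agent.Lib.PuncturedLC.G A ⋙ sheafToPresheaf _ _ ⋙ (CategoryTheory.evaluation _ _).obj (op V)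

theorem smap_injective {φ : M →ₗ[A] N} (hφ : Function.Injective φ)
    (V : (Spec (CommRingCat.of A)).Opens) : Function.Injective (smap φ V) := by
  haveI : Mono (ModuleCat.ofHom φ) := (ModuleCat.mono_iff_injective _).2 hφ
  exact (AddCommGrpCat.mono_iff_injective ((secF V).map (ModuleCat.ofHom φ))).1 inferInstance

theorem smap_exact {φ : M →ₗ[A] N} {ψ : N →ₗ[A] P} (hφ : Function.Injective φ)
    (hex : Function.Exact φ ψ) (V : (Spec (CommRingCat.of A)).Opens) {s : S N V}
    (hs : smap ψ V s = 0) : ∃ t : S M V, smap φ V t = s := by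
  let T : ShortComplex (ModuleCat.{u} A) :=
    ShortComplex.mk (ModuleCat.ofHom φ) (ModuleCat.ofHom ψ)
      (ModuleCat.hom_ext hex.linearMap_comp_eq_zero)
  have hT : T.Exact := (ShortComplex.ShortExact.moduleCat_exact_iff_function_exact T).2 hex
  haveI : Mono T.f := (ModuleCat.mono_iff_injective _).2 hφ
  exact (ShortComplex.ab_exact_iff _).1
    (hT.map_of_mono_of_preservesKernel (secF V) inferInstance inferInstance) s hs

/-- Cancellation of an element invertible on the open. -/
theorem cancel {r : A} {V : (Spec (CommRingCat.of A)).Opens} (hV : V ≤ D r) {a b : S M V}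
    (h : r • a = r • b) : a = b := by
  refine sext fun g hg => ?_
  have h2 := congrArg (res (ModuleCat.of A M) hg) h
  rw [map_smul, map_smul] at h2
  rw [← sub_eq_zero]
  have h3 : r • (res (ModuleCat.of A M) hg a - res (ModuleCat.of A M) hg b) = 0 := by
    rw [smul_sub, h2, sub_self]
  refine Groth.Agent.H20.TildeSections.eq_zero_of_le_basicOpen (ModuleCat.of A M) (g := r * g) (n := 1)
    ?_ _ (by rw [pow_one, mul_comm, mul_smul, h3, smul_zero])
  exact le_antisymm
    (le_trans (le_inf (hg.trans hV) le_rfl) (PrimeSpectrum.basicOpen_mul r g).ge)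
    (PrimeSpectrum.basicOpen_mul_le_right r g)

/-! ### Finiteness of sections -/

open Groth.Agent.Lib.LocalCoh Groth.Agent.Lib.LCFin.Seq Groth.Agent.Lib.LCFin.PuncturedArt in
theorem finite_sections [IsNoetherianRing A] (I : Ideal A) (N : Type u) [AddCommGroup N] [Module A N]
    [Module.Finite A N] (hfin : Module.Finite A (LocCoh.H I 1 N)) :
    Module.Finite A (S N (LocCoh.puncturedOpen A I)) := by
  let t := toU (ModuleCat.of A N) (LocCoh.puncturedOpen A I)
  have hK := Groth.Agent.H20.TildeSections.powerTorsion_coker (ModuleCat.of A N) I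
  have hG := Groth.Agent.H20.TildeSections.torsion_sec (ModuleCat.of A N) I
  have key : ∀ m ∈ ⨆ n : ℕ, LocCoh.torsionBy (I ^ n) (ModuleCat.of A N),
      ∃ n : ℕ, ∀ a ∈ I ^ n, a • m = 0 := fun m hm => by
    refine Submodule.iSup_induction _ (motive := fun m => ∃ n : ℕ, ∀ a ∈ I ^ n, a • m = 0) hm ?_ ?_ ?_
    · exact fun n x hx => ⟨n, fun a ha => (Submodule.mem_torsionBySet_iff _ _).1 hx ⟨a, ha⟩⟩
    · exact ⟨0, fun a _ => smul_zero a⟩
    · rintro x y ⟨n, hn⟩ ⟨k, hk⟩
      exact ⟨n + k, fun a ha => by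
        rw [smul_add, hn a (Ideal.pow_le_pow_right (Nat.le_add_right n k) ha),
          hk a (Ideal.pow_le_pow_right (Nat.le_add_left k n) ha), add_zero]⟩
  have hker : LocCoh.IsPowerTorsion I (LinearMap.ker t) := by
    rintro ⟨m, hm⟩
    rw [Groth.Agent.H20.TildeSections.ker_toU (ModuleCat.of A N) I] at hm
    exact (key m hm).imp fun n hn a ha => Subtype.ext (hn a ha)
  have hex1 : Function.Exact (LinearMap.ker t).subtype t.rangeRestrict :=
    LinearMap.exact_iff.2 (by rw [LinearMap.ker_rangeRestrict, Submodule.range_subtype])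
  have h2 : Subsingleton (LocCoh.H I 2 (LinearMap.ker t)) :=
    lc_subsingleton_of_isPowerTorsion (I := I) 1 (ModuleCat.of A (LinearMap.ker t)) hker
  haveI := hfin
  haveI hR : Module.Finite A (LocCoh.H I 1 (LinearMap.range t)) :=
    Module.Finite.of_surjective (Hmap I 1 t.rangeRestrict) fun z =>
      (exact_map_δ I Subtype.val_injective t.surjective_rangeRestrict hex1 1 z).1 (h2.elim _ _)
  have hex2 : Function.Exact (LinearMap.range t).subtype (LinearMap.range t).mkQ :=
    LinearMap.exact_iff.2 (by rw [Submodule.ker_mkQ, Submodule.range_subtype])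
  let ζ := ((lcZeroIso I).app
    (ModuleCat.of A (S N (LocCoh.puncturedOpen A I) ⧸ LinearMap.range t))).toLinearEquiv
  let ι₀ := LinearEquiv.ofBijective
    ((DRing.gammaIι I).app (ModuleCat.of A (S N (LocCoh.puncturedOpen A I) ⧸ LinearMap.range t))).hom
    (gammaIι_bijective (I := I) _ hK)
  let γ : (S N (LocCoh.puncturedOpen A I) ⧸ LinearMap.range t) →ₗ[A] LocCoh.H I 1 (LinearMap.range t) :=
    δ I Subtype.val_injective (Submodule.mkQ_surjective _) hex2 0 ∘ₗ
      ((ι₀.symm.trans ζ.symm).toLinearMap)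
  have hγ : Function.Injective γ := by
    refine (injective_iff_map_eq_zero γ).2 fun z hz => ?_
    obtain ⟨y, hy⟩ := (exact_map_δ I Subtype.val_injective (Submodule.mkQ_surjective _) hex2 0 _).1 hz
    have hsub : Subsingleton (LocCoh.H I 0 (S N (LocCoh.puncturedOpen A I))) := by
      let ζ' := ((lcZeroIso I).app (ModuleCat.of A (S N (LocCoh.puncturedOpen A I)))).toLinearEquiv
      refine @Equiv.subsingleton _ _ ζ'.toEquiv (subsingleton_of_forall_eq 0 fun v => ?_)
      obtain ⟨n, hn⟩ := v.2
      have hv : (v.1 : S N (LocCoh.puncturedOpen A I)) ∈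
          (⨆ n : ℕ, LocCoh.torsionBy (I ^ n) (S N (LocCoh.puncturedOpen A I))) :=
        Submodule.mem_iSup_of_mem n ((Submodule.mem_torsionBySet_iff _ _).2 fun a => hn a.1 a.2)
      exact Subtype.ext ((Submodule.mem_bot A).1 (hG.le hv))
    rw [show y = 0 from hsub.elim y 0, map_zero] at hy
    exact (ι₀.symm.trans ζ.symm).injective (hy.symm.trans (map_zero _).symm)
  haveI : Module.Finite A (S N (LocCoh.puncturedOpen A I) ⧸ LinearMap.range t) :=
    Module.Finite.of_injective γ hγ
  haveI : Module.Finite A (LinearMap.range t) := inferInstance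
  exact Module.Finite.of_submodule_quotient (LinearMap.range t)

end Groth.Agent.H2.SectLim
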