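import Groth.Prelude.Def_CAlgX
import Groth.Agent.Lib.Regular45.QuasiReg
import Mathlib.RingTheory.Smooth.Basic
import Mathlib.RingTheory.MvPolynomial.Ideal

/-! Truncations along a regular sequence with formally smooth quotient. -/

set_option autoImplicit false
set_option linter.style.haveILetI false

universe u v

open MvPolynomial

namespace Groth.Agent.H2.TruncSection

variable {R : Type u} {A : Type v} [CommRing R] [CommRing A] [Algebra R A] {d : ℕ} (x : Fin d → A)

local notation "J" => Ideal.span (Set.range x)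
local notation "B" => A ⧸ Ideal.span (Set.range x)

theorem main (hq : CAlgX.IsQuasiRegular x) [Algebra.FormallySmooth R B] (N : ℕ) (hN : 1 ≤ N) :
    ∃ e : (A ⧸ J ^ N) ≃ₐ[R]
        (MvPolynomial (Fin d) B ⧸ Ideal.span (Set.range (X : Fin d → MvPolynomial (Fin d) B)) ^ N),
      (∀ i : Fin d, e (Ideal.Quotient.mk _ (x i)) = Ideal.Quotient.mk _ (X i)) ∧
      ∀ a : A, e (Ideal.Quotient.mk _ a) - Ideal.Quotient.mk _ (C (Ideal.Quotient.mk _ a)) ∈
        (Ideal.span (Set.range (X : Fin d → MvPolynomial (Fin d) B))).map (Ideal.Quotient.mk _) := by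
  classical
  let 𝔗 : Ideal (MvPolynomial (Fin d) B) := Ideal.span (Set.range X)
  let π : A →+* A ⧸ J ^ N := Ideal.Quotient.mk _
  let I : Ideal (A ⧸ J ^ N) := Ideal.map π J
  have hI : IsNilpotent I := ⟨N, by rw [← Ideal.map_pow, Ideal.map_quotient_self]; rfl⟩
  have hle : J ^ N ≤ J := Ideal.pow_le_self (by omega)
  let e₀ : B ≃ₐ[R] (A ⧸ J ^ N) ⧸ I :=
    ((Ideal.quotientEquivAlgOfEq R (sup_eq_right.mpr hle)).symm).trans
      (DoubleQuot.quotQuotEquivQuotSupₐ R (J ^ N) J).symm
  let σ : B →ₐ[R] A ⧸ J ^ N := Algebra.FormallySmooth.lift I hI e₀.toAlgHom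
  have hσ : ∀ a, σ (Ideal.Quotient.mk J a) - π a ∈ I := fun a => by
    rw [← Ideal.Quotient.mk_eq_mk_iff_sub_mem, Algebra.FormallySmooth.mk_lift]
    rfl
  let Φ : MvPolynomial (Fin d) B →ₐ[R] A ⧸ J ^ N :=
    { eval₂Hom σ.toRingHom (fun i => π (x i)) with
      commutes' := fun r => by
        show eval₂Hom σ.toRingHom _ (algebraMap R (MvPolynomial (Fin d) B) r) = _
        rw [IsScalarTower.algebraMap_apply R B (MvPolynomial (Fin d) B), algebraMap_eq, eval₂Hom_C]
        exact σ.commutes r }
  have hΦX : ∀ i, Φ (X i) = π (x i) := fun i => eval₂Hom_X' _ _ i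
  have hΦC : ∀ b, Φ (C b) = σ b := fun b => eval₂Hom_C _ _ b
  have hΦT : ∀ p ∈ 𝔗, Φ p ∈ I := fun p hp => by
    have : 𝔗 ≤ I.comap Φ.toRingHom := by
      rw [Ideal.span_le]
      rintro _ ⟨i, rfl⟩
      show Φ (X i) ∈ I
      rw [hΦX]
      exact Ideal.mem_map_of_mem _ (Ideal.subset_span ⟨i, rfl⟩)
    exact this hp
  have hTI : 𝔗.map Φ.toRingHom ≤ I := Ideal.map_le_iff_le_comap.2 fun p hp => hΦT p hp
  -- a homogeneous polynomial and its reduction
  have hkey : ∀ (m : ℕ) (Q : MvPolynomial (Fin d) A), Q.IsHomogeneous m →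
      Φ (MvPolynomial.map (Ideal.Quotient.mk J) Q) - π (eval x Q) ∈ (J ^ (m + 1)).map π := by
    intro m Q hQ
    have h1 : Φ (MvPolynomial.map (Ideal.Quotient.mk J) Q) =
        eval₂ (σ.toRingHom.comp (Ideal.Quotient.mk J)) (fun i => π (x i)) Q := eval₂_map _ _ _ _
    have h2 : π (eval x Q) = eval₂ π (fun i => π (x i)) Q := by
      rw [← eval₂_id, eval₂_comp_left π (RingHom.id A) x Q]
      rfl
    rw [h1, h2, eval₂_eq, eval₂_eq, ← Finset.sum_sub_distrib]
    refine sum_mem fun c hc => ?_
    rw [← sub_mul, pow_succ', Ideal.map_mul]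
    refine Ideal.mul_mem_mul (hσ _) ?_
    have hdeg : Finsupp.degree c = m := by
      rw [Finsupp.degree_eq_weight_one]
      exact hQ (mem_support_iff.1 hc)
    rw [show ∏ i ∈ c.support, π (x i) ^ c i = π (∏ i ∈ c.support, x i ^ c i) by simp]
    refine Ideal.mem_map_of_mem π ?_
    rw [← hdeg, Finsupp.degree_apply, ← Finset.prod_pow_eq_pow_sum]
    exact Ideal.prod_mem_prod fun i _ => Ideal.pow_mem_pow (Ideal.subset_span (Set.mem_range_self i)) _
  have hsurj : Function.Surjective Φ := by
    have : ∀ j ≤ N, ∀ a ∈ J ^ (N - j), ∃ p, Φ p = π a := by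
      intro j
      induction j with
      | zero => exact fun _ a ha => ⟨0, by rw [map_zero]; exact (Ideal.Quotient.eq_zero_iff_mem.2 ha).symm⟩
      | succ j ih =>
        intro hj a ha
        obtain ⟨Q, hQ, rfl⟩ := (Ideal.mem_span_pow_iff_exists_isHomogeneous x a).mp ha
        obtain ⟨b, hb, hbe⟩ := (Ideal.mem_map_iff_of_surjective π Ideal.Quotient.mk_surjective).1
          (hkey _ Q hQ)
        obtain ⟨p, hp⟩ := ih (by omega) b (by rwa [show N - (j + 1) + 1 = N - j by omega] at hb)
        exact ⟨MvPolynomial.map (Ideal.Quotient.mk J) Q - p, by rw [map_sub, hp, hbe]; ring⟩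
    intro y
    obtain ⟨a, rfl⟩ := Ideal.Quotient.mk_surjective y
    exact this N le_rfl a (by simp)
  have hker : RingHom.ker Φ.toRingHom = 𝔗 ^ N := by
    refine le_antisymm (fun p hp => ?_) ?_
    · have hp0 : Φ p = 0 := hp
      show p ∈ idealOfVars (Fin d) B ^ N
      rw [mem_pow_idealOfVars_iff]
      by_contra! h
      obtain ⟨c₀, hc₀, hc₀N⟩ := h
      -- the lowest degree
      have hex : ∃ m, ∃ c ∈ p.support, Finsupp.degree c = m := ⟨_, c₀, hc₀, rfl⟩
      let m := Nat.find hex
      have hmN : m < N := lt_of_le_of_lt (Nat.find_le ⟨c₀, hc₀, rfl⟩) hc₀N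
      obtain ⟨c, hc, hcm⟩ := Nat.find_spec hex
      obtain ⟨Q, hQ⟩ := map_surjective (Ideal.Quotient.mk J) Ideal.Quotient.mk_surjective p
      let Qm := homogeneousComponent m Q
      have hrest : MvPolynomial.map (Ideal.Quotient.mk J) Qm - p ∈ idealOfVars (Fin d) B ^ (m + 1) := by
        rw [mem_pow_idealOfVars_iff]
        intro e he
        by_contra hlt
        rw [mem_support_iff, coeff_sub, coeff_map, coeff_homogeneousComponent] at he
        refine he ?_
        split_ifs with hem
        · rw [← coeff_map, hQ, sub_self]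
        · rw [map_zero, zero_sub, neg_eq_zero]
          by_contra hne
          exact hem (le_antisymm (by omega) (Nat.find_le ⟨e, mem_support_iff.2 hne, rfl⟩))
      have hΦ1 : Φ (MvPolynomial.map (Ideal.Quotient.mk J) Qm) ∈ (J ^ (m + 1)).map π := by
        have h1 : Φ (MvPolynomial.map (Ideal.Quotient.mk J) Qm - p) ∈ I ^ (m + 1) := by
          have := Ideal.mem_map_of_mem Φ.toRingHom hrest
          rw [Ideal.map_pow] at this
          exact Ideal.pow_right_mono hTI _ this
        rwa [map_sub, hp0, sub_zero, ← Ideal.map_pow] at h1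
      have h2 : π (eval x Qm) ∈ (J ^ (m + 1)).map π := by
        have := sub_mem hΦ1 (hkey m Qm (homogeneousComponent_isHomogeneous m Q))
        rwa [sub_sub_cancel] at this
      have h3 : eval x Qm ∈ J ^ (m + 1) := by
        obtain ⟨b, hb, hbe⟩ := (Ideal.mem_map_iff_of_surjective π Ideal.Quotient.mk_surjective).1 h2
        have := Ideal.pow_le_pow_right (show m + 1 ≤ N by omega)
          ((Ideal.Quotient.mk_eq_mk_iff_sub_mem _ _).1 hbe)
        simpa using sub_mem hb this
      have h4 := hq m Qm (homogeneousComponent_isHomogeneous m Q) h3 c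
      refine mem_support_iff.1 hc ?_
      rw [← hQ, coeff_map]
      rw [coeff_homogeneousComponent, if_pos hcm] at h4
      exact Ideal.Quotient.eq_zero_iff_mem.2 h4
    · intro p hp
      have := Ideal.mem_map_of_mem Φ.toRingHom hp
      rw [Ideal.map_pow] at this
      have h2 := Ideal.pow_right_mono hTI N this
      rw [← Ideal.map_pow, Ideal.map_quotient_self, Ideal.mem_bot] at h2
      exact h2
  let f : (MvPolynomial (Fin d) B ⧸ 𝔗 ^ N) ≃ₐ[R] A ⧸ J ^ N :=
    (Ideal.quotientEquivAlgOfEq R hker.symm).trans (Ideal.quotientKerAlgEquivOfSurjective hsurj)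
  have hf : ∀ p, f (Ideal.Quotient.mk _ p) = Φ p := fun p => rfl
  refine ⟨f.symm, fun i => ?_, fun a => ?_⟩
  · rw [AlgEquiv.symm_apply_eq, hf, hΦX]
  · obtain ⟨p, hp⟩ := Ideal.Quotient.mk_surjective (f.symm (π a))
    show f.symm (π a) - _ ∈ _
    rw [← hp, ← map_sub]
    have hΦp : Φ p = π a := by rw [← hf, hp, AlgEquiv.apply_symm_apply]
    -- the constant term
    have h0 : Φ p - σ (constantCoeff p) ∈ I := by
      rw [← hΦC, ← map_sub]
      refine hΦT _ ?_
      rw [show 𝔗 = idealOfVars (Fin d) B from rfl, ← pow_one (idealOfVars (Fin d) B), mem_pow_idealOfVars_iff]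
      intro e he
      by_contra hlt
      have : e = 0 := (Finsupp.degree_eq_zero_iff e).1 (by omega)
      subst this
      simp [constantCoeff_eq] at he
    have h1 : σ (constantCoeff p - Ideal.Quotient.mk J a) ∈ I := by
      rw [map_sub]
      have := sub_mem (neg_mem h0) (hσ a)
      rwa [hΦp, show -(π a - σ (constantCoeff p)) - (σ (Ideal.Quotient.mk J a) - π a) =
        σ (constantCoeff p) - σ (Ideal.Quotient.mk J a) by ring] at this
    have h2 : constantCoeff p = Ideal.Quotient.mk J a := by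
      rw [← sub_eq_zero]
      have := Algebra.FormallySmooth.mk_lift I hI e₀.toAlgHom (constantCoeff p - Ideal.Quotient.mk J a)
      rw [Ideal.Quotient.eq_zero_iff_mem.2 h1] at this
      exact e₀.injective (this.symm.trans (map_zero e₀).symm)
    refine Ideal.mem_map_of_mem _ ?_
    show _ ∈ idealOfVars (Fin d) B
    rw [← pow_one (idealOfVars (Fin d) B), mem_pow_idealOfVars_iff]
    intro e he
    by_contra hlt
    have : e = 0 := (Finsupp.degree_eq_zero_iff e).1 (by omega)
    subst this
    simp [← h2, constantCoeff_eq] at he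

end Groth.Agent.H2.TruncSection
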